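import Groth.Agent.Lib.Helper7.RootD.Deletion

/-! Root data over `ℤ`: faithfulness of the Weyl group on roots, decomposition of automorphisms. -/

set_option linter.unusedSectionVars false

namespace Groth.Agent.Helper7.RD

open RootPairing _root_.RootD Set Function

variable {ι M N : Type*} [AddCommGroup M] [AddCommGroup N] {P : RootPairing ι ℤ M N}
  {Δ : Set ι}

lemma image_mul_smul (g h : P.Aut) (S : Set ι) :
    (fun i => (g * h) • i) '' S = (fun i => g • i) '' ((fun i => h • i) '' S) := by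
  rw [image_image]
  simp only [mul_smul]

lemma image_inv_smul_image_smul (g : P.Aut) (S : Set ι) :
    (fun i => g⁻¹ • i) '' ((fun i => g • i) '' S) = S := by
  rw [image_image]
  simp

lemma image_smul_image_inv_smul (g : P.Aut) (S : Set ι) :
    (fun i => g • i) '' ((fun i => g⁻¹ • i) '' S) = S := by
  rw [image_image]
  simp

variable [Finite ι]

/-- An element of the Weyl group stabilising a simple system is trivial. -/
lemma eq_one_of_image_eq (hΔ : IsSimpleSys P Δ) {w : P.Aut} (hw : w ∈ P.weylGroup)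
    (h : (fun i => w • i) '' Δ = Δ) : w = 1 := by
  rw [← WΔ_eq_weylGroup hΔ] at hw
  apply eq_one_of_smul_mem_posOf hΔ hw
  intro i hi
  apply subset_posOf hΔ
  rw [← h]
  exact ⟨i, hi, rfl⟩

/-- S5452 -/
lemma weylGroupToPerm_injective (P : RootPairing ι ℤ M N) :
    Function.Injective P.weylGroupToPerm := by
  rw [injective_iff_map_eq_one]
  intro w hw
  obtain ⟨Δ, hΔ⟩ := exists_isSimpleSys P
  have h1 : ∀ i : ι, (w : P.Aut) • i = i := by
    intro i
    have := congrArg (fun σ : Equiv.Perm ι => σ i) hw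
    exact this
  have : (w : P.Aut) = 1 := by
    apply eq_one_of_image_eq hΔ w.2
    ext i
    simp [h1]
  exact Subtype.ext this

/-- S5479 -/
lemma existsUnique_weyl_stabiliser (hΔ : IsSimpleSys P Δ) (u : P.Aut) :
    ∃! w : P.weylGroup, (fun i : ι => ((w : P.Aut)⁻¹ * u) • i) '' Δ = Δ := by
  obtain ⟨g, hg, hgu⟩ := exists_smul_eq_of_isSimpleSys hΔ (isSimpleSys_smul u hΔ)
  refine ⟨⟨g, hg⟩, ?_, ?_⟩
  · change (fun i : ι => (g⁻¹ * u) • i) '' Δ = Δ
    rw [image_mul_smul, ← hgu, image_inv_smul_image_smul]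
  · rintro ⟨w, hw⟩ hwu
    change (fun i : ι => (w⁻¹ * u) • i) '' Δ = Δ at hwu
    rw [image_mul_smul, ← hgu] at hwu
    -- `w⁻¹ g` stabilises `Δ`
    have h1 : (fun i : ι => (w⁻¹ * g) • i) '' Δ = Δ := by
      rw [image_mul_smul]
      exact hwu
    have h2 := eq_one_of_image_eq hΔ (mul_mem (inv_mem hw) hg) h1
    apply Subtype.ext
    change w = g
    exact (inv_mul_eq_one.mp h2)

end Groth.Agent.Helper7.RD
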