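import Groth.Agent.Lib.Helper7.RootD.Conj

/-! Root data over `ℤ`: simple systems versus positive systems, transitivity of the Weyl group. -/

namespace Groth.Agent.Helper7.RD

open RootPairing _root_.RootD Set Function

variable {ι M N : Type*} [AddCommGroup M] [AddCommGroup N] {P : RootPairing ι ℤ M N}
  {Δ : Set ι}

variable [Finite ι]

/-- A simple system is determined by its set of positive roots. -/
lemma eq_of_posOf_eq {Δ₁ Δ₂ : Set ι} (h₁ : IsSimpleSys P Δ₁) (h₂ : IsSimpleSys P Δ₂)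
    (h : posOf P Δ₁ = posOf P Δ₂) : Δ₁ = Δ₂ := by
  ext k
  constructor
  · intro hk
    have hk1 : k ∈ posOf P Δ₁ := subset_posOf h₁ hk
    have := (mem_iff_not_exists_add h₁ hk1).mp hk
    rw [h] at this hk1
    exact (mem_iff_not_exists_add h₂ hk1).mpr this
  · intro hk
    have hk2 : k ∈ posOf P Δ₂ := subset_posOf h₂ hk
    have := (mem_iff_not_exists_add h₂ hk2).mp hk
    rw [← h] at this hk2
    exact (mem_iff_not_exists_add h₁ hk2).mpr this

/-- For a simple system `Δ` and a closed set `P'` with (P 2), some element of the group generated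
by the reflections of `Δ` maps the positive roots into `P'`. -/
lemma exists_smul_posOf_subset (hΔ : IsSimpleSys P Δ) {P' : Set ι}
    (hP2 : ∀ i, i ∈ P' ∨ P.reflectionPerm i i ∈ P') (hcl : IsClosedSub P P') :
    ∃ w ∈ WΔ P Δ, (fun i : ι => w • i) '' posOf P Δ ⊆ P' := by
  obtain ⟨w, hw, h⟩ := exists_mul_smul_posOf_subset hΔ hP2 hcl 1
  refine ⟨w, hw, ?_⟩
  rintro _ ⟨k, hk, rfl⟩
  simpa using h k hk

/-- A positive system contains a simple system. -/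
lemma exists_isSimpleSys_subset {S : Set ι} (hS : IsPosSys P S) :
    ∃ Δ, IsSimpleSys P Δ ∧ Δ ⊆ S := by
  obtain ⟨Δ₀, hΔ₀⟩ := exists_isSimpleSys P
  obtain ⟨w, -, hw⟩ := exists_smul_posOf_subset hΔ₀ hS.cover (isClosedSub_of_isPosSys hS)
  refine ⟨_, isSimpleSys_smul w hΔ₀, ?_⟩
  exact (image_mono (subset_posOf hΔ₀)).trans hw

/-- A positive system contains exactly one simple system. -/
lemma existsUnique_isSimpleSys_subset {S : Set ι} (hS : IsPosSys P S) :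
    ∃! Δ : Set ι, IsSimpleSys P Δ ∧ Δ ⊆ S := by
  obtain ⟨Δ, hΔ, hΔS⟩ := exists_isSimpleSys_subset hS
  refine ⟨Δ, ⟨hΔ, hΔS⟩, ?_⟩
  rintro Δ' ⟨hΔ', hΔ'S⟩
  apply eq_of_posOf_eq hΔ' hΔ
  rw [← (subset_iff_eq_posOf hΔ hS).mp hΔS, ← (subset_iff_eq_posOf hΔ' hS).mp hΔ'S]

/-- Every positive system is the set of positive roots of a simple system. -/
lemma exists_eq_posOf {S : Set ι} (hS : IsPosSys P S) :
    ∃ Δ, IsSimpleSys P Δ ∧ S = posOf P Δ := by
  obtain ⟨Δ, hΔ, hΔS⟩ := exists_isSimpleSys_subset hS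
  exact ⟨Δ, hΔ, (subset_iff_eq_posOf hΔ hS).mp hΔS⟩

/-- S5453 -/
lemma exists_smul_subset {S : Set ι} (hS : IsPosSys P S) {P' : Set ι}
    (hP2 : ∀ i : ι, i ∈ P' ∨ P.reflectionPerm i i ∈ P') (hcl : IsClosedSub P P') :
    ∃ g : P.Aut, g ∈ P.weylGroup ∧ (fun i : ι => g • i) '' S ⊆ P' := by
  obtain ⟨Δ, hΔ, rfl⟩ := exists_eq_posOf hS
  obtain ⟨w, hw, h⟩ := exists_smul_posOf_subset hΔ hP2 hcl
  exact ⟨w, WΔ_le_weylGroup Δ hw, h⟩

/-- S5454 -/
lemma exists_smul_eq_of_isPosSys {S S' : Set ι} (hS : IsPosSys P S) (hS' : IsPosSys P S') :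
    ∃ g : P.Aut, g ∈ P.weylGroup ∧ (fun i : ι => g • i) '' S = S' := by
  obtain ⟨g, hg, h⟩ := exists_smul_subset hS hS'.cover (isClosedSub_of_isPosSys hS')
  exact ⟨g, hg, eq_of_subset_of_isPosSys (isPosSys_smul g hS) h hS'.disjoint⟩

/-- S5455 -/
lemma exists_smul_eq_of_isSimpleSys {Δ Δ' : Set ι} (hΔ : IsSimpleSys P Δ)
    (hΔ' : IsSimpleSys P Δ') :
    ∃ g : P.Aut, g ∈ P.weylGroup ∧ (fun i : ι => g • i) '' Δ = Δ' := by
  obtain ⟨g, hg, h⟩ := exists_smul_eq_of_isPosSys (isPosSys_posOf hΔ) (isPosSys_posOf hΔ')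
  refine ⟨g, hg, eq_of_posOf_eq (isSimpleSys_smul g hΔ) hΔ' ?_⟩
  rw [posOf_smul, h]

/-- S5456 -/
lemma isPosSys_iff (S : Set ι) :
    IsPosSys P S ↔ ((∀ i ∈ S, P.reflectionPerm i i ∉ S) ∧
      (∀ i : ι, i ∈ S ∨ P.reflectionPerm i i ∈ S) ∧ IsClosedSub P S) := by
  constructor
  · intro hS
    exact ⟨fun i hi => hS.disjoint hi, hS.cover, isClosedSub_of_isPosSys hS⟩
  · rintro ⟨h1, h2, h3⟩
    obtain ⟨Δ₀, hΔ₀⟩ := exists_isSimpleSys P
    obtain ⟨w, -, hw⟩ := exists_smul_posOf_subset hΔ₀ h2 h3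
    have hT := isPosSys_smul w (isPosSys_posOf hΔ₀)
    rw [← eq_of_subset_of_isPosSys hT hw (fun i hi => h1 i hi)]
    exact hT

end Groth.Agent.Helper7.RD
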