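import Groth.Agent.Lib.Helper7.RootD.Partition
import Mathlib.LinearAlgebra.RootSystem.Finite.Nondegenerate

/-! Root data over `ℤ`: the canonical bilinear form and lengths of roots. -/

set_option linter.unusedSectionVars false

namespace Groth.Agent.Helper7.RD

open RootPairing _root_.RootD Set Function

variable {ι M N : Type*} [AddCommGroup M] [AddCommGroup N] (P : RootPairing ι ℤ M N)
  [Finite ι] [Fintype ι]

lemma rootForm_mul_pairing (i j : ι) :
    P.RootForm (P.root i) (P.root i) * P.pairing j i = 2 * P.RootForm (P.root i) (P.root j) := by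
  have := congrArg (P.toLinearMap (P.root j)) (P.rootForm_self_smul_coroot i)
  rw [map_smul, map_nsmul, P.toLinearMap_apply_apply_Polarization, P.root_coroot_eq_pairing] at this
  simpa using this

lemma rootForm_pairing_symm (i j : ι) :
    P.RootForm (P.root i) (P.root i) * P.pairing j i =
      P.RootForm (P.root j) (P.root j) * P.pairing i j := by
  rw [rootForm_mul_pairing, rootForm_mul_pairing]
  have := P.rootForm_symmetric.eq (P.root i) (P.root j)
  simp only [RingHom.id_apply] at this
  rw [this]

lemma rootForm_root_pos (i : ι) : 0 < P.RootForm (P.root i) (P.root i) :=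
  P.rootForm_pos_of_ne_zero (Submodule.subset_span (mem_range_self i)) (P.ne_zero i)

lemma corootForm_eq (i : ι) :
    P.CorootForm (P.coroot i) (P.coroot i) = P.flip.RootForm (P.flip.root i) (P.flip.root i) :=
  rfl

/-- S5487 -/
lemma rootForm_mul_corootForm_eq (i j : ι) (h : ¬ P.IsOrthogonal i j) :
    P.RootForm (P.root i) (P.root i) * P.CorootForm (P.coroot i) (P.coroot i) =
      P.RootForm (P.root j) (P.root j) * P.CorootForm (P.coroot j) (P.coroot j) := by
  have hp : P.pairing i j ≠ 0 := fun h0 => h ⟨h0, (P.pairing_eq_zero_iff').mp h0⟩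
  have hq : P.pairing j i ≠ 0 := fun h0 => hp ((P.pairing_eq_zero_iff').mp h0)
  have h1 := rootForm_pairing_symm P i j
  have h2 := rootForm_pairing_symm P.flip i j
  rw [← corootForm_eq, ← corootForm_eq] at h2
  simp only [pairing_flip] at h2
  have h3 : (P.RootForm (P.root i) (P.root i) * P.CorootForm (P.coroot i) (P.coroot i)) *
      (P.pairing j i * P.pairing i j) =
      (P.RootForm (P.root j) (P.root j) * P.CorootForm (P.coroot j) (P.coroot j)) *
      (P.pairing j i * P.pairing i j) := by
    calc _ = (P.RootForm (P.root i) (P.root i) * P.pairing j i) *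
          (P.CorootForm (P.coroot i) (P.coroot i) * P.pairing i j) := by ring
      _ = (P.RootForm (P.root j) (P.root j) * P.pairing i j) *
          (P.CorootForm (P.coroot j) (P.coroot j) * P.pairing j i) := by rw [h1, h2]
      _ = _ := by ring
  exact mul_right_cancel₀ (mul_ne_zero hq hp) h3

/-- S5469 -/
lemma exists_smul_eq_of_rootForm_eq (i j : ι) (hno : ¬ P.IsOrthogonal i j)
    (hl : P.RootForm (P.root i) (P.root i) = P.RootForm (P.root j) (P.root j)) :
    ∃ g : P.Aut, g ∈ P.weylGroup ∧ g • i = j := by
  have hp : P.pairing i j ≠ 0 := fun h0 => hno ⟨h0, (P.pairing_eq_zero_iff').mp h0⟩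
  have hpq : P.pairing j i = P.pairing i j := by
    have h1 := rootForm_pairing_symm P i j
    rw [hl] at h1
    exact mul_left_cancel₀ (rootForm_root_pos P j).ne' h1
  have hmem := P.pairingIn_pairingIn_mem_set_of_isCrystallographic i j
  simp only [pairingIn_eq, hpq] at hmem
  have hcases : P.pairing i j = 1 ∨ P.pairing i j = -1 ∨ P.pairing i j = 2 ∨
      P.pairing i j = -2 := by
    simp only [mem_insert_iff, mem_singleton_iff, Prod.ext_iff] at hmem
    omega
  have : Module.IsReflexive ℤ M := isReflexive_left P
  have hsi := P.reflection_mem_weylGroup i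
  have hsj := P.reflection_mem_weylGroup j
  rcases hcases with h | h | h | h
  · refine ⟨Equiv.reflection P j * Equiv.reflection P i * Equiv.reflection P j,
      mul_mem (mul_mem hsj hsi) hsj, ?_⟩
    apply P.root.injective
    rw [root_smul, mul_smul, mul_smul]
    simp only [Equiv.reflection_smul, P.reflection_apply_root, map_sub,
      map_smul, h, hpq, P.pairing_same]
    module
  · refine ⟨Equiv.reflection P i * Equiv.reflection P j, mul_mem hsi hsj, ?_⟩
    apply P.root.injective
    rw [root_smul, mul_smul]
    simp only [Equiv.reflection_smul, P.reflection_apply_root, map_sub,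
      map_smul, h, hpq, P.pairing_same]
    module
  · exact ⟨1, one_mem _, by
      rw [one_smul]
      exact (P.pairing_two_two_iff i j).mp ⟨h, hpq.trans h⟩⟩
  · refine ⟨Equiv.reflection P i, hsi, ?_⟩
    apply P.root.injective
    have := (P.pairing_neg_two_neg_two_iff i j).mp ⟨h, hpq.trans h⟩
    rw [root_smul]
    simp only [Equiv.reflection_smul, P.reflection_apply_self]
    rw [this, _root_.neg_neg]


/-- the canonical form is invariant under automorphisms -/
lemma rootForm_smul_smul (g : P.Aut) (x y : M) :
    P.RootForm (g • x) (g • y) = P.RootForm x y := by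
  rw [P.rootForm_apply_apply, P.rootForm_apply_apply]
  refine Fintype.sum_equiv (Equiv.indexHom P g⁻¹) _ _ fun i => ?_
  have h1 : ∀ z : M, P.coroot' i (g • z) = P.coroot' ((Equiv.indexHom P g⁻¹) i) z := by
    intro z
    have := toLinearMap_smul_coroot_smul g z (g⁻¹ • i)
    rw [smul_inv_smul] at this
    exact this
  rw [h1, h1]

lemma rootForm_root_smul (g : P.Aut) (i : ι) :
    P.RootForm (P.root (g • i)) (P.root (g • i)) = P.RootForm (P.root i) (P.root i) := by
  rw [root_smul, rootForm_smul_smul]

lemma not_isOrthogonal_self (i : ι) : ¬ P.IsOrthogonal i i := by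
  intro h
  have := h.1
  rw [P.pairing_same] at this
  omega

/-- All roots are linked when there is no non-trivial partition into closed symmetric subsets. -/
lemma linked_of_irreducible
    (hirr : ∀ R' : Set ι, IsClosedSub P R' → IsSymmSub P R' → IsClosedSub P R'ᶜ →
      IsSymmSub P R'ᶜ → R' = ∅ ∨ R' = Set.univ) (i j : ι) : Linked P i j := by
  obtain ⟨hc, hs, hc', hs'⟩ := linked_class P i
  rcases hirr _ hc hs hc' hs' with h | h
  · have hi : i ∈ {j : ι | Linked P i j} := Relation.ReflTransGen.refl
    rw [h] at hi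
    exact absurd hi (notMem_empty i)
  · have : j ∈ {j : ι | Linked P i j} := h ▸ mem_univ j
    exact this

lemma pairing_reflectionPerm_left (k o k' : ι) :
    P.pairing (P.reflectionPerm k o) k' = P.pairing o k' - P.pairing o k * P.pairing k k' := by
  rw [← P.root_coroot_eq_pairing, P.root_reflectionPerm, P.reflection_apply_root, map_sub,
    map_smul, LinearMap.sub_apply, LinearMap.smul_apply, P.root_coroot_eq_pairing,
    P.root_coroot_eq_pairing, smul_eq_mul]

/-- S5470 -/
lemma exists_smul_eq_of_irreducible
    (hirr : ∀ R' : Set ι, IsClosedSub P R' → IsSymmSub P R' → IsClosedSub P R'ᶜ →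
      IsSymmSub P R'ᶜ → R' = ∅ ∨ R' = Set.univ)
    (i j : ι) (hl : P.RootForm (P.root i) (P.root i) = P.RootForm (P.root j) (P.root j)) :
    ∃ g : P.Aut, g ∈ P.weylGroup ∧ g • i = j := by
  have key : ∀ k, Linked P i k → ∃ w : P.Aut, w ∈ P.weylGroup ∧ ¬ P.IsOrthogonal k (w • i) := by
    intro k hk
    induction hk with
    | refl => exact ⟨1, one_mem _, by rw [one_smul]; exact not_isOrthogonal_self P i⟩
    | @tail k k' _ hkk' ih =>
      obtain ⟨w, hw, hkw⟩ := ih
      by_cases h : P.IsOrthogonal k' (w • i)
      · refine ⟨Equiv.reflection P k * w, mul_mem (P.reflection_mem_weylGroup k) hw, ?_⟩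
        rw [mul_smul]
        intro hcon
        have h1 : P.pairing (P.reflectionPerm k (w • i)) k' = 0 := hcon.2
        rw [pairing_reflectionPerm_left, h.2, zero_sub, neg_eq_zero, mul_eq_zero] at h1
        rcases h1 with h1 | h1
        · exact hkw ⟨(P.pairing_eq_zero_iff').mp h1, h1⟩
        · exact hkk' ⟨h1, (P.pairing_eq_zero_iff').mp h1⟩
      · exact ⟨w, hw, h⟩
  obtain ⟨w, hw, hjw⟩ := key j (linked_of_irreducible P hirr i j)
  obtain ⟨g, hg, hgj⟩ := exists_smul_eq_of_rootForm_eq P (w • i) j
    (fun h => hjw h.symm) (by rw [rootForm_root_smul, hl])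
  exact ⟨g * w, mul_mem hg hw, by rw [mul_smul, hgj]⟩

omit [Fintype ι] in
/-- A set of roots orthogonal to its complement gives a partition into closed symmetric subsets. -/
lemma partition_of_orthogonal {R' : Set ι} (h : ∀ i ∈ R', ∀ j ∉ R', P.IsOrthogonal i j) :
    IsClosedSub P R' ∧ IsSymmSub P R' ∧ IsClosedSub P R'ᶜ ∧ IsSymmSub P R'ᶜ := by
  refine ⟨?_, ?_, ?_, ?_⟩
  · intro a b k ha hb hk
    by_contra hkR
    rcases not_isOrthogonal_of_add P hk with h1 | h1
    · exact h1 (h a ha k hkR)
    · exact h1 (h b hb k hkR)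
  · intro a ha
    by_contra hneg
    exact not_isOrthogonal_neg P a (h a ha _ hneg)
  · intro a b k ha hb hk hkR
    rcases not_isOrthogonal_of_add P hk with h1 | h1
    · exact h1 (h k hkR a ha).symm
    · exact h1 (h k hkR b hb).symm
  · intro a ha hneg
    exact not_isOrthogonal_neg P a (h _ hneg a ha).symm

/-- S5498 -/
lemma irreducible_flip
    (hirr : ∀ R' : Set ι, IsClosedSub P R' → IsSymmSub P R' → IsClosedSub P R'ᶜ →
      IsSymmSub P R'ᶜ → R' = ∅ ∨ R' = Set.univ) :
    (∀ R' : Set ι, IsClosedSub P.flip R' → IsSymmSub P.flip R' → IsClosedSub P.flip R'ᶜ →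
      IsSymmSub P.flip R'ᶜ → R' = ∅ ∨ R' = Set.univ) ∧
    ∀ i j : ι, P.RootForm (P.root i) (P.root i) * P.CorootForm (P.coroot i) (P.coroot i) =
      P.RootForm (P.root j) (P.root j) * P.CorootForm (P.coroot j) (P.coroot j) := by
  constructor
  · intro R' hc hs hc' hs'
    have horth : ∀ i ∈ R', ∀ j ∉ R', P.IsOrthogonal i j := by
      intro i hi j hj
      by_contra hij
      apply hj
      apply mem_of_not_isOrthogonal P.flip hc hs hc' hs' hi
      intro h'
      exact hij ⟨h'.2, h'.1⟩
    obtain ⟨h1, h2, h3, h4⟩ := partition_of_orthogonal P horth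
    exact hirr R' h1 h2 h3 h4
  · intro i j
    have hlink := linked_of_irreducible P hirr i j
    induction hlink with
    | refl => rfl
    | @tail k k' _ hkk' ih => rw [ih, rootForm_mul_corootForm_eq P k k' hkk']

end Groth.Agent.Helper7.RD
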