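import Groth.Agent.Lib.Helper7.RootD.PosSys

/-! Root data over `ℤ`: the action of automorphisms on sets of roots. -/

namespace Groth.Agent.Helper7.RD

open RootPairing _root_.RootD Set Function

variable {ι M N : Type*} [AddCommGroup M] [AddCommGroup N] {P : RootPairing ι ℤ M N}
  {Δ : Set ι}

lemma root_smul (g : P.Aut) (i : ι) : P.root (g • i) = g • P.root i :=
  Equiv.root_indexEquiv_eq_smul P i g

lemma reflection_smul_idx (i k : ι) : Equiv.reflection P i • k = P.reflectionPerm i k := rfl

lemma smul_neg_idx (g : P.Aut) (i : ι) : g • neg P i = neg P (g • i) := by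
  apply P.root.injective
  rw [root_smul, root_neg, root_neg, root_smul, smul_neg]

lemma smul_zsmul (g : P.Aut) (n : ℤ) (x : M) : g • (n • x) = n • (g • x) := smul_comm g n x

lemma smul_nsmul (g : P.Aut) (n : ℕ) (x : M) : g • (n • x) = n • (g • x) := by
  rw [← natCast_zsmul, smul_zsmul, natCast_zsmul]

lemma smul_injective (g : P.Aut) : Injective (fun x : M => g • x) :=
  MulAction.injective g

lemma natSpan_smul (g : P.Aut) (S : Set ι) :
    natSpan P ((fun i => g • i) '' S) =
      (natSpan P S).map (DistribSMul.toAddMonoidHom M g) := by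
  unfold natSpan
  rw [AddMonoidHom.map_mclosure, image_image, image_image]
  congr 1
  ext x
  simp [root_smul]

lemma smul_mem_natSpan_smul_iff (g : P.Aut) (S : Set ι) (x : M) :
    g • x ∈ natSpan P ((fun i => g • i) '' S) ↔ x ∈ natSpan P S := by
  rw [natSpan_smul]
  exact AddSubmonoid.mem_map_iff_mem (f := DistribSMul.toAddMonoidHom M g)
    (MulAction.injective g)

lemma mem_natSpan_smul_iff (g : P.Aut) (S : Set ι) (x : M) :
    x ∈ natSpan P ((fun i => g • i) '' S) ↔ g⁻¹ • x ∈ natSpan P S := by
  rw [← smul_mem_natSpan_smul_iff g S (g⁻¹ • x), smul_inv_smul]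

lemma posOf_smul (g : P.Aut) (Δ : Set ι) :
    posOf P ((fun i => g • i) '' Δ) = (fun i => g • i) '' posOf P Δ := by
  ext k
  simp only [posOf, mem_ofPred_eq, mem_image]
  constructor
  · intro h
    refine ⟨g⁻¹ • k, ?_, smul_inv_smul g k⟩
    rw [root_smul]
    exact (mem_natSpan_smul_iff g Δ _).mp h
  · rintro ⟨l, hl, rfl⟩
    rw [root_smul]
    exact (smul_mem_natSpan_smul_iff g Δ _).mpr hl

lemma isSimpleSys_smul (g : P.Aut) (hΔ : IsSimpleSys P Δ) :
    IsSimpleSys P ((fun i => g • i) '' Δ) where
  linInd := by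
    apply LinearIndepOn.image_of_comp
    have : P.root ∘ (fun i => g • i) = (Equiv.weightHom P g : M →ₗ[ℤ] M) ∘ P.root := by
      ext i
      exact root_smul g i
    rw [this]
    exact hΔ.linInd.map_injOn _ ((Equiv.weightHom P g).injective.injOn)
  mem_or_neg_mem := by
    intro i
    rcases hΔ.mem_or_neg_mem (g⁻¹ • i) with h | h
    · left
      rw [mem_natSpan_smul_iff, ← root_smul]
      exact h
    · right
      rw [mem_natSpan_smul_iff, smul_neg, ← root_smul]
      exact h

lemma isPosSys_smul (g : P.Aut) {S : Set ι} (hS : IsPosSys P S) :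
    IsPosSys P ((fun i => g • i) '' S) where
  disjoint := by
    rintro _ ⟨i, hi, rfl⟩ ⟨j, hj, hji⟩
    apply hS.disjoint hi
    have : j = neg P i := by
      apply MulAction.injective g
      change g • j = g • neg P i
      rw [smul_neg_idx]
      exact hji
    rw [this] at hj
    exact hj
  cover := by
    intro i
    rcases hS.cover (g⁻¹ • i) with h | h
    · left
      exact ⟨g⁻¹ • i, h, smul_inv_smul g i⟩
    · right
      refine ⟨_, h, ?_⟩
      change g • neg P (g⁻¹ • i) = neg P i
      rw [smul_neg_idx, smul_inv_smul]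
  sat := by
    intro k n hn h
    refine ⟨g⁻¹ • k, hS.sat n hn ?_, smul_inv_smul g k⟩
    rw [root_smul, ← smul_nsmul]
    exact (mem_natSpan_smul_iff g S _).mp h

lemma isClosedSub_of_isPosSys {S : Set ι} (hS : IsPosSys P S) : IsClosedSub P S := by
  intro i j k hi hj hk
  apply hS.sat 1 one_pos
  rw [one_smul, hk]
  exact add_mem (root_mem_natSpan P hi) (root_mem_natSpan P hj)

/-- A positive system contained in a set satisfying (P 1) is equal to it. -/
lemma eq_of_subset_of_isPosSys {S T : Set ι} (hS : IsPosSys P S) (hST : S ⊆ T)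
    (hT : ∀ ⦃i : ι⦄, i ∈ T → P.reflectionPerm i i ∉ T) : S = T := by
  apply Subset.antisymm hST
  intro k hk
  rcases hS.cover k with h | h
  · exact h
  · exact absurd (hST h) (hT hk)

end Groth.Agent.Helper7.RD
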