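import Groth.Agent.Lib.Helper7.RootD.Isogeny

/-! Root data over `ℤ`: the adjoint root datum on the root lattice, and S5501. -/

set_option linter.unusedSectionVars false

namespace Groth.Agent.Helper7.RD

open RootPairing _root_.RootD Set Function Module

variable {ι M N : Type*} [AddCommGroup M] [AddCommGroup N] (P : RootPairing ι ℤ M N)

section
variable [Finite ι] [Module.Finite ℤ M]

lemma free_span_root : Module.Free ℤ (Submodule.span ℤ (range P.root)) := by
  have := isAddTorsionFree_left P
  exact Module.free_of_finite_type_torsion_free'

lemma isReflexive_span_root : Module.IsReflexive ℤ (Submodule.span ℤ (range P.root)) := by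
  have := free_span_root P
  infer_instance

/-- The root datum with the same roots whose weight lattice is the root lattice. -/
noncomputable def adjPairing :
    RootPairing ι ℤ (Submodule.span ℤ (range P.root))
      (Module.Dual ℤ (Submodule.span ℤ (range P.root))) :=
  haveI := isReflexive_span_root P
  { toLinearMap := Module.Dual.eval ℤ (Submodule.span ℤ (range P.root))
    isPerfPair_toLinearMap := inferInstance
    root := ⟨fun i => ⟨P.root i, Submodule.subset_span (mem_range_self i)⟩, fun i j h =>
      P.root.injective (congrArg Subtype.val h)⟩
    coroot := ⟨fun i => (P.coroot' i).domRestrict _, fun i j h => by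
      have := isAddTorsionFree_left P
      have h1 := LinearMap.congr_fun h ⟨P.root i, Submodule.subset_span (mem_range_self i)⟩
      have h2 := LinearMap.congr_fun h ⟨P.root j, Submodule.subset_span (mem_range_self j)⟩
      simp only [LinearMap.domRestrict_apply, P.root_coroot'_eq_pairing, P.pairing_same] at h1 h2
      exact ((P.pairing_two_two_iff i j).mp ⟨h1.symm, h2⟩)⟩
    root_coroot_two := fun i => P.root_coroot_two i
    reflectionPerm := P.reflectionPerm
    reflectionPerm_root := fun i j => Subtype.ext (P.reflectionPerm_root i j)
    reflectionPerm_coroot := fun i j => by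
      ext v
      have := congrArg (P.toLinearMap (v : M)) (P.reflectionPerm_coroot i j)
      simpa using this }

/-- The inclusion of the adjoint datum. -/
noncomputable def adjHom : RootPairing.Hom (adjPairing P) P where
  weightMap := (Submodule.span ℤ (range P.root)).subtype
  coweightMap :=
    { toFun := fun n => (P.toLinearMap.flip n).domRestrict _
      map_add' := fun x y => by ext v; simp
      map_smul' := fun c x => by ext v; simp }
  indexEquiv := Equiv.refl ι
  weight_coweight_transpose := by
    ext n v
    rfl
  root_weightMap := by
    ext i
    rfl
  coroot_coweightMap := by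
    ext i v
    rfl

end

universe u v w

/-- S5501 -/
theorem adjoint_iff_isogeny_bijective {ι : Type u} {M : Type v} {N : Type w} [AddCommGroup M]
    [AddCommGroup N]
    (P : RootPairing ι ℤ M N) [Finite ι] [Module.Finite ℤ M] [Module.Finite ℤ N]
    (hss : Module.finrank ℤ (Submodule.span ℤ (Set.range P.root)) = Module.finrank ℤ M) :
    Submodule.span ℤ (Set.range P.root) = ⊤ ↔
      ∀ (ι' : Type u) (M' N' : Type v) [AddCommGroup M'] [AddCommGroup N'] [Finite ι']
        [Module.Finite ℤ M'] [Module.Finite ℤ N'] (P' : RootPairing ι' ℤ M' N')
        (f : RootPairing.Hom P' P),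
        Function.Injective f.weightMap → Finite (M ⧸ LinearMap.range f.weightMap) →
          Function.Bijective f.weightMap := by
  constructor
  · intro hadj ι' M' N' _ _ _ _ _ P' f hinj _
    refine ⟨hinj, ?_⟩
    rw [← LinearMap.range_eq_top, eq_top_iff, ← hadj]
    exact span_root_le_range_weightMap P P' f
  · intro h
    have hfree := free_span_root P
    have hfin : Module.Finite ℤ (Submodule.span ℤ (range P.root)) := inferInstance
    have hfin' : Module.Finite ℤ (Module.Dual ℤ (Submodule.span ℤ (range P.root))) :=
      inferInstance
    have hb := h ι (Submodule.span ℤ (range P.root))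
      (Module.Dual ℤ (Submodule.span ℤ (range P.root))) (adjPairing P) (adjHom P)
      (Submodule.subtype_injective _)
      (by
        have : LinearMap.range (adjHom P).weightMap = Submodule.span ℤ (range P.root) :=
          Submodule.range_subtype _
        rw [this]
        exact finite_quotient_span_root P hss)
    have hsurj : Function.Surjective (Submodule.span ℤ (range P.root)).subtype := hb.2
    rw [← LinearMap.range_eq_top, Submodule.range_subtype] at hsurj
    exact hsurj

end Groth.Agent.Helper7.RD
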