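import Groth.Agent.Lib.Helper7.RootD.Action

/-! Root data over `ℤ`: automorphisms, pairings and reflections. -/

namespace Groth.Agent.Helper7.RD

open RootPairing _root_.RootD Set Function

variable {ι M N : Type*} [AddCommGroup M] [AddCommGroup N] {P : RootPairing ι ℤ M N}

lemma toLinearMap_smul_apply (g : P.Aut) (y : M) (n : N) :
    P.toLinearMap (g • y) n = P.toLinearMap y (g.coweightMap n) := by
  have := Hom.weight_coweight_transpose_apply P P n g.toHom
  exact LinearMap.congr_fun this y

lemma coweightMap_coroot_smul (g : P.Aut) (i : ι) :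
    g.coweightMap (P.coroot (g • i)) = P.coroot i := by
  have := Hom.coroot_coweightMap_apply P P (g • i) g.toHom
  rw [this]
  congr 1
  exact g.indexEquiv.symm_apply_apply i

lemma toLinearMap_smul_coroot_smul (g : P.Aut) (y : M) (i : ι) :
    P.toLinearMap (g • y) (P.coroot (g • i)) = P.toLinearMap y (P.coroot i) := by
  rw [toLinearMap_smul_apply, coweightMap_coroot_smul]

lemma pairing_smul_smul (g : P.Aut) (i j : ι) : P.pairing (g • i) (g • j) = P.pairing i j := by
  rw [← P.root_coroot_eq_pairing, root_smul, toLinearMap_smul_coroot_smul,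
    P.root_coroot_eq_pairing]

lemma smul_reflection_apply (u : P.Aut) (i : ι) (x : M) :
    u • (P.reflection i x) = P.reflection (u • i) (u • x) := by
  rw [P.reflection_apply, P.reflection_apply, smul_sub, smul_zsmul, root_smul]
  have : (P.coroot' (u • i)) (u • x) = (P.coroot' i) x := toLinearMap_smul_coroot_smul u x i
  rw [this]

/-- S5503 -/
lemma conj_reflection (u : P.Aut) (i : ι) :
    u * Equiv.reflection P i * u⁻¹ = Equiv.reflection P (u • i) := by
  apply Equiv.weightHom_injective P
  ext x
  change u • (P.reflection i (u⁻¹ • x)) = P.reflection (u • i) x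
  rw [smul_reflection_apply, smul_inv_smul]

lemma reflection_mul_self (i : ι) : Equiv.reflection P i * Equiv.reflection P i = 1 := by
  have := Equiv.reflection_inv P i
  nth_rewrite 1 [← this]
  rw [inv_mul_cancel]

end Groth.Agent.Helper7.RD
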