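import Groth.Prelude.Def_W4sga3xxiRoot
import Mathlib.LinearAlgebra.RootSystem.Finite.Lemmas
import Mathlib.LinearAlgebra.RootSystem.WeylGroup
import Mathlib.LinearAlgebra.RootSystem.BaseExists
import Mathlib.Algebra.MvPolynomial.Funext

/-! Root data over `ℤ` (combinatorial theory of SGA3 XXI): basic helper lemmas. -/

namespace Groth.Agent.Helper7.RD

open RootPairing _root_.RootD Set Function

variable {ι M N : Type*} [AddCommGroup M] [AddCommGroup N] (P : RootPairing ι ℤ M N)

lemma pairingIn_eq (i j : ι) : P.pairingIn ℤ i j = P.pairing i j := by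
  simpa using P.algebraMap_pairingIn ℤ i j

include P in
lemma isReflexive_left : Module.IsReflexive ℤ M := .of_isPerfPair P.toLinearMap

include P in
lemma isReflexive_right : Module.IsReflexive ℤ N := .of_isPerfPair P.flip.toLinearMap

include P in
lemma isAddTorsionFree_left : IsAddTorsionFree M := by
  have := isReflexive_left P
  exact .of_isTorsionFree ℤ M

include P in
lemma isAddTorsionFree_right : IsAddTorsionFree N := isAddTorsionFree_left P.flip

/-- the index of the opposite root -/
abbrev neg (i : ι) : ι := P.reflectionPerm i i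

@[simp] lemma root_neg (i : ι) : P.root (neg P i) = -P.root i := by
  simp [neg]

@[simp] lemma coroot_neg (i : ι) : P.coroot (neg P i) = -P.coroot i := by
  simp [neg]

@[simp] lemma neg_neg (i : ι) : neg P (neg P i) = i := by
  apply P.root.injective
  rw [root_neg, root_neg, _root_.neg_neg]

lemma zsmul_root_eq_zero_iff {n : ℤ} {i : ι} : n • P.root i = 0 ↔ n = 0 := by
  have := isAddTorsionFree_left P
  constructor
  · intro h
    by_contra hn
    exact P.ne_zero i ((smul_eq_zero_iff_right hn).mp h)
  · rintro rfl; simp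

/-! ### `natSpan` -/

lemma natSpan_mono {S T : Set ι} (h : S ⊆ T) : natSpan P S ≤ natSpan P T :=
  AddSubmonoid.closure_mono (Set.image_mono h)

lemma root_mem_natSpan {S : Set ι} {i : ι} (hi : i ∈ S) : P.root i ∈ natSpan P S :=
  AddSubmonoid.subset_closure ⟨i, hi, rfl⟩

/-- Elements of `natSpan` are the non-negative integer combinations. -/
lemma mem_natSpan_iff {S : Set ι} {x : M} :
    x ∈ natSpan P S ↔ ∃ c : ι →₀ ℤ, ↑c.support ⊆ S ∧ (∀ i, 0 ≤ c i) ∧
      Finsupp.linearCombination ℤ P.root c = x := by
  constructor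
  · intro hx
    induction hx using AddSubmonoid.closure_induction with
    | mem x hx =>
      obtain ⟨i, hi, rfl⟩ := hx
      classical
      refine ⟨Finsupp.single i 1, ?_, ?_, by simp⟩
      · intro j hj
        have := Finsupp.support_single_subset hj
        simp only [Finset.mem_singleton] at this
        simpa [this] using hi
      · intro j
        rw [Finsupp.single_apply]
        split_ifs <;> simp
    | zero => exact ⟨0, by simp, by simp, by simp⟩
    | add x y _ _ hx hy =>
      classical
      obtain ⟨c, hc, hc0, rfl⟩ := hx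
      obtain ⟨d, hd, hd0, rfl⟩ := hy
      refine ⟨c + d, ?_, fun i => by simpa using add_nonneg (hc0 i) (hd0 i), by simp⟩
      intro j hj
      have hj' : j ∈ c.support ∪ d.support := Finsupp.support_add hj
      rcases Finset.mem_union.mp hj' with h | h
      · exact hc h
      · exact hd h
  · rintro ⟨c, hc, hc0, rfl⟩
    rw [Finsupp.linearCombination_apply, Finsupp.sum]
    refine AddSubmonoid.sum_mem _ fun i hi => ?_
    obtain ⟨n, hn⟩ := Int.eq_ofNat_of_zero_le (hc0 i)
    rw [hn, natCast_zsmul]
    exact AddSubmonoid.nsmul_mem _ (root_mem_natSpan P (hc hi)) n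

lemma neg_mem_natSpan_iff {S : Set ι} {x : M} :
    -x ∈ natSpan P S ↔ ∃ c : ι →₀ ℤ, ↑c.support ⊆ S ∧ (∀ i, c i ≤ 0) ∧
      Finsupp.linearCombination ℤ P.root c = x := by
  rw [mem_natSpan_iff]
  constructor
  · rintro ⟨c, hc, hc0, h⟩
    refine ⟨-c, by simpa using hc, fun i => by simpa using hc0 i, by simp [h]⟩
  · rintro ⟨c, hc, hc0, h⟩
    refine ⟨-c, by simpa using hc, fun i => by simpa using hc0 i, by simp [h]⟩

lemma natSpan_le_span (S : Set ι) :
    (natSpan P S : Set M) ⊆ Submodule.span ℤ (P.root '' S) := by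
  intro x hx
  induction hx using AddSubmonoid.closure_induction with
  | mem x hx => exact Submodule.subset_span hx
  | zero => exact zero_mem _
  | add x y _ _ hx hy => exact add_mem hx hy


/-! ### Generic functionals and existence of simple systems -/

/-- There is a coweight pairing non-trivially with every root. -/
lemma exists_coweight_pairing_ne_zero [Finite ι] :
    ∃ n : N, ∀ i, P.toLinearMap (P.root i) n ≠ 0 := by
  classical
  have : Fintype ι := Fintype.ofFinite ι
  let p : ι → MvPolynomial ι ℤ :=
    fun i => ∑ j, MvPolynomial.C (P.pairing i j) * MvPolynomial.X j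
  have hp : ∀ i, p i ≠ 0 := by
    intro i h
    have h2 := congrArg (MvPolynomial.coeff (Finsupp.single i 1)) h
    simp only [p, MvPolynomial.coeff_sum, MvPolynomial.coeff_C_mul, MvPolynomial.coeff_X,
      MvPolynomial.coeff_zero] at h2
    rw [Finset.sum_eq_single i] at h2
    · simp at h2
    · intro j _ hj
      have : Finsupp.single j 1 ≠ Finsupp.single i 1 := by
        intro h3
        exact hj ((Finsupp.single_left_injective one_ne_zero) h3)
      simp [this]
    · simp
  have hprod : ∏ i, p i ≠ 0 := Finset.prod_ne_zero_iff.mpr fun i _ => hp i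
  obtain ⟨c, hc⟩ : ∃ c : ι → ℤ, MvPolynomial.eval c (∏ i, p i) ≠ 0 := by
    by_contra h
    push Not at h
    exact hprod (MvPolynomial.funext (fun c => by simpa using h c))
  refine ⟨∑ j, c j • P.coroot j, fun i => ?_⟩
  have hi : MvPolynomial.eval c (p i) ≠ 0 := by
    intro h0
    apply hc
    rw [map_prod]
    exact Finset.prod_eq_zero (Finset.mem_univ i) h0
  simpa [p, map_sum, mul_comm, P.root_coroot_eq_pairing] using hi

lemma isSimpleSys_baseOf [Finite ι] (f : Module.Dual ℤ M) (hf : ∀ i, f (P.root i) ≠ 0) :
    IsSimpleSys P (IsAddIndecomposable.baseOf P.root (f : M →+ ℤ)) := by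
  refine ⟨P.linearIndepOn_root_baseOf' f hf, fun i => ?_⟩
  let _ := P.indexNeg
  exact IsAddIndecomposable.mem_or_neg_mem_closure_baseOf P.root (f : M →+ ℤ) i (hf i) (by simp)

lemma exists_isSimpleSys [Finite ι] : ∃ Δ, IsSimpleSys P Δ := by
  obtain ⟨n, hn⟩ := exists_coweight_pairing_ne_zero P
  exact ⟨_, isSimpleSys_baseOf P (P.toLinearMap.flip n) hn⟩

/-! ### Coefficients along a linearly independent set -/

lemma linearCombination_inj {Δ : Set ι} (hli : LinearIndepOn ℤ P.root Δ) {c d : ι →₀ ℤ}
    (hc : ↑c.support ⊆ Δ) (hd : ↑d.support ⊆ Δ)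
    (h : Finsupp.linearCombination ℤ P.root c = Finsupp.linearCombination ℤ P.root d) : c = d :=
  linearIndepOn_iffₛ.mp hli c ((Finsupp.mem_supported _ _).mpr hc) d
    ((Finsupp.mem_supported _ _).mpr hd) h

end Groth.Agent.Helper7.RD
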