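import Groth.Agent.Lib.Helper7.RootD.Form
import Mathlib.LinearAlgebra.Matrix.PosDef
import Mathlib.Analysis.Matrix.Order
import Mathlib.Analysis.Matrix.PosDef
import Mathlib.LinearAlgebra.Matrix.ToLinearEquiv

/-! Root data over `ℤ`: the Cartan matrix of a simple system is symmetrisable and positive
definite, its principal minors are positive. -/

set_option linter.unusedSectionVars false

namespace Groth.Agent.Helper7.RD

open RootPairing _root_.RootD Set Function Matrix

/-- A positive definite integer matrix of the form `C * Cᵀ + C * Cᵀ` has positive determinant. -/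
lemma det_pos_of_posDef_int {n m : Type*} [Fintype n] [Fintype m] [DecidableEq n]
    (G : Matrix n n ℤ) (C : Matrix n m ℤ) (hG : G = C * Cᵀ + C * Cᵀ) (hpd : G.PosDef) :
    0 < G.det := by
  have hdet : G.det ≠ 0 := by
    intro h
    obtain ⟨v, hv, hGv⟩ := Matrix.exists_mulVec_eq_zero_iff.mpr h
    have := (posDef_iff_dotProduct_mulVec.mp hpd).2 hv
    rw [hGv] at this
    simp at this
  set GR : Matrix n n ℝ := (Int.castRingHom ℝ).mapMatrix G with hGR
  set CR : Matrix n m ℝ := C.map (Int.castRingHom ℝ) with hCR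
  have h1 : GR = CR * CRᴴ + CR * CRᴴ := by
    rw [hGR, hG, map_add, RingHom.mapMatrix_apply, Matrix.map_mul, hCR,
      conjTranspose_eq_transpose_of_trivial, Matrix.transpose_map]
  have h2 : GR.PosSemidef := by
    rw [h1]
    exact (posSemidef_self_mul_conjTranspose CR).add (posSemidef_self_mul_conjTranspose CR)
  have h3 : GR.det = (G.det : ℝ) := by
    rw [hGR, ← RingHom.map_det]
    simp
  have h4 : GR.PosDef := by
    rw [h2.posDef_iff_det_ne_zero, h3]
    exact_mod_cast hdet
  have h5 := h4.det_pos
  rw [h3] at h5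
  exact_mod_cast h5


variable {ι M N : Type*} [AddCommGroup M] [AddCommGroup N] (P : RootPairing ι ℤ M N)
  [Finite ι] [Fintype ι]

/-- the symmetrised Cartan matrix of a finite set of roots -/
noncomputable def gram (Δ : Finset ι) : Matrix ↥Δ ↥Δ ℤ :=
  Matrix.of fun (a b : ↥Δ) => P.RootForm (P.root a) (P.root a) * P.pairing (b : ι) (a : ι)

lemma gram_apply (Δ : Finset ι) (a b : ↥Δ) :
    gram P Δ a b = 2 * P.RootForm (P.root a) (P.root b) := by
  simp only [gram, Matrix.of_apply]
  exact rootForm_mul_pairing P a b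

lemma gram_isSymm (Δ : Finset ι) : (gram P Δ).IsSymm := by
  ext a b
  rw [Matrix.transpose_apply, gram_apply, gram_apply]
  have := P.rootForm_symmetric.eq (P.root a) (P.root b)
  simp only [RingHom.id_apply] at this
  rw [this]

lemma rootForm_linearCombination (Δ : Finset ι) (x : ↥Δ →₀ ℤ) :
    P.RootForm (Finsupp.linearCombination ℤ (fun a : ↥Δ => P.root a) x)
      (Finsupp.linearCombination ℤ (fun a : ↥Δ => P.root a) x) =
    x.sum fun a xa => x.sum fun b xb => xa * P.RootForm (P.root a) (P.root b) * xb := by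
  simp only [Finsupp.linearCombination_apply, Finsupp.sum, map_sum, LinearMap.sum_apply, map_smul,
    LinearMap.smul_apply, smul_eq_mul]
  apply Finset.sum_congr rfl
  intro a _
  rw [Finset.mul_sum]
  apply Finset.sum_congr rfl
  intro b _
  have := P.rootForm_symmetric.eq (P.root a) (P.root b)
  simp only [RingHom.id_apply] at this
  rw [this]
  ring

lemma gram_posDef (Δ : Finset ι) (hli : LinearIndepOn ℤ P.root (↑Δ : Set ι)) :
    (gram P Δ).PosDef := by
  refine ⟨?_, ?_⟩
  · have := gram_isSymm P Δ
    rw [Matrix.IsHermitian, Matrix.conjTranspose_eq_transpose_of_trivial]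
    exact this
  · intro x hx
    have hv : Finsupp.linearCombination ℤ (fun a : ↥Δ => P.root a) x ≠ 0 := by
      intro h0
      exact hx (linearIndependent_iff.mp hli x h0)
    have hmem : Finsupp.linearCombination ℤ (fun a : ↥Δ => P.root a) x ∈ P.rootSpan ℤ := by
      rw [Finsupp.linearCombination_apply]
      apply Submodule.sum_mem
      intro a _
      exact Submodule.smul_mem _ _ (Submodule.subset_span (mem_range_self _))
    have hpos := P.rootForm_pos_of_ne_zero hmem hv
    rw [rootForm_linearCombination] at hpos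
    have : (x.sum fun i xi => x.sum fun j xj => star xi * gram P Δ i j * xj) =
        2 * x.sum fun a xa => x.sum fun b xb => xa * P.RootForm (P.root a) (P.root b) * xb := by
      simp only [Finsupp.sum, Finset.mul_sum, gram_apply, star_trivial]
      apply Finset.sum_congr rfl
      intro a _
      apply Finset.sum_congr rfl
      intro b _
      ring
    rw [this]
    linarith


lemma gram_eq_mul_transpose (Δ : Finset ι) :
    gram P Δ = (Matrix.of fun (a : ↥Δ) (i : ι) => P.pairing a i) *
        (Matrix.of fun (a : ↥Δ) (i : ι) => P.pairing a i)ᵀ +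
      (Matrix.of fun (a : ↥Δ) (i : ι) => P.pairing a i) *
        (Matrix.of fun (a : ↥Δ) (i : ι) => P.pairing a i)ᵀ := by
  ext a b
  rw [gram_apply, Matrix.add_apply, Matrix.mul_apply, P.rootForm_apply_apply, two_mul]
  simp [P.root_coroot'_eq_pairing]

lemma gram_eq_diagonal_mul (Δ : Finset ι) [DecidableEq ↥Δ] :
    gram P Δ = Matrix.diagonal (fun a : ↥Δ => P.RootForm (P.root a) (P.root a)) *
      (Matrix.of fun (a b : ↥Δ) => P.pairing (b : ι) (a : ι)) := by
  ext a b
  rw [Matrix.diagonal_mul]
  rfl

lemma det_cartan_pos (Δ : Finset ι) [DecidableEq ↥Δ] (hli : LinearIndepOn ℤ P.root (↑Δ : Set ι)) :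
    0 < Matrix.det (Matrix.of fun (a b : ↥Δ) => P.pairing (b : ι) (a : ι)) := by
  have h1 := det_pos_of_posDef_int (gram P Δ) _ (gram_eq_mul_transpose P Δ) (gram_posDef P Δ hli)
  rw [gram_eq_diagonal_mul, Matrix.det_mul, Matrix.det_diagonal] at h1
  have h2 : 0 < ∏ a : ↥Δ, P.RootForm (P.root a) (P.root a) :=
    Finset.prod_pos fun a _ => rootForm_root_pos P a
  exact (mul_pos_iff_of_pos_left h2).mp h1

end Groth.Agent.Helper7.RD
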