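import Groth.Agent.Lib.Helper7.RootD.Misc2

/-! Root data over `ℤ`: chains of partial sums indexed by `Fin`. -/

set_option linter.unusedSectionVars false

namespace Groth.Agent.Helper7.RD

open RootPairing _root_.RootD Set Function

variable {ι M N : Type*} [AddCommGroup M] [AddCommGroup N] (P : RootPairing ι ℤ M N) [Finite ι]

lemma chain_of_reach {n : ℕ} (a : Fin n → ι) {k : ι} (h : Reach P (range a) k) :
    ∃ (l : ℕ) (b : Fin l → Fin n), 0 < l ∧
      (∀ p : Fin l, ∃ j : ι, P.root j =
        ∑ q ∈ Finset.univ.filter (fun q : Fin l => q.val ≤ p.val), P.root (a (b q))) ∧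
      P.root k = ∑ q, P.root (a (b q)) := by
  induction h with
  | @base i hi =>
    obtain ⟨t, rfl⟩ := hi
    refine ⟨1, fun _ => t, one_pos, fun p => ⟨a t, ?_⟩, by simp⟩
    have : Finset.univ.filter (fun q : Fin 1 => q.val ≤ p.val) = Finset.univ := by
      ext q
      simp [Subsingleton.elim q p]
    rw [this]
    simp
  | @step j i k _ hi hk ih =>
    obtain ⟨t, rfl⟩ := hi
    obtain ⟨l, b, hl, hpart, hsum⟩ := ih
    refine ⟨l + 1, Fin.snoc b t, Nat.succ_pos l, ?_, ?_⟩
    · intro p
      rw [Finset.sum_filter, Fin.sum_univ_castSucc]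
      simp only [Fin.snoc_castSucc, Fin.snoc_last, Fin.val_castSucc, Fin.val_last]
      induction p using Fin.lastCases with
      | last =>
        refine ⟨k, ?_⟩
        simp only [Fin.val_last, le_refl, if_true]
        rw [hk, hsum]
        congr 1
        apply Finset.sum_congr rfl
        intro q _
        rw [if_pos (le_of_lt q.isLt)]
      | cast p' =>
        obtain ⟨j', hj'⟩ := hpart p'
        refine ⟨j', ?_⟩
        rw [hj', Finset.sum_filter]
        simp only [Fin.val_castSucc]
        rw [if_neg (by have := p'.isLt; omega), add_zero]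
    · rw [Fin.sum_univ_castSucc]
      simp only [Fin.snoc_castSucc, Fin.snoc_last]
      rw [hk, hsum]

/-- S5451 -/
lemma exists_chain {n : ℕ} (a : Fin n → ι) (m : Fin n → ℕ) (k : ι)
    (hk : P.root k = ∑ i, m i • P.root (a i)) :
    ∃ (l : ℕ) (b : Fin l → Fin n), 0 < l ∧
      (∀ p : Fin l, ∃ j : ι, P.root j =
        ∑ q ∈ Finset.univ.filter (fun q : Fin l => q.val ≤ p.val), P.root (a (b q))) ∧
      P.root k = ∑ q, P.root (a (b q)) := by
  apply chain_of_reach
  apply reach_of_mem_natSpan
  rw [hk]
  apply sum_mem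
  intro i _
  exact nsmul_mem (root_mem_natSpan P (mem_range_self i)) _

end Groth.Agent.Helper7.RD
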