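import Groth.Agent.Lib.Helper7.RootD.Action

/-! Root data over `ℤ`: conjugating a positive system into a closed set containing each root or its
opposite. -/

namespace Groth.Agent.Helper7.RD

open RootPairing _root_.RootD Set Function

variable {ι M N : Type*} [AddCommGroup M] [AddCommGroup N] {P : RootPairing ι ℤ M N}
  {Δ : Set ι}

/-- the positive roots that `g` does not map into `P'` -/
def bad (P : RootPairing ι ℤ M N) (Δ P' : Set ι) (g : P.Aut) : Set ι :=
  {k | k ∈ posOf P Δ ∧ g • k ∉ P'}

/-- The subgroup generated by the reflections in `Δ`. -/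
noncomputable def WΔ (P : RootPairing ι ℤ M N) (Δ : Set ι) : Subgroup P.Aut :=
  Subgroup.closure ((fun i : ι => Equiv.reflection P i) '' Δ)

lemma reflection_mem_WΔ {i : ι} (hi : i ∈ Δ) : Equiv.reflection P i ∈ WΔ P Δ :=
  Subgroup.subset_closure ⟨i, hi, rfl⟩

lemma WΔ_le_weylGroup (Δ : Set ι) : WΔ P Δ ≤ P.weylGroup := by
  apply Subgroup.closure_mono
  rintro _ ⟨i, _, rfl⟩
  exact ⟨i, rfl⟩

lemma reflectionPerm_reflectionPerm (i k : ι) :
    P.reflectionPerm i (P.reflectionPerm i k) = k := by
  simp

variable [Finite ι]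

lemma ncard_bad_lt (hΔ : IsSimpleSys P Δ) {P' : Set ι} (hP2 : ∀ i, i ∈ P' ∨ neg P i ∈ P')
    (hcl : IsClosedSub P P') (g : P.Aut) {i : ι} (hi : i ∈ Δ) (hgi : g • i ∉ P') :
    (bad P Δ P' (g * Equiv.reflection P i)).ncard < (bad P Δ P' g).ncard := by
  have hibad : i ∈ bad P Δ P' g := ⟨subset_posOf hΔ hi, hgi⟩
  have hneg : neg P (g • i) ∈ P' := (hP2 (g • i)).resolve_left hgi
  have hfin : (bad P Δ P' g).Finite := Set.toFinite _
  have hsub : (fun k => P.reflectionPerm i k) '' bad P Δ P' (g * Equiv.reflection P i) ⊆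
      bad P Δ P' g \ {i} := by
    rintro _ ⟨k, ⟨hk, hgk⟩, rfl⟩
    have hne : ∃ j, j ≠ i ∧ coeff hΔ k j ≠ 0 := by
      by_contra hcon
      push Not at hcon
      have hroot := root_eq_smul_of_coeff_eq_zero hΔ hcon
      have hc0 : 0 ≤ coeff hΔ k i := (mem_posOf_iff hΔ k).mp hk i
      have hcne : coeff hΔ k i ≠ 0 := by
        intro h0
        rw [h0, zero_smul] at hroot
        exact P.ne_zero k hroot
      have hcpos : 0 < coeff hΔ k i := lt_of_le_of_ne hc0 (Ne.symm hcne)
      -- the root of `(g * s_i) • k`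
      have hr : P.root ((g * Equiv.reflection P i) • k) =
          coeff hΔ k i • P.root (neg P (g • i)) := by
        rw [mul_smul, root_smul, reflection_smul_idx, P.root_reflectionPerm, hroot, map_smul,
          P.reflection_apply_self, smul_zsmul, root_neg, root_smul, smul_neg]
      apply hgk
      rcases eq_of_root_eq_smul_of_pos P hcpos hroot with h1 | h1
      · rw [h1, one_smul] at hr
        rw [P.root.injective hr]
        exact hneg
      · rw [h1, two_smul] at hr
        exact hcl hneg hneg hr
    refine ⟨⟨reflectionPerm_mem_posOf hΔ hk hi hne, ?_⟩, ?_⟩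
    · change g • (Equiv.reflection P i • k) ∉ P'
      rw [← mul_smul]
      exact hgk
    · intro hki
      simp only [mem_singleton_iff] at hki
      have hk' : k = neg P i := by
        have := congrArg (P.reflectionPerm i) hki
        rw [reflectionPerm_reflectionPerm] at this
        exact this
      exact not_mem_posOf_and_neg hΔ i ⟨subset_posOf hΔ hi, hk' ▸ hk⟩
  calc (bad P Δ P' (g * Equiv.reflection P i)).ncard
      = ((fun k => P.reflectionPerm i k) '' bad P Δ P' (g * Equiv.reflection P i)).ncard :=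
        (Set.ncard_image_of_injective _ (P.reflectionPerm i).injective).symm
    _ ≤ (bad P Δ P' g \ {i}).ncard := Set.ncard_le_ncard hsub (hfin.subset sdiff_subset)
    _ < (bad P Δ P' g).ncard := Set.ncard_sdiff_singleton_lt_of_mem hibad hfin

/-- If `g` maps the simple roots into the closed set `P'` then it maps all positive roots
into `P'`. -/
lemma smul_mem_of_forall_simple {P' : Set ι} (hcl : IsClosedSub P P') (g : P.Aut)
    (h : ∀ i ∈ Δ, g • i ∈ P') {k : ι} (hk : k ∈ posOf P Δ) : g • k ∈ P' := by
  apply (isClosedSub_iff_natSpan P').mp hcl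
  rw [root_smul]
  have h1 : g • P.root k ∈ natSpan P ((fun i => g • i) '' Δ) :=
    (smul_mem_natSpan_smul_iff g Δ _).mpr hk
  refine natSpan_mono P ?_ h1
  rintro _ ⟨i, hi, rfl⟩
  exact h i hi

/-- **Conjugation lemma.** For a simple system `Δ` and a closed set of roots `P'` containing each
root or its opposite, every automorphism `g` can be multiplied on the right by a product of
simple reflections so that it maps all positive roots into `P'`. -/
lemma exists_mul_smul_posOf_subset (hΔ : IsSimpleSys P Δ) {P' : Set ι}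
    (hP2 : ∀ i, i ∈ P' ∨ neg P i ∈ P') (hcl : IsClosedSub P P') (g : P.Aut) :
    ∃ w ∈ WΔ P Δ, ∀ k ∈ posOf P Δ, (g * w) • k ∈ P' := by
  induction hn : (bad P Δ P' g).ncard using Nat.strong_induction_on generalizing g with
  | _ n ih =>
    by_cases hall : ∀ i ∈ Δ, g • i ∈ P'
    · refine ⟨1, one_mem _, fun k hk => ?_⟩
      rw [mul_one]
      exact smul_mem_of_forall_simple hcl g hall hk
    · push Not at hall
      obtain ⟨i, hi, hgi⟩ := hall
      have hlt := ncard_bad_lt hΔ hP2 hcl g hi hgi
      obtain ⟨w, hw, hw'⟩ := ih _ (hn ▸ hlt) (g * Equiv.reflection P i) rfl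
      refine ⟨Equiv.reflection P i * w, mul_mem (reflection_mem_WΔ hi) hw, fun k hk => ?_⟩
      rw [← mul_assoc]
      exact hw' k hk

end Groth.Agent.Helper7.RD
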