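import Groth.Agent.Lib.Helper7.RootD.Height

/-! Root data over `ℤ`: criteria for a set of roots to be a simple system. -/

set_option linter.unusedSectionVars false

namespace Groth.Agent.Helper7.RD

open RootPairing _root_.RootD Set Function

variable {ι M N : Type*} [AddCommGroup M] [AddCommGroup N] {P : RootPairing ι ℤ M N}
  {Δ : Set ι}

lemma nsmul_root_ne_zero {n : ℕ} (hn : 0 < n) (k : ι) : n • P.root k ≠ 0 := by
  intro h
  rw [← natCast_zsmul] at h
  have := (zsmul_root_eq_zero_iff P).mp h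
  omega

variable [Finite ι]

/-- the roots a positive multiple of which lies in `natSpan Δ` -/
def coneOf (P : RootPairing ι ℤ M N) (Δ : Set ι) : Set ι :=
  {k | ∃ n : ℕ, 0 < n ∧ n • P.root k ∈ natSpan P Δ}

lemma isPosSys_coneOf (hli : LinearIndepOn ℤ P.root Δ)
    (hcone : ∀ k : ι, ∃ n : ℕ, 0 < n ∧
      (n • P.root k ∈ natSpan P Δ ∨ n • (-P.root k) ∈ natSpan P Δ)) :
    IsPosSys P (coneOf P Δ) where
  disjoint := by
    rintro k ⟨n, hn, hk⟩ ⟨m, hm, hk'⟩
    change m • P.root (neg P k) ∈ natSpan P Δ at hk'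
    rw [root_neg] at hk'
    have h1 : (m * n) • P.root k ∈ natSpan P Δ := by
      rw [mul_smul]; exact nsmul_mem hk m
    have h2 : -((m * n) • P.root k) ∈ natSpan P Δ := by
      rw [mul_comm, mul_smul, ← smul_neg, ← smul_neg]; exact nsmul_mem hk' n
    exact nsmul_root_ne_zero (Nat.mul_pos hm hn) k (eq_zero_of_mem_natSpan_of_neg_mem hli h1 h2)
  cover := by
    intro k
    obtain ⟨n, hn, h | h⟩ := hcone k
    · exact Or.inl ⟨n, hn, h⟩
    · refine Or.inr ⟨n, hn, ?_⟩
      change n • P.root (neg P k) ∈ natSpan P Δ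
      rwa [root_neg]
  sat := by
    intro k n hn h
    have key : ∀ x ∈ natSpan P (coneOf P Δ), ∃ N : ℕ, 0 < N ∧ N • x ∈ natSpan P Δ := by
      intro x hx
      induction hx using AddSubmonoid.closure_induction with
      | mem x hx =>
        obtain ⟨j, ⟨N, hN, hj⟩, rfl⟩ := hx
        exact ⟨N, hN, hj⟩
      | zero => exact ⟨1, one_pos, by simp⟩
      | add x y _ _ hx hy =>
        obtain ⟨N₁, h₁, hx⟩ := hx
        obtain ⟨N₂, h₂, hy⟩ := hy
        refine ⟨N₂ * N₁, Nat.mul_pos h₂ h₁, ?_⟩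
        rw [smul_add]
        refine add_mem ?_ ?_
        · rw [mul_smul]; exact nsmul_mem hx _
        · rw [mul_comm, mul_smul]; exact nsmul_mem hy _
    obtain ⟨N, hN, hx⟩ := key _ h
    exact ⟨N * n, Nat.mul_pos hN hn, by rwa [mul_smul]⟩

/-- S5446 -/
lemma isSimpleSys_of_cone (hind : ∀ i ∈ Δ, IsIndiv P i) (hli : LinearIndepOn ℤ P.root Δ)
    (hcone : ∀ k : ι, ∃ n : ℕ, 0 < n ∧
      (n • P.root k ∈ natSpan P Δ ∨ n • (-P.root k) ∈ natSpan P Δ)) :
    IsSimpleSys P Δ := by
  classical
  have hS := isPosSys_coneOf hli hcone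
  obtain ⟨Δ₁, hΔ₁, hΔ₁S⟩ := exists_isSimpleSys_subset hS
  have hSeq : coneOf P Δ = posOf P Δ₁ := (subset_iff_eq_posOf hΔ₁ hS).mp hΔ₁S
  have hΔS : Δ ⊆ coneOf P Δ := fun i hi => ⟨1, one_pos, by simpa using root_mem_natSpan P hi⟩
  -- a multiple of a root in the cone, in coordinates
  have hcoord : ∀ a ∈ coneOf P Δ, ∃ (n : ℕ) (A : ι →₀ ℤ), 0 < n ∧ ↑A.support ⊆ Δ ∧
      (∀ l, 0 ≤ A l) ∧ Finsupp.linearCombination ℤ P.root A = n • P.root a := by
    rintro a ⟨n, hn, ha⟩
    obtain ⟨A, hA, hA0, hAa⟩ := (mem_natSpan_iff P).mp ha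
    exact ⟨n, A, hn, hA, hA0, hAa⟩
  have h1 : Δ ⊆ Δ₁ := by
    intro i hi
    have hipos : i ∈ posOf P Δ₁ := hSeq ▸ hΔS hi
    rw [mem_iff_not_exists_add hΔ₁ hipos]
    rintro ⟨a, b, ha, hb, hab⟩
    rw [← hSeq] at ha hb
    obtain ⟨n, A, hn, hAs, hA0, hA⟩ := hcoord a ha
    obtain ⟨m, B, hm, hBs, hB0, hB⟩ := hcoord b hb
    -- `(n m) root i = m A + n B`
    have hsum : (m : ℤ) • A + (n : ℤ) • B = Finsupp.single i ((n * m : ℕ) : ℤ) := by
      apply linearCombination_inj P hli
      · intro l hl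
        rcases Finset.mem_union.mp (Finsupp.support_add hl) with h | h
        · exact hAs (Finsupp.support_smul h)
        · exact hBs (Finsupp.support_smul h)
      · intro l hl
        have := Finsupp.support_single_subset hl
        simp only [Finset.mem_singleton] at this
        exact this ▸ hi
      · rw [map_add, map_smul, map_smul, hA, hB, Finsupp.linearCombination_single, hab]
        simp only [natCast_zsmul, smul_add]
        rw [← mul_smul, ← mul_smul, mul_comm m n]
    have hAi : ∀ l, l ≠ i → A l = 0 := by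
      intro l hl
      have := congrArg (fun c => c l) hsum
      simp only [Finsupp.add_apply, Finsupp.smul_apply, smul_eq_mul,
        Finsupp.single_apply, if_neg (Ne.symm hl)] at this
      have h1 := hA0 l
      have h2 := hB0 l
      have hm' : (0 : ℤ) < m := by exact_mod_cast hm
      have hn' : (0 : ℤ) < n := by exact_mod_cast hn
      nlinarith
    have hBi : ∀ l, l ≠ i → B l = 0 := by
      intro l hl
      have := congrArg (fun c => c l) hsum
      simp only [Finsupp.add_apply, Finsupp.smul_apply, smul_eq_mul,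
        Finsupp.single_apply, if_neg (Ne.symm hl)] at this
      have h1 := hA0 l
      have h2 := hB0 l
      have hm' : (0 : ℤ) < m := by exact_mod_cast hm
      have hn' : (0 : ℤ) < n := by exact_mod_cast hn
      nlinarith
    have hAeq : A = Finsupp.single i (A i) := by
      ext l
      by_cases hl : l = i
      · subst hl; simp
      · rw [hAi l hl, Finsupp.single_apply, if_neg (Ne.symm hl)]
    have hBeq : B = Finsupp.single i (B i) := by
      ext l
      by_cases hl : l = i
      · subst hl; simp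
      · rw [hBi l hl, Finsupp.single_apply, if_neg (Ne.symm hl)]
    have hA' : (n : ℤ) • P.root a = A i • P.root i := by
      rw [natCast_zsmul, ← hA, hAeq]; simp
    have hB' : (m : ℤ) • P.root b = B i • P.root i := by
      rw [natCast_zsmul, ← hB, hBeq]; simp
    have hn0 : (n : ℤ) ≠ 0 := by exact_mod_cast hn.ne'
    have hm0 : (m : ℤ) ≠ 0 := by exact_mod_cast hm.ne'
    obtain ⟨x, hx⟩ := dvd_of_smul_root_eq_smul_root P i a (hind i hi) (A i) n hn0 hA'
    obtain ⟨y, hy⟩ := dvd_of_smul_root_eq_smul_root P i b (hind i hi) (B i) m hm0 hB'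
    have hAne : A i ≠ 0 := by
      intro h0
      rw [h0, zero_smul] at hA'
      exact hn0 ((zsmul_root_eq_zero_iff P).mp hA')
    have hBne : B i ≠ 0 := by
      intro h0
      rw [h0, zero_smul] at hB'
      exact hm0 ((zsmul_root_eq_zero_iff P).mp hB')
    have hi' := congrArg (fun c => c i) hsum
    simp only [Finsupp.add_apply, Finsupp.smul_apply, smul_eq_mul, Finsupp.single_eq_same,
      Nat.cast_mul] at hi'
    -- `m (n x) + n (m y) = n m` with `x, y ≥ 1`
    rw [hx, hy] at hi'
    have hx0 : 0 < x := by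
      have := hA0 i
      rw [hx] at this hAne
      have hn' : (0 : ℤ) < n := by exact_mod_cast hn
      rcases lt_trichotomy x 0 with h | h | h
      · nlinarith
      · rw [h] at hAne; simp at hAne
      · exact h
    have hy0 : 0 < y := by
      have := hB0 i
      rw [hy] at this hBne
      have hm' : (0 : ℤ) < m := by exact_mod_cast hm
      rcases lt_trichotomy y 0 with h | h | h
      · nlinarith
      · rw [h] at hBne; simp at hBne
      · exact h
    have hm' : (0 : ℤ) < m := by exact_mod_cast hm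
    have hn' : (0 : ℤ) < n := by exact_mod_cast hn
    have hnm : (0 : ℤ) < n * m := mul_pos hn' hm'
    nlinarith
  have h2 : Δ₁ ⊆ Δ := by
    intro j hj
    obtain ⟨n, D, hn, hDs, hD0, hD⟩ := hcoord j (hΔ₁S hj)
    have : D = Finsupp.single j (n : ℤ) := by
      apply linearCombination_inj P hΔ₁.linInd
      · exact hDs.trans h1
      · intro l hl
        have := Finsupp.support_single_subset hl
        simp only [Finset.mem_singleton] at this
        exact this ▸ hj
      · rw [hD]; simp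
    apply hDs
    rw [this]
    simp [hn.ne']
  rw [Subset.antisymm h1 h2]
  exact hΔ₁

/-- S5447 -/
lemma isSimpleSys_of_unique
    (h : ∀ k : ι, ∃! c : ι →₀ ℤ, (↑c.support ⊆ Δ ∧ ((∀ j, 0 ≤ c j) ∨ (∀ j, c j ≤ 0)) ∧
      Finsupp.linearCombination ℤ P.root c = P.root k)) :
    IsSimpleSys P Δ ∧ ∀ i ∈ Δ, IsIndiv P i := by
  classical
  have hP1 : ∀ k, ¬ (P.root k ∈ natSpan P Δ ∧ -P.root k ∈ natSpan P Δ) := by
    rintro k ⟨h1, h2⟩
    obtain ⟨c, hc, hc0, hck⟩ := (mem_natSpan_iff P).mp h1
    obtain ⟨d, hd, hd0, hdk⟩ := (neg_mem_natSpan_iff P).mp h2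
    have hcd : c = d := (h k).unique ⟨hc, Or.inl hc0, hck⟩ ⟨hd, Or.inr hd0, hdk⟩
    have : c = 0 := by
      ext i
      exact le_antisymm (hcd ▸ hd0 i) (hc0 i)
    rw [this, map_zero] at hck
    exact P.ne_zero k hck.symm
  have hP2 : ∀ k, k ∈ posOf P Δ ∨ neg P k ∈ posOf P Δ := by
    intro k
    obtain ⟨c, ⟨hc, hsign, hck⟩, -⟩ := h k
    rcases hsign with h0 | h0
    · left; exact (mem_natSpan_iff P).mpr ⟨c, hc, h0, hck⟩
    · right
      change P.root (neg P k) ∈ natSpan P Δ
      rw [root_neg]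
      exact (neg_mem_natSpan_iff P).mpr ⟨c, hc, h0, hck⟩
  have hS : IsPosSys P (posOf P Δ) := by
    rw [isPosSys_iff]
    refine ⟨?_, hP2, ?_⟩
    · intro i hi hi'
      apply hP1 i ⟨hi, ?_⟩
      have : P.root (neg P i) ∈ natSpan P Δ := hi'
      rwa [root_neg] at this
    · intro i j k hi hj hk
      change P.root k ∈ natSpan P Δ
      rw [hk]
      exact add_mem hi hj
  obtain ⟨Δ₁, hΔ₁, hΔ₁S⟩ := exists_isSimpleSys_subset hS
  have hSeq : posOf P Δ = posOf P Δ₁ := (subset_iff_eq_posOf hΔ₁ hS).mp hΔ₁S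
  have hΔS : Δ ⊆ posOf P Δ := fun i hi => root_mem_natSpan P hi
  have h1 : Δ₁ ⊆ Δ := by
    intro j hj
    have hreach : Reach P Δ j := reach_of_mem_natSpan (hΔ₁S hj)
    cases hreach with
    | base hi => exact hi
    | step hj' hi hk =>
      exfalso
      apply (mem_iff_not_exists_add hΔ₁ (subset_posOf hΔ₁ hj)).mp hj
      refine ⟨_, _, ?_, ?_, hk⟩
      · rw [← hSeq]; exact root_mem_natSpan_of_reach hj'
      · rw [← hSeq]; exact hΔS hi
  have h2 : Δ ⊆ Δ₁ := by
    intro i hi
    have hipos : i ∈ posOf P Δ₁ := hSeq ▸ hΔS hi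
    have hc0 := (mem_posOf_iff hΔ₁ i).mp hipos
    have heq : coeff hΔ₁ i = Finsupp.single i 1 := by
      refine (h i).unique ⟨(coeff_support hΔ₁ i).trans h1, Or.inl hc0, coeff_spec hΔ₁ i⟩
        ⟨?_, Or.inl ?_, by simp⟩
      · intro l hl
        have := Finsupp.support_single_subset hl
        simp only [Finset.mem_singleton] at this
        exact this ▸ hi
      · intro l
        rw [Finsupp.single_apply]
        split_ifs <;> norm_num
    apply coeff_support hΔ₁ i
    rw [heq]
    simp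
  have hΔ : IsSimpleSys P Δ := by
    rw [Subset.antisymm h2 h1]
    exact hΔ₁
  exact ⟨hΔ, fun i hi => isIndiv_of_mem hΔ hi⟩

end Groth.Agent.Helper7.RD
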