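import Groth.Agent.Lib.Helper7.RootD.Height

/-! Root data over `ℤ`: words in the simple reflections, the deletion argument, simple transitivity
of the Weyl group on simple systems. -/

set_option linter.unusedSectionVars false

namespace Groth.Agent.Helper7.RD

open RootPairing _root_.RootD Set Function

variable {ι M N : Type*} [AddCommGroup M] [AddCommGroup N] {P : RootPairing ι ℤ M N}
  {Δ : Set ι}

/-- product of reflections along a word -/
noncomputable def wprod (P : RootPairing ι ℤ M N) (l : List ι) : P.Aut :=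
  (l.map fun a => Equiv.reflection P a).prod

@[simp] lemma wprod_nil : wprod P [] = 1 := rfl

@[simp] lemma wprod_cons (a : ι) (l : List ι) :
    wprod P (a :: l) = Equiv.reflection P a * wprod P l := by
  simp [wprod]

@[simp] lemma wprod_append (l₁ l₂ : List ι) : wprod P (l₁ ++ l₂) = wprod P l₁ * wprod P l₂ := by
  simp [wprod]

lemma wprod_singleton (a : ι) : wprod P [a] = Equiv.reflection P a := by simp

lemma wprod_reverse (l : List ι) : wprod P l.reverse = (wprod P l)⁻¹ := by
  induction l with
  | nil => simp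
  | cons a t ih =>
    rw [List.reverse_cons, wprod_append, ih, wprod_singleton, wprod_cons, mul_inv_rev,
      Equiv.reflection_inv]

lemma wprod_mem_WΔ {l : List ι} (hl : ∀ a ∈ l, a ∈ Δ) : wprod P l ∈ WΔ P Δ := by
  induction l with
  | nil => exact one_mem _
  | cons a t ih =>
    rw [wprod_cons]
    exact mul_mem (reflection_mem_WΔ (hl a List.mem_cons_self))
      (ih fun b hb => hl b (List.mem_cons_of_mem _ hb))

lemma exists_wprod_eq {w : P.Aut} (hw : w ∈ WΔ P Δ) :
    ∃ l : List ι, (∀ a ∈ l, a ∈ Δ) ∧ wprod P l = w := by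
  induction hw using Subgroup.closure_induction with
  | mem x hx =>
    obtain ⟨i, hi, rfl⟩ := hx
    exact ⟨[i], by simpa using hi, wprod_singleton i⟩
  | one => exact ⟨[], by simp, rfl⟩
  | mul x y _ _ hx hy =>
    obtain ⟨l₁, h₁, rfl⟩ := hx
    obtain ⟨l₂, h₂, rfl⟩ := hy
    refine ⟨l₁ ++ l₂, ?_, wprod_append l₁ l₂⟩
    intro a ha
    rcases List.mem_append.mp ha with h | h
    · exact h₁ a h
    · exact h₂ a h
  | inv x _ hx =>
    obtain ⟨l, hl, rfl⟩ := hx
    exact ⟨l.reverse, fun a ha => hl a (List.mem_reverse.mp ha), wprod_reverse l⟩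

variable [Finite ι]

/-- A positive indivisible root made negative by a simple reflection is the simple root. -/
lemma eq_of_reflectionPerm_not_mem_posOf (hΔ : IsSimpleSys P Δ) {i k : ι} (hi : i ∈ Δ)
    (hk : k ∈ posOf P Δ) (hind : IsIndiv P k) (hneg : P.reflectionPerm i k ∉ posOf P Δ) :
    k = i := by
  have hcon : ∀ j, j ≠ i → coeff hΔ k j = 0 := by
    by_contra h
    push Not at h
    exact hneg (reflectionPerm_mem_posOf hΔ hk hi h)
  have hroot := root_eq_smul_of_coeff_eq_zero hΔ hcon
  have hc0 : 0 ≤ coeff hΔ k i := (mem_posOf_iff hΔ k).mp hk i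
  have hcne : coeff hΔ k i ≠ 0 := by
    intro h0
    rw [h0, zero_smul] at hroot
    exact P.ne_zero k hroot
  have hcpos : 0 < coeff hΔ k i := lt_of_le_of_ne hc0 (Ne.symm hcne)
  rcases eq_of_root_eq_smul_of_pos P hcpos hroot with h1 | h1
  · rw [h1, one_smul] at hroot
    exact P.root.injective hroot
  · rw [h1] at hroot
    exact absurd hroot.symm (hind i)

/-- The deletion argument: if the word `l` maps the simple root `a` to a negative root, then the
corresponding element is `l'' * s_a` with `l''` shorter by one. -/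
lemma exists_shorter (hΔ : IsSimpleSys P Δ) :
    ∀ (l : List ι), (∀ b ∈ l, b ∈ Δ) → ∀ {a : ι}, a ∈ Δ → neg P (wprod P l • a) ∈ posOf P Δ →
      ∃ l'' : List ι, (∀ b ∈ l'', b ∈ Δ) ∧ l''.length + 1 = l.length ∧
        wprod P l = wprod P l'' * Equiv.reflection P a := by
  intro l
  induction l with
  | nil =>
    intro _ a ha hneg
    exfalso
    rw [wprod_nil, one_smul] at hneg
    exact not_mem_posOf_and_neg hΔ a ⟨subset_posOf hΔ ha, hneg⟩
  | cons b t ih =>
    intro hl a ha hneg
    have hb : b ∈ Δ := hl b List.mem_cons_self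
    have ht : ∀ c ∈ t, c ∈ Δ := fun c hc => hl c (List.mem_cons_of_mem _ hc)
    rcases mem_posOf_or_neg hΔ (wprod P t • a) with hpos | hneg'
    · -- `wprod t • a` is positive and `s_b` makes it negative, so it is `b`
      have hind : IsIndiv P (wprod P t • a) :=
        (isIndiv_smul_iff _ a).mpr (isIndiv_of_mem hΔ ha)
      have hnot : P.reflectionPerm b (wprod P t • a) ∉ posOf P Δ := by
        intro hmem
        apply not_mem_posOf_and_neg hΔ _ ⟨hmem, ?_⟩
        rw [wprod_cons, mul_smul] at hneg
        exact hneg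
      have heq := eq_of_reflectionPerm_not_mem_posOf hΔ hb hpos hind hnot
      refine ⟨t, ht, by simp, ?_⟩
      rw [wprod_cons, ← heq, ← conj_reflection]
      group
    · obtain ⟨t'', ht'', hlen, hw⟩ := ih ht ha hneg'
      refine ⟨b :: t'', ?_, by simp [hlen], ?_⟩
      · intro c hc
        rcases List.mem_cons.mp hc with rfl | h
        · exact hb
        · exact ht'' c h
      · rw [wprod_cons, wprod_cons, hw, mul_assoc]

/-- S5504 -/
lemma neg_smul_getLast_mem (hΔ : IsSimpleSys P Δ) (l : List ι) (hl : ∀ a ∈ l, a ∈ Δ)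
    (hne : l ≠ [])
    (hmin : ∀ l' : List ι, (∀ a ∈ l', a ∈ Δ) → wprod P l' = wprod P l → l.length ≤ l'.length) :
    -P.root (wprod P l • l.getLast hne) ∈ natSpan P Δ := by
  by_contra hcon
  have ha : l.getLast hne ∈ Δ := hl _ (List.getLast_mem hne)
  have hsplit : l = l.dropLast ++ [l.getLast hne] := (List.dropLast_append_getLast hne).symm
  have hdl : ∀ b ∈ l.dropLast, b ∈ Δ := fun b hb => hl b (List.dropLast_subset l hb)
  have hw : wprod P l = wprod P l.dropLast * Equiv.reflection P (l.getLast hne) := by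
    conv_lhs => rw [hsplit]
    rw [wprod_append, wprod_singleton]
  have hpos : wprod P l • l.getLast hne ∈ posOf P Δ := by
    rcases mem_posOf_or_neg hΔ (wprod P l • l.getLast hne) with h | h
    · exact h
    · exfalso
      apply hcon
      have : P.root (neg P (wprod P l • l.getLast hne)) ∈ natSpan P Δ := h
      rwa [root_neg] at this
  have hneg : neg P (wprod P l.dropLast • l.getLast hne) ∈ posOf P Δ := by
    rw [← smul_neg_idx]
    have : wprod P l • l.getLast hne =
        wprod P l.dropLast • (Equiv.reflection P (l.getLast hne) • l.getLast hne) := by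
      rw [hw, mul_smul]
    rw [this] at hpos
    exact hpos
  obtain ⟨l'', hl'', hlen, hw''⟩ := exists_shorter hΔ l.dropLast hdl ha hneg
  have h1 : wprod P l'' = wprod P l := by
    rw [hw, hw'', mul_assoc, reflection_mul_self, mul_one]
  have h2 := hmin l'' hl'' h1
  have h3 : l.dropLast.length = l.length - 1 := List.length_dropLast
  omega

/-- An element of the group generated by the simple reflections mapping all simple roots to
positive roots is trivial. -/
lemma eq_one_of_smul_mem_posOf (hΔ : IsSimpleSys P Δ) {w : P.Aut} (hw : w ∈ WΔ P Δ)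
    (h : ∀ i ∈ Δ, w • i ∈ posOf P Δ) : w = 1 := by
  classical
  have hex : ∃ n : ℕ, ∃ l : List ι, (∀ a ∈ l, a ∈ Δ) ∧ wprod P l = w ∧ l.length = n := by
    obtain ⟨l, hl, hlw⟩ := exists_wprod_eq hw
    exact ⟨l.length, l, hl, hlw, rfl⟩
  obtain ⟨l, hl, hlw, hlen⟩ := Nat.find_spec hex
  by_cases hne : l = []
  · rw [← hlw, hne, wprod_nil]
  · exfalso
    have hmin : ∀ l' : List ι, (∀ a ∈ l', a ∈ Δ) → wprod P l' = wprod P l →
        l.length ≤ l'.length := by
      intro l' hl' hw'
      rw [hlen]
      exact Nat.find_min' hex ⟨l', hl', hw'.trans hlw, rfl⟩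
    have hneg := neg_smul_getLast_mem hΔ l hl hne hmin
    rw [hlw] at hneg
    have hpos := h _ (hl _ (List.getLast_mem hne))
    apply not_mem_posOf_and_neg hΔ _ ⟨hpos, ?_⟩
    change P.root (neg P (w • l.getLast hne)) ∈ natSpan P Δ
    rwa [root_neg]

end Groth.Agent.Helper7.RD
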