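import Groth.Agent.Lib.Helper7.RootD.Aut
import Mathlib.GroupTheory.OrderOfElement

/-! The subgroup generated by two involutions. -/

set_option linter.unusedSectionVars false

namespace Groth.Agent.Helper7.RD

open Function

section Abstract

variable {G : Type*} [Group G] (s t : G)

lemma inv_eq_self_of_mul_self {s : G} (hs : s * s = 1) : s⁻¹ = s :=
  inv_eq_of_mul_eq_one_right hs

lemma invol_mul_zpow (hs : s * s = 1) (ht : t * t = 1) (k : ℤ) :
    s * (s * t) ^ k = (s * t) ^ (-k) * s := by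
  have hsi := inv_eq_self_of_mul_self hs
  have hti := inv_eq_self_of_mul_self ht
  have hconj : s * (s * t) * s⁻¹ = (s * t)⁻¹ := by
    rw [mul_inv_rev, hsi, hti, ← mul_assoc, hs, one_mul]
  have h2 := conj_zpow (a := s) (b := s * t) (i := k)
  rw [hconj, hsi] at h2
  -- h2 : ((s*t)⁻¹)^k = s * (s*t)^k * s
  have h3 : s * (s * t) ^ k = ((s * t)⁻¹) ^ k * s := by
    rw [h2, mul_assoc, mul_assoc, hs, mul_one]
  rw [h3, inv_zpow, zpow_neg]

lemma invol_notMem_zpowers (hs : s * s = 1) (ht : t * t = 1) (hs1 : s ≠ 1) (ht1 : t ≠ 1)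
    (k : ℤ) : s ≠ (s * t) ^ k := by
  intro h
  have hcomm : s * (s * t) = (s * t) * s := by
    have : Commute s ((s * t) ^ k) := by rw [← h]
    have h2 : Commute ((s * t) ^ k) (s * t) := (Commute.refl (s * t)).zpow_left k
    rw [← h] at h2
    exact h2.eq
  have hts : t = s * t * s := by
    rw [← hcomm, ← mul_assoc, hs, one_mul]
  have hr2 : (s * t) * (s * t) = 1 := by
    calc (s * t) * (s * t) = (s * t * s) * t := by group
      _ = t * t := by rw [← hts]
      _ = 1 := ht
  have hr2' : (s * t) ^ (2 : ℤ) = 1 := by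
    rw [zpow_two]; exact hr2
  have hk : (s * t) ^ k = (s * t) ^ (k % 2) := by
    conv_lhs => rw [← Int.mul_ediv_add_emod k 2]
    rw [zpow_add, zpow_mul, hr2', one_zpow, one_mul]
  rcases Int.emod_two_eq_zero_or_one k with h0 | h0
  · rw [hk, h0, zpow_zero] at h
    exact hs1 h
  · rw [hk, h0, zpow_one] at h
    apply ht1
    have : s * 1 = s * t := by rw [mul_one]; exact h
    exact (mul_left_cancel this).symm

lemma mem_closure_pair_iff (hs : s * s = 1) (ht : t * t = 1) (x : G) :
    x ∈ Subgroup.closure ({s, t} : Set G) ↔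
      (∃ k : ℤ, x = (s * t) ^ k) ∨ (∃ k : ℤ, x = (s * t) ^ k * s) := by
  have hsi := inv_eq_self_of_mul_self hs
  have hti := inv_eq_self_of_mul_self ht
  have hsmem : s ∈ Subgroup.closure ({s, t} : Set G) := Subgroup.subset_closure (by simp)
  have htmem : t ∈ Subgroup.closure ({s, t} : Set G) := Subgroup.subset_closure (by simp)
  constructor
  · intro hx
    induction hx using Subgroup.closure_induction with
    | mem x hx =>
      rcases hx with rfl | rfl
      · right; exact ⟨0, by simp⟩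
      · right
        refine ⟨-1, ?_⟩
        rw [zpow_neg, zpow_one, mul_inv_rev, hsi, hti, mul_assoc, hs, mul_one]
    | one => left; exact ⟨0, by simp⟩
    | mul x y _ _ hx hy =>
      rcases hx with ⟨a, rfl⟩ | ⟨a, rfl⟩
      · rcases hy with ⟨b, rfl⟩ | ⟨b, rfl⟩
        · left; exact ⟨a + b, by rw [zpow_add]⟩
        · right; exact ⟨a + b, by rw [zpow_add, mul_assoc]⟩
      · rcases hy with ⟨b, rfl⟩ | ⟨b, rfl⟩
        · right
          refine ⟨a + -b, ?_⟩
          rw [mul_assoc, invol_mul_zpow s t hs ht, ← mul_assoc, ← zpow_add]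
        · left
          refine ⟨a + -b, ?_⟩
          rw [mul_assoc, ← mul_assoc s, invol_mul_zpow s t hs ht, mul_assoc, hs, mul_one,
            ← zpow_add]
    | inv x _ hx =>
      rcases hx with ⟨a, rfl⟩ | ⟨a, rfl⟩
      · left; exact ⟨-a, by rw [zpow_neg]⟩
      · right
        refine ⟨a, ?_⟩
        rw [mul_inv_rev, hsi, ← zpow_neg, invol_mul_zpow s t hs ht, _root_.neg_neg]
  · rintro (⟨k, rfl⟩ | ⟨k, rfl⟩)
    · exact Subgroup.zpow_mem _ (mul_mem hsmem htmem) k
    · exact mul_mem (Subgroup.zpow_mem _ (mul_mem hsmem htmem) k) hsmem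

/-- The subgroup generated by two non-trivial involutions whose product has order `n`
has `2 n` elements. -/
lemma card_closure_pair_of_involutions (hs : s * s = 1) (ht : t * t = 1) (hs1 : s ≠ 1)
    (ht1 : t ≠ 1) (n : ℕ) (hn : 0 < n) (hord : orderOf (s * t) = n) :
    Nat.card (Subgroup.closure ({s, t} : Set G)) = 2 * n := by
  classical
  have hsmem : s ∈ Subgroup.closure ({s, t} : Set G) := Subgroup.subset_closure (by simp)
  have htmem : t ∈ Subgroup.closure ({s, t} : Set G) := Subgroup.subset_closure (by simp)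
  have hrmem : s * t ∈ Subgroup.closure ({s, t} : Set G) := mul_mem hsmem htmem
  let f : Fin n × Fin 2 → Subgroup.closure ({s, t} : Set G) := fun p =>
    ⟨(s * t) ^ (p.1 : ℕ) * s ^ (p.2 : ℕ), mul_mem (pow_mem hrmem _) (pow_mem hsmem _)⟩
  have hpowinj : ∀ a b : Fin n, (s * t) ^ (a : ℕ) = (s * t) ^ (b : ℕ) → a = b := by
    intro a b h
    apply Fin.ext
    apply pow_injOn_Iio_orderOf (x := s * t)
    · rw [hord]; exact a.2
    · rw [hord]; exact b.2
    · exact h
  have hfin2 : ∀ e : Fin 2, (e : ℕ) = 0 ∨ (e : ℕ) = 1 := by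
    intro e; omega
  have hinj : Injective f := by
    rintro ⟨a, e⟩ ⟨b, e'⟩ h
    have h' : (s * t) ^ (a : ℕ) * s ^ (e : ℕ) = (s * t) ^ (b : ℕ) * s ^ (e' : ℕ) :=
      congrArg Subtype.val h
    rcases hfin2 e with he | he <;> rcases hfin2 e' with he' | he'
    · rw [he, he', pow_zero, mul_one, mul_one] at h'
      have : e = e' := Fin.ext (he.trans he'.symm)
      rw [hpowinj a b h', this]
    · exfalso
      rw [he, he', pow_zero, pow_one, mul_one] at h'
      apply invol_notMem_zpowers s t hs ht hs1 ht1 (-(b : ℤ) + a)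
      rw [zpow_add, zpow_neg, zpow_natCast, zpow_natCast, h', inv_mul_cancel_left]
    · exfalso
      rw [he, he', pow_zero, pow_one, mul_one] at h'
      apply invol_notMem_zpowers s t hs ht hs1 ht1 (-(a : ℤ) + b)
      rw [zpow_add, zpow_neg, zpow_natCast, zpow_natCast, ← h', inv_mul_cancel_left]
    · rw [he, he', pow_one] at h'
      have : e = e' := Fin.ext (he.trans he'.symm)
      rw [hpowinj a b (mul_right_cancel h'), this]
  have hsurj : Surjective f := by
    rintro ⟨x, hx⟩
    have hmod : ∀ k : ℤ, ∃ a : Fin n, (s * t) ^ k = (s * t) ^ (a : ℕ) := by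
      intro k
      have hnz : (n : ℤ) ≠ 0 := by exact_mod_cast hn.ne'
      have h0 : 0 ≤ k % (n : ℤ) := Int.emod_nonneg k hnz
      have h1 : k % (n : ℤ) < n := Int.emod_lt_of_pos k (by exact_mod_cast hn)
      refine ⟨⟨(k % (n : ℤ)).toNat, by omega⟩, ?_⟩
      have h2 : (s * t) ^ (k % (orderOf (s * t) : ℤ)) = (s * t) ^ k := zpow_mod_orderOf _ _
      rw [hord] at h2
      rw [← h2]
      change _ = (s * t) ^ ((k % (n : ℤ)).toNat)
      rw [← zpow_natCast, Int.toNat_of_nonneg h0]
    rcases (mem_closure_pair_iff s t hs ht x).mp hx with ⟨k, rfl⟩ | ⟨k, rfl⟩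
    · obtain ⟨a, ha⟩ := hmod k
      refine ⟨(a, 0), Subtype.ext ?_⟩
      simp [f, ha]
    · obtain ⟨a, ha⟩ := hmod k
      refine ⟨(a, 1), Subtype.ext ?_⟩
      simp [f, ha]
  have hcard := Nat.card_congr (Equiv.ofBijective f ⟨hinj, hsurj⟩)
  rw [← hcard, Nat.card_prod, Nat.card_fin, Nat.card_fin, mul_comm]

end Abstract

end Groth.Agent.Helper7.RD
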