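import Groth.Agent.Lib.Helper7.RootD.Dihedral
import Mathlib.LinearAlgebra.RootSystem.Reduced

/-! Root data over `ℤ`: the subgroup generated by two reflections. -/

set_option linter.unusedSectionVars false

namespace Groth.Agent.Helper7.RD

open RootPairing _root_.RootD Set Function

variable {ι M N : Type*} [AddCommGroup M] [AddCommGroup N] (P : RootPairing ι ℤ M N)

lemma reflection_smul_apply (i : ι) (x : M) :
    Equiv.reflection P i • x = P.reflection i x := rfl

lemma reflection_smul_of_coroot_eq_zero (i : ι) (x : M) (h : P.coroot' i x = 0) :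
    Equiv.reflection P i • x = x := by
  rw [reflection_smul_apply, P.reflection_apply, h, zero_smul, sub_zero]

lemma reflection_ne_one (i : ι) : Equiv.reflection P i ≠ 1 := by
  intro h
  have h1 : Equiv.reflection P i • P.root i = P.root i := by rw [h, one_smul]
  rw [reflection_smul_apply, P.reflection_apply_self] at h1
  have := isAddTorsionFree_left P
  have h2 : (2 : ℤ) • P.root i = 0 := by
    rw [two_smul]
    nth_rewrite 1 [← h1]
    exact neg_add_cancel _
  have h3 : (2 : ℤ) • P.root i = (2 : ℤ) • (0 : M) := by rw [h2, smul_zero]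
  exact P.ne_zero i (smul_right_injective M (by norm_num) h3)

/-- An automorphism fixing two non-proportional roots and the common kernel of their coroots is
trivial. -/
lemma eq_one_of_fix_pair [Finite ι] (i j : ι) (hli : LinearIndependent ℤ ![P.root i, P.root j])
    (g : P.Aut)
    (hK : ∀ x : M, P.coroot' i x = 0 → P.coroot' j x = 0 → g • x = x)
    (hi : g • i = i) (hj : g • j = j) : g = 1 := by
  have htf := isAddTorsionFree_left P
  have hd : P.pairing i j * P.pairing j i ≠ 4 :=
    P.coxeterWeight_ne_four_of_linearIndependent hli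
  have hgi : g • P.root i = P.root i := by rw [← root_smul, hi]
  have hgj : g • P.root j = P.root j := by rw [← root_smul, hj]
  apply Equiv.weightHom_injective P
  ext x
  change g • x = x
  set p := P.coroot' i x with hp
  set q := P.coroot' j x with hq
  set A := P.pairing j i with hA
  set B := P.pairing i j with hB
  set d : ℤ := 4 - A * B with hdd
  have hd0 : d ≠ 0 := by
    intro h
    apply hd
    rw [hdd] at h
    linarith
  set y : M := d • x - (2 * p - A * q) • P.root i - (2 * q - B * p) • P.root j with hy
  have hyi : P.coroot' i y = 0 := by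
    rw [hy]
    simp only [map_sub, map_smul, P.root_coroot'_eq_pairing, P.pairing_same, smul_eq_mul, ← hp,
      ← hA]
    rw [hdd]; ring
  have hyj : P.coroot' j y = 0 := by
    rw [hy]
    simp only [map_sub, map_smul, P.root_coroot'_eq_pairing, P.pairing_same, smul_eq_mul, ← hq,
      ← hB]
    rw [hdd]; ring
  have hgy := hK y hyi hyj
  have hdx : d • x = y + (2 * p - A * q) • P.root i + (2 * q - B * p) • P.root j := by
    rw [hy]; abel
  have h1 : g • (d • x) = d • x := by
    rw [hdx, smul_add, smul_add, hgy, smul_zsmul, smul_zsmul, hgi, hgj]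
  rw [smul_zsmul] at h1
  exact smul_right_injective M hd0 h1

/-- S5496 -/
theorem card_closure_pair_reflection_eq [Finite ι] (i j : ι)
    (hli : LinearIndependent ℤ ![P.root i, P.root j])
    (n : ℕ) (hn : IsLeast {m : ℕ | 0 < m ∧
      ((Equiv.reflection P i * Equiv.reflection P j) ^ m) • i = i ∧
      ((Equiv.reflection P i * Equiv.reflection P j) ^ m) • j = j} n) :
    Nat.card (Subgroup.closure ({Equiv.reflection P i, Equiv.reflection P j} : Set P.Aut)) =
      2 * n := by
  set r := Equiv.reflection P i * Equiv.reflection P j with hr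
  have hrK : ∀ x : M, P.coroot' i x = 0 → P.coroot' j x = 0 → r • x = x := by
    intro x hxi hxj
    rw [hr, mul_smul, reflection_smul_of_coroot_eq_zero P j x hxj,
      reflection_smul_of_coroot_eq_zero P i x hxi]
  have hpowK : ∀ m : ℕ, ∀ x : M, P.coroot' i x = 0 → P.coroot' j x = 0 → (r ^ m) • x = x := by
    intro m
    induction m with
    | zero => intro x _ _; simp
    | succ m ih =>
      intro x hxi hxj
      rw [pow_succ, mul_smul, hrK x hxi hxj, ih x hxi hxj]
  have hone : ∀ m : ℕ, (r ^ m) • i = i → (r ^ m) • j = j → r ^ m = 1 := fun m h1 h2 =>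
    eq_one_of_fix_pair P i j hli (r ^ m) (hpowK m) h1 h2
  obtain ⟨⟨hn0, hni, hnj⟩, hmin⟩ := hn
  have hord : orderOf r = n := by
    rw [orderOf_eq_iff hn0]
    refine ⟨hone n hni hnj, fun m hm hm0 h => ?_⟩
    have : n ≤ m := hmin ⟨hm0, by rw [h, one_smul], by rw [h, one_smul]⟩
    omega
  exact card_closure_pair_of_involutions _ _ (reflection_mul_self i) (reflection_mul_self j)
    (reflection_ne_one P i) (reflection_ne_one P j) n hn0 hord

end Groth.Agent.Helper7.RD
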