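import Groth.Agent.Lib.Helper7.RootD.Cartan
import Groth.Agent.Lib.Helper7.RootD.Criteria
import Mathlib.LinearAlgebra.Matrix.Nondegenerate

/-! Root data over `ℤ`: the simple system of the dual datum attached to a simple system. -/

set_option linter.unusedSectionVars false

namespace Groth.Agent.Helper7.RD

open RootPairing _root_.RootD Set Function Matrix

section LinInd

variable {R V κ : Type*} [CommRing R] [IsDomain R] [AddCommGroup V] [Module R V]

lemma linearIndependent_smul_of_ne_zero {v : κ → V} (hv : LinearIndependent R v) (t : κ → R)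
    (ht : ∀ i, t i ≠ 0) : LinearIndependent R (fun i => t i • v i) := by
  rw [linearIndependent_iff'] at hv ⊢
  intro s g hg i hi
  have := hv s (fun i => g i * t i) (by simpa [mul_smul] using hg) i hi
  exact (mul_eq_zero.mp this).resolve_right (ht i)

lemma linearIndependent_of_smul {v : κ → V} (c : R) (hv : LinearIndependent R (fun i => c • v i)) :
    LinearIndependent R v := by
  rw [linearIndependent_iff'] at hv ⊢
  intro s g hg i hi
  apply hv s g _ i hi
  have : ∑ i ∈ s, g i • c • v i = c • ∑ i ∈ s, g i • v i := by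
    rw [Finset.smul_sum]
    apply Finset.sum_congr rfl
    intro i _
    rw [smul_comm]
  rw [this, hg, smul_zero]

end LinInd

variable {ι M N : Type*} [AddCommGroup M] [AddCommGroup N] {P : RootPairing ι ℤ M N}
  [Finite ι] {Δ : Set ι}

/-- The coroots of a linearly independent finite set of roots are linearly independent. -/
lemma linearIndepOn_coroot_finset [Fintype ι] (Δ : Finset ι)
    (hli : LinearIndepOn ℤ P.root (↑Δ : Set ι)) : LinearIndepOn ℤ P.coroot (↑Δ : Set ι) := by
  classical
  change LinearIndependent ℤ (fun a : ↥Δ => P.coroot a)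
  rw [Fintype.linearIndependent_iff]
  intro g hg
  have hdet := det_cartan_pos P Δ hli
  have hvec : g ᵥ* (Matrix.of fun (a b : ↥Δ) => P.pairing (b : ι) (a : ι)) = 0 := by
    ext b
    have := congrArg (P.toLinearMap (P.root b)) hg
    simp only [map_sum, map_smul, map_zero, P.root_coroot_eq_pairing, smul_eq_mul] at this
    simpa [Matrix.vecMul, dotProduct] using this
  have := Matrix.eq_zero_of_vecMul_eq_zero hdet.ne' hvec
  intro a
  exact congrFun this a

lemma linearIndepOn_coroot (hΔ : IsSimpleSys P Δ) : LinearIndepOn ℤ P.coroot Δ := by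
  classical
  have := Fintype.ofFinite ι
  have hcoe : (↑(Set.toFinite Δ).toFinset : Set ι) = Δ := Set.Finite.coe_toFinset _
  have h := linearIndepOn_coroot_finset (P := P) (Set.toFinite Δ).toFinset
    (by rw [hcoe]; exact hΔ.linInd)
  rwa [hcoe] at h

/-- `ℓ(k) k^∨ = Σ c_i ℓ(i) i^∨` -/
lemma rootForm_smul_coroot_eq_sum [Fintype ι] (hΔ : IsSimpleSys P Δ) (k : ι) :
    P.RootForm (P.root k) (P.root k) • P.coroot k =
      (coeff hΔ k).sum fun i a => (a * P.RootForm (P.root i) (P.root i)) • P.coroot i := by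
  rw [P.rootForm_self_smul_coroot]
  conv_lhs => rw [← coeff_spec hΔ k, Finsupp.linearCombination_apply, map_finsuppSum]
  rw [Finsupp.sum, Finsupp.sum, Finset.smul_sum]
  apply Finset.sum_congr rfl
  intro i _
  rw [map_smul, smul_comm, ← P.rootForm_self_smul_coroot, smul_smul]

/-- the simple system of the dual datum -/
def dualSimple (P : RootPairing ι ℤ M N) (Δ : Set ι) : Set ι :=
  {j : ι | ∃ i ∈ Δ, (j = i ∧ IsIndiv P.flip i) ∨ (2 : ℤ) • P.coroot j = P.coroot i}

lemma coroot_mem_natSpan_dualSimple {i : ι} (hi : i ∈ Δ) :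
    P.coroot i ∈ natSpan P.flip (dualSimple P Δ) := by
  by_cases h : IsIndiv P.flip i
  · exact root_mem_natSpan P.flip (S := dualSimple P Δ) ⟨i, hi, Or.inl ⟨rfl, h⟩⟩
  · unfold IsIndiv at h
    push Not at h
    obtain ⟨j, hj⟩ := h
    have hj' : (2 : ℤ) • P.coroot j = P.coroot i := hj
    have hmem : j ∈ dualSimple P Δ := ⟨i, hi, Or.inr hj'⟩
    rw [← hj', two_smul]
    exact add_mem (root_mem_natSpan P.flip hmem) (root_mem_natSpan P.flip hmem)

lemma exists_nsmul_coroot_mem [Fintype ι] (hΔ : IsSimpleSys P Δ) {k : ι} (hk : k ∈ posOf P Δ) :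
    ∃ n : ℕ, 0 < n ∧ n • P.coroot k ∈ natSpan P.flip (dualSimple P Δ) := by
  have hpos := rootForm_root_pos P k
  refine ⟨(P.RootForm (P.root k) (P.root k)).toNat, by omega, ?_⟩
  rw [← natCast_zsmul, Int.toNat_of_nonneg hpos.le, rootForm_smul_coroot_eq_sum hΔ k]
  apply sum_mem
  intro i hi
  have hiΔ : i ∈ Δ := coeff_support hΔ k hi
  have hc : 0 ≤ coeff hΔ k i * P.RootForm (P.root i) (P.root i) :=
    mul_nonneg ((mem_posOf_iff hΔ k).mp hk i) (rootForm_root_pos P i).le
  obtain ⟨m, hm⟩ := Int.eq_ofNat_of_zero_le hc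
  change (coeff hΔ k i * P.RootForm (P.root i) (P.root i)) • P.coroot i ∈ _
  rw [hm, natCast_zsmul]
  exact nsmul_mem (coroot_mem_natSpan_dualSimple hiΔ) m

/-- S5485 -/
lemma isSimpleSys_dualSimple (hΔ : IsSimpleSys P Δ) :
    IsSimpleSys P.flip (dualSimple P Δ) := by
  classical
  have := Fintype.ofFinite ι
  have := isAddTorsionFree_right P
  apply isSimpleSys_of_cone
  · rintro j ⟨i, hi, ⟨rfl, h⟩ | h⟩
    · exact h
    · exact isIndiv_of_two_smul_eq P.flip h
  · -- linear independence
    have hcor := linearIndepOn_coroot hΔ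
    -- choose the simple root attached to an element of the dual simple system
    have hex : ∀ j : ι, ∃ i : ι, j ∈ dualSimple P Δ → (i ∈ Δ ∧
        ((j = i ∧ IsIndiv P.flip i) ∨ (2 : ℤ) • P.coroot j = P.coroot i)) := by
      intro j
      by_cases hj : j ∈ dualSimple P Δ
      · obtain ⟨i, hi, h⟩ := hj
        exact ⟨i, fun _ => ⟨hi, h⟩⟩
      · exact ⟨j, fun h => absurd h hj⟩
    choose f hf using hex
    have hex2 : ∀ j : ι, ∃ t : ℤ, t ≠ 0 ∧
        (j ∈ dualSimple P Δ → (2 : ℤ) • P.coroot j = t • P.coroot (f j)) := by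
      intro j
      by_cases hj : j ∈ dualSimple P Δ
      · rcases (hf j hj).2 with ⟨h, -⟩ | h
        · exact ⟨2, two_ne_zero, fun _ => by rw [← h]⟩
        · exact ⟨1, one_ne_zero, fun _ => by rw [h, one_smul]⟩
      · exact ⟨1, one_ne_zero, fun h => absurd h hj⟩
    choose t ht using hex2
    have hinj : InjOn f (dualSimple P Δ) := by
      intro j hj j' hj' hjj'
      rcases (hf j hj).2 with ⟨h1, h1'⟩ | h1 <;> rcases (hf j' hj').2 with ⟨h2, h2'⟩ | h2
      · rw [h1, h2, hjj']
      · exact absurd (hjj' ▸ h2) (h1' j')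
      · exact absurd (hjj' ▸ h1) (h2' j)
      · rw [← hjj'] at h2
        exact P.coroot.injective (smul_right_injective N (two_ne_zero (α := ℤ)) (h1.trans h2.symm))
    have hA : LinearIndepOn ℤ (P.coroot ∘ f) (dualSimple P Δ) := by
      apply LinearIndepOn.comp_of_image _ hinj
      apply hcor.mono
      rintro _ ⟨j, hj, rfl⟩
      exact (hf j hj).1
    have hB : LinearIndependent ℤ (fun j : ↥(dualSimple P Δ) => t j • P.coroot (f j)) :=
      linearIndependent_smul_of_ne_zero hA (fun j => t j) (fun j => (ht j).1)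
    have hC : LinearIndependent ℤ (fun j : ↥(dualSimple P Δ) => (2 : ℤ) • P.coroot j) := by
      convert hB using 2 with j
      exact (ht j).2 j.2
    exact linearIndependent_of_smul 2 hC
  · intro k
    rcases mem_posOf_or_neg hΔ k with hk | hk
    · obtain ⟨n, hn, h⟩ := exists_nsmul_coroot_mem hΔ hk
      exact ⟨n, hn, Or.inl h⟩
    · obtain ⟨n, hn, h⟩ := exists_nsmul_coroot_mem hΔ hk
      refine ⟨n, hn, Or.inr ?_⟩
      rw [coroot_neg] at h
      exact h

end Groth.Agent.Helper7.RD
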