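import Groth.Agent.Lib.Helper7.RootD.Height

/-! Root data over `ℤ`: extending odd additive maps on roots to the root lattice. -/

set_option linter.unusedSectionVars false

namespace Groth.Agent.Helper7.RD

open RootPairing _root_.RootD Set Function

variable {ι M N : Type*} [AddCommGroup M] [AddCommGroup N] (P : RootPairing ι ℤ M N)
  [Finite ι]

/-- S5465 -/
lemma existsUnique_extension {G : Type*} [AddCommGroup G] (f : ι → G)
    (hneg : ∀ i : ι, f (P.reflectionPerm i i) = -f i)
    (hadd : ∀ i j k : ι, P.root k = P.root i + P.root j → f k = f i + f j) :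
    ∃! φ : Submodule.span ℤ (Set.range P.root) →+ G,
      ∀ i : ι, φ ⟨P.root i, Submodule.subset_span (Set.mem_range_self i)⟩ = f i := by
  obtain ⟨Δ, hΔ⟩ := exists_isSimpleSys P
  have hv : LinearIndependent ℤ (fun a : ↥Δ => P.root a) := hΔ.linInd
  have hrange : Set.range (fun a : ↥Δ => P.root a) = P.root '' Δ := by
    ext x; simp
  have hle : Submodule.span ℤ (Set.range P.root) ≤
      Submodule.span ℤ (Set.range (fun a : ↥Δ => P.root a)) := by
    rw [hrange, span_simple_eq hΔ]
  let ψ : Submodule.span ℤ (Set.range P.root) →ₗ[ℤ] G :=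
    (Finsupp.linearCombination ℤ (fun a : ↥Δ => f a)) ∘ₗ hv.repr ∘ₗ Submodule.inclusion hle
  have hψ : ∀ k : ι, ψ ⟨P.root k, Submodule.subset_span (Set.mem_range_self k)⟩ = f k := by
    have hpos : ∀ k : ι, Reach P Δ k →
        ψ ⟨P.root k, Submodule.subset_span (Set.mem_range_self k)⟩ = f k := by
      intro k hk
      induction hk with
      | @base i hi =>
        change Finsupp.linearCombination ℤ (fun a : ↥Δ => f a) (hv.repr _) = f i
        rw [hv.repr_eq_single ⟨i, hi⟩ _ rfl]
        simp
      | @step j i k _ hi hk ih =>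
        have hiψ : ψ ⟨P.root i, Submodule.subset_span (Set.mem_range_self i)⟩ = f i := by
          change Finsupp.linearCombination ℤ (fun a : ↥Δ => f a) (hv.repr _) = f i
          rw [hv.repr_eq_single ⟨i, hi⟩ _ rfl]
          simp
        have : (⟨P.root k, Submodule.subset_span (Set.mem_range_self k)⟩ :
            Submodule.span ℤ (Set.range P.root)) =
            ⟨P.root j, Submodule.subset_span (Set.mem_range_self j)⟩ +
            ⟨P.root i, Submodule.subset_span (Set.mem_range_self i)⟩ := by
          apply Subtype.ext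
          exact hk
        rw [this, map_add, ih, hiψ, hadd j i k hk]
    intro k
    rcases mem_posOf_or_neg hΔ k with hk | hk
    · exact hpos k (reach_of_mem_natSpan hk)
    · have h1 := hpos _ (reach_of_mem_natSpan hk)
      have : (⟨P.root (neg P k), Submodule.subset_span (Set.mem_range_self _)⟩ :
          Submodule.span ℤ (Set.range P.root)) =
          -⟨P.root k, Submodule.subset_span (Set.mem_range_self k)⟩ := by
        apply Subtype.ext
        exact root_neg P k
      rw [this, map_neg, hneg k, neg_inj] at h1
      exact h1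
  refine ⟨ψ.toAddMonoidHom, hψ, ?_⟩
  intro φ hφ
  ext ⟨x, hx⟩
  induction hx using Submodule.span_induction with
  | mem x hx =>
    obtain ⟨i, rfl⟩ := hx
    rw [hφ i]
    exact (hψ i).symm
  | zero =>
    have : (⟨0, Submodule.zero_mem _⟩ : Submodule.span ℤ (Set.range P.root)) = 0 := rfl
    rw [this, map_zero, map_zero]
  | add x y hx hy ihx ihy =>
    have : (⟨x + y, Submodule.add_mem _ hx hy⟩ : Submodule.span ℤ (Set.range P.root)) =
        ⟨x, hx⟩ + ⟨y, hy⟩ := rfl
    rw [this, map_add, map_add, ihx, ihy]
  | smul t x hx ih =>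
    have : (⟨t • x, Submodule.smul_mem _ t hx⟩ : Submodule.span ℤ (Set.range P.root)) =
        t • ⟨x, hx⟩ := rfl
    rw [this, map_zsmul, map_zsmul, ih]

end Groth.Agent.Helper7.RD
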