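import Groth.Agent.Lib.Helper7.RootD.Basic
import Mathlib.LinearAlgebra.RootSystem.Base

/-! Root data over `ℤ`: pairing with the sum of the positive coroots. -/

set_option linter.unusedSectionVars false

namespace Groth.Agent.Helper7.RD

open RootPairing _root_.RootD Set Function

variable {ι M N : Type*} [AddCommGroup M] [AddCommGroup N] (P : RootPairing ι ℤ M N)
  [Finite ι] [Fintype ι] [P.IsReduced] (b : P.Base)

open Classical in
/-- a simple root pairs to `2` with the sum of the positive coroots -/
lemma sum_pairing_simple {j : ι} (hj : j ∈ b.support) :
    ∑ k, (if b.IsPos k then P.pairing j k else 0) = 2 := by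
  rw [← Finset.sum_filter]
  have hjpos : b.IsPos j := b.isPos_of_mem_support hj
  have hjmem : j ∈ Finset.univ.filter (fun k => b.IsPos k) := by simp [hjpos]
  rw [← Finset.add_sum_erase _ _ hjmem, P.pairing_same]
  suffices h : ∑ k ∈ (Finset.univ.filter (fun k => b.IsPos k)).erase j, P.pairing j k = 0 by
    rw [h, add_zero]
  have hneg : ∑ k ∈ (Finset.univ.filter (fun k => b.IsPos k)).erase j, P.pairing j k =
      ∑ k ∈ (Finset.univ.filter (fun k => b.IsPos k)).erase j, -P.pairing j k := by
    apply Finset.sum_nbij' (fun k => P.reflectionPerm j k) (fun k => P.reflectionPerm j k)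
    · intro k hk
      rw [Finset.mem_erase, Finset.mem_filter] at hk ⊢
      refine ⟨?_, Finset.mem_univ _, hk.2.2.reflectionPerm hj hk.1⟩
      intro h
      have : k = P.reflectionPerm j j := by
        have := congrArg (P.reflectionPerm j) h
        simpa using this
      have hk2 := hk.2.2
      rw [this] at hk2
      have h1 := (b.isPos_iff).mp hk2
      have h2 := b.height_reflectionPerm_self j
      have h3 := (b.isPos_iff).mp hjpos
      change b.height (P.reflectionPerm j j) = -b.height j at h2
      omega
    · intro k hk
      rw [Finset.mem_erase, Finset.mem_filter] at hk ⊢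
      refine ⟨?_, Finset.mem_univ _, hk.2.2.reflectionPerm hj hk.1⟩
      intro h
      have : k = P.reflectionPerm j j := by
        have := congrArg (P.reflectionPerm j) h
        simpa using this
      have hk2 := hk.2.2
      rw [this] at hk2
      have h1 := (b.isPos_iff).mp hk2
      have h2 := b.height_reflectionPerm_self j
      have h3 := (b.isPos_iff).mp hjpos
      change b.height (P.reflectionPerm j j) = -b.height j at h2
      omega
    · intro k _; simp
    · intro k _; simp
    · intro k _
      rw [P.pairing_reflectionPerm, P.pairing_reflectionPerm_self_left, _root_.neg_neg]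
  rw [Finset.sum_neg_distrib] at hneg
  omega

open Classical in
/-- S5491 -/
lemma two_mul_height (i : ι) :
    2 * b.height i = ∑ j, if b.IsPos j then P.pairing i j else 0 := by
  obtain ⟨f, -, -, hf⟩ := b.exists_root_eq_sum_int i
  rw [Base.height_eq_sum hf]
  have hpair : ∀ k, P.pairing i k = ∑ j ∈ b.support, f j * P.pairing j k := by
    intro k
    have := congrArg (P.coroot' k) hf
    simpa [P.root_coroot'_eq_pairing] using this
  calc 2 * ∑ j ∈ b.support, f j = ∑ j ∈ b.support, f j * 2 := by
        rw [Finset.mul_sum]
        apply Finset.sum_congr rfl
        intro j _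
        ring
    _ = ∑ j ∈ b.support, f j * ∑ k, (if b.IsPos k then P.pairing j k else 0) := by
        apply Finset.sum_congr rfl
        intro j hj
        rw [sum_pairing_simple P b hj]
    _ = ∑ k, if b.IsPos k then P.pairing i k else 0 := by
        simp_rw [Finset.mul_sum]
        rw [Finset.sum_comm]
        apply Finset.sum_congr rfl
        intro k _
        by_cases hk : b.IsPos k
        · simp only [hk, if_true]
          rw [hpair]
        · simp [hk]

end Groth.Agent.Helper7.RD
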