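import Groth.Agent.Lib.Helper7.RootD.Misc

/-! Root data over `ℤ`: commuting reflections, correspondence of coroots. -/

set_option linter.unusedSectionVars false

namespace Groth.Agent.Helper7.RD

open RootPairing _root_.RootD Set Function

variable {ι M N : Type*} [AddCommGroup M] [AddCommGroup N] (P : RootPairing ι ℤ M N) [Finite ι]

lemma commute_key (a b : ι) (hab : Commute (P.reflection a) (P.reflection b))
    (hpab : P.pairing a b ≠ 0) : P.pairing b a • P.root a = (2 : ℤ) • P.root b := by
  have := isAddTorsionFree_left P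
  have h1 := LinearEquiv.congr_fun hab.eq (P.root a)
  simp only [LinearEquiv.mul_apply, P.reflection_apply_root, map_sub, map_smul,
    P.pairing_same] at h1
  have h2 : P.pairing a b • (P.pairing b a • P.root a - (2 : ℤ) • P.root b) = 0 := by
    rw [← sub_eq_zero] at h1
    rw [← h1]
    module
  rcases smul_eq_zero.mp h2 with h | h
  · exact absurd h hpab
  · exact sub_eq_zero.mp h

/-- S5468 -/
lemma isOrthogonal_of_commute (i j : ι) (hne : P.reflection i ≠ P.reflection j)
    (hc : Commute (P.reflection i) (P.reflection j)) : P.IsOrthogonal i j := by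
  by_contra hcon
  have hp : P.pairing i j ≠ 0 := fun h0 => hcon ⟨h0, (P.pairing_eq_zero_iff').mp h0⟩
  have hq : P.pairing j i ≠ 0 := fun h0 => hp ((P.pairing_eq_zero_iff').mp h0)
  have := isAddTorsionFree_left P
  have k1 := commute_key P i j hc hp
  have k2 := commute_key P j i hc.symm hq
  have hpq : P.pairing j i * P.pairing i j = 4 := by
    have := congrArg (P.coroot' j) k1
    simpa [P.root_coroot'_eq_pairing] using this
  have h2 : Even (P.pairing j i) ∨ Even (P.pairing i j) := by
    by_contra hcon2
    push Not at hcon2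
    have h4 : Odd (P.pairing j i * P.pairing i j) :=
      Int.odd_mul.mpr ⟨Int.not_even_iff_odd.mp hcon2.1, Int.not_even_iff_odd.mp hcon2.2⟩
    rw [hpq] at h4
    exact absurd h4 (by decide)
  rcases h2 with ⟨t, ht⟩ | ⟨t, ht⟩
  · rw [ht, ← two_mul, mul_smul] at k1
    have h3 : t • P.root i = P.root j := smul_right_injective M (two_ne_zero) k1
    exact hne (reflection_eq_of_root_eq_smul P h3.symm).symm
  · rw [ht, ← two_mul, mul_smul] at k2
    have h3 : t • P.root j = P.root i := smul_right_injective M (two_ne_zero) k2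
    exact hne (reflection_eq_of_root_eq_smul P h3.symm)

/-- S5473 -/
lemma coroot_corr {ι' M' N' : Type*} [AddCommGroup M'] [AddCommGroup N']
    (P' : RootPairing ι' ℤ M' N') [Finite ι']
    (f : M' →ₗ[ℤ] M) (g : N →ₗ[ℤ] N')
    (hfg : ∀ (m' : M') (n : N), P.toLinearMap (f m') n = P'.toLinearMap m' (g n))
    (e : ι' ≃ ι) (he : ∀ i' : ι', f (P'.root i') = P.root (e i'))
    (e' : ι ≃ ι') (he' : ∀ i : ι, g (P.coroot i) = P'.coroot (e' i)) :
    ∀ i' : ι', g (P.coroot (e i')) = P'.coroot i' := by
  intro i'
  have := isAddTorsionFree_right P'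
  have hFx : P'.root' i' (g (P.coroot (e i'))) = 2 := by
    change P'.toLinearMap (P'.root i') (g (P.coroot (e i'))) = 2
    rw [← hfg, he, P.root_coroot_two]
  have hFy : P'.root' i' (P'.coroot i') = 2 := P'.root_coroot_two i'
  refine Module.eq_of_mapsTo_reflection_of_mem (f := P'.root' i') (g := P'.root' i')
    (finite_range P'.coroot) hFx hFy hFx hFy ?_ (P'.mapsTo_coreflection_coroot i')
    (mem_range_self i')
  rintro _ ⟨k', rfl⟩
  obtain ⟨k, rfl⟩ := e'.surjective k'
  refine ⟨e' (P.reflectionPerm (e i') k), ?_⟩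
  rw [← he', P.coroot_reflectionPerm, P.coreflection_apply, map_sub, map_smul,
    Module.preReflection_apply, ← he' k]
  congr 2
  change P.toLinearMap (P.root (e i')) (P.coroot k) = P'.toLinearMap (P'.root i') (g (P.coroot k))
  rw [← hfg, he]

end Groth.Agent.Helper7.RD
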