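import Groth.Agent.Lib.Helper7.RootD.Trans
import Groth.Agent.Lib.Helper7.RootD.Misc2

/-! Root data over `ℤ`: height, conjugacy of indivisible roots to simple roots, generation of the
Weyl group by simple reflections. -/

set_option linter.unusedSectionVars false

namespace Groth.Agent.Helper7.RD

open RootPairing _root_.RootD Set Function

variable {ι M N : Type*} [AddCommGroup M] [AddCommGroup N] {P : RootPairing ι ℤ M N}
  {Δ : Set ι}

/-- the height of a root relative to a simple system -/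
noncomputable def ht (hΔ : IsSimpleSys P Δ) (k : ι) : ℤ := (coeff hΔ k).sum fun _ a => a

lemma ht_reflectionPerm (hΔ : IsSimpleSys P Δ) {i : ι} (hi : i ∈ Δ) (k : ι) :
    ht hΔ (P.reflectionPerm i k) = ht hΔ k - P.pairing k i := by
  classical
  unfold ht
  rw [coeff_reflectionPerm, coeff_of_mem hΔ hi,
    Finsupp.sum_sub_index (h := fun _ a => a) (fun _ _ _ => rfl), Finsupp.smul_single,
    Finsupp.sum_single_index rfl]
  simp

lemma ht_nonneg (hΔ : IsSimpleSys P Δ) {k : ι} (hk : k ∈ posOf P Δ) : 0 ≤ ht hΔ k :=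
  Finset.sum_nonneg fun i _ => (mem_posOf_iff hΔ k).mp hk i

lemma isIndiv_smul_iff (g : P.Aut) (k : ι) : IsIndiv P (g • k) ↔ IsIndiv P k := by
  constructor
  · intro h j hj
    apply h (g • j)
    rw [root_smul, root_smul, ← hj, smul_zsmul]
  · intro h j hj
    apply h (g⁻¹ • j)
    rw [root_smul, ← smul_zsmul, hj, ← root_smul, inv_smul_smul]

lemma isIndiv_neg_iff (k : ι) : IsIndiv P (neg P k) ↔ IsIndiv P k :=
  isIndiv_smul_iff (Equiv.reflection P k) k

variable [Finite ι]

/-- Every positive indivisible root is conjugate to a simple root under the group generated by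
the simple reflections. -/
lemma exists_smul_eq_of_mem_posOf (hΔ : IsSimpleSys P Δ) {k : ι} (hk : k ∈ posOf P Δ)
    (hind : IsIndiv P k) : ∃ w ∈ WΔ P Δ, ∃ i ∈ Δ, w • i = k := by
  induction hn : (ht hΔ k).toNat using Nat.strong_induction_on generalizing k with
  | _ n ih =>
    by_cases hkΔ : k ∈ Δ
    · exact ⟨1, one_mem _, k, hkΔ, one_smul _ k⟩
    · obtain ⟨i, hi, hpos, hmem⟩ := exists_pairing_pos_reflectionPerm_mem_posOf hΔ hk hkΔ hind
      have hht := ht_reflectionPerm hΔ hi k
      have h0 := ht_nonneg hΔ hk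
      have h0' := ht_nonneg hΔ hmem
      have hlt : (ht hΔ (P.reflectionPerm i k)).toNat < n := by
        rw [← hn]
        omega
      obtain ⟨w, hw, j, hj, hwj⟩ := ih _ hlt hmem
        ((isIndiv_smul_iff (Equiv.reflection P i) k).mpr hind) rfl
      refine ⟨Equiv.reflection P i * w, mul_mem (reflection_mem_WΔ hi) hw, j, hj, ?_⟩
      rw [mul_smul, hwj, reflection_smul_idx, reflectionPerm_reflectionPerm]

/-- Every indivisible root is conjugate to a simple root. -/
lemma exists_smul_eq_of_isIndiv (hΔ : IsSimpleSys P Δ) {k : ι} (hind : IsIndiv P k) :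
    ∃ w ∈ WΔ P Δ, ∃ i ∈ Δ, w • i = k := by
  rcases mem_posOf_or_neg hΔ k with hk | hk
  · exact exists_smul_eq_of_mem_posOf hΔ hk hind
  · obtain ⟨w, hw, i, hi, hwi⟩ :=
      exists_smul_eq_of_mem_posOf hΔ hk ((isIndiv_neg_iff k).mpr hind)
    refine ⟨w * Equiv.reflection P i, mul_mem hw (reflection_mem_WΔ hi), i, hi, ?_⟩
    rw [mul_smul]
    change w • neg P i = k
    rw [smul_neg_idx, hwi, neg_neg]

/-- The simple reflections generate the Weyl group. -/
lemma WΔ_eq_weylGroup (hΔ : IsSimpleSys P Δ) : WΔ P Δ = P.weylGroup := by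
  apply le_antisymm (WΔ_le_weylGroup Δ)
  rw [← closure_reflection_isIndiv P]
  apply (Subgroup.closure_le _).mpr
  rintro _ ⟨k, hk, rfl⟩
  obtain ⟨w, hw, i, hi, rfl⟩ := exists_smul_eq_of_isIndiv hΔ hk
  change Equiv.reflection P (w • i) ∈ WΔ P Δ
  rw [← conj_reflection]
  exact mul_mem (mul_mem hw (reflection_mem_WΔ hi)) (inv_mem hw)

/-- S5508 -/
lemma simple_reflections_generate (hΔ : IsSimpleSys P Δ) :
    Subgroup.closure ((fun i : ι => Equiv.reflection P i) '' Δ) = P.weylGroup ∧
      ∀ k : ι, IsIndiv P k → ∃ g : P.Aut, g ∈ P.weylGroup ∧ ∃ i ∈ Δ, g • i = k := by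
  refine ⟨WΔ_eq_weylGroup hΔ, fun k hk => ?_⟩
  obtain ⟨w, hw, i, hi, hwi⟩ := exists_smul_eq_of_isIndiv hΔ hk
  exact ⟨w, WΔ_le_weylGroup Δ hw, i, hi, hwi⟩

/-- The span of a simple system is the span of all roots. -/
lemma span_simple_eq (hΔ : IsSimpleSys P Δ) :
    Submodule.span ℤ (P.root '' Δ) = Submodule.span ℤ (Set.range P.root) := by
  apply le_antisymm (Submodule.span_mono (image_subset_range _ _))
  apply Submodule.span_le.mpr
  rintro _ ⟨k, rfl⟩
  rw [← coeff_spec hΔ k]
  exact (Finsupp.mem_span_image_iff_linearCombination ℤ).mpr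
    ⟨coeff hΔ k, (Finsupp.mem_supported _ _).mpr (coeff_support hΔ k), rfl⟩

/-- S5475 -/
lemma indiv_in_lattice (had : Submodule.span ℤ (Set.range P.root) = ⊤)
    (i : ι) (hind : IsIndiv P i) (m : M) (n : ℤ) (h : n • m = P.root i) : n = 1 ∨ n = -1 := by
  classical
  obtain ⟨Δ, hΔ⟩ := exists_isSimpleSys P
  obtain ⟨w, -, j, hj, rfl⟩ := exists_smul_eq_of_isIndiv hΔ hind
  have hm : w⁻¹ • m ∈ Submodule.span ℤ (P.root '' Δ) := by
    rw [span_simple_eq hΔ, had]; trivial
  obtain ⟨c, hc, hcm⟩ := (Finsupp.mem_span_image_iff_linearCombination ℤ).mp hm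
  have h1 : n • (w⁻¹ • m) = P.root j := by
    rw [← smul_zsmul, h, root_smul, inv_smul_smul]
  have h2 : n • c = Finsupp.single j 1 := by
    apply linearCombination_inj P hΔ.linInd
    · intro l hl
      exact (Finsupp.mem_supported _ _).mp hc (Finsupp.support_smul hl)
    · intro l hl
      have := Finsupp.support_single_subset hl
      simp only [Finset.mem_singleton] at this
      exact this ▸ hj
    · rw [map_smul, hcm, h1]
      simp
  have h3 := congrArg (fun c => c j) h2
  simp only [Finsupp.smul_apply, Finsupp.single_eq_same, smul_eq_mul] at h3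
  exact Int.eq_one_or_neg_one_of_mul_eq_one h3

end Groth.Agent.Helper7.RD
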