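import Groth.Agent.Lib.Helper7.RootD.Basic
import Mathlib.LinearAlgebra.RootSystem.Base
import Mathlib.LinearAlgebra.RootSystem.Hom

/-! Root data over `ℤ`: the isomorphism theorem for reduced adjoint root data. -/

set_option linter.unusedSectionVars false

namespace Groth.Agent.Helper7.RD

open RootPairing _root_.RootD Set Function Module

variable {ι M N ι' M' N' : Type*} [AddCommGroup M] [AddCommGroup N] [AddCommGroup M']
  [AddCommGroup N'] (P : RootPairing ι ℤ M N) (P' : RootPairing ι' ℤ M' N')

/-- The basis of simple roots of an adjoint root datum. -/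
noncomputable def adjBasis (had : Submodule.span ℤ (range P.root) = ⊤) (b : P.Base) :
    Basis b.support ℤ M :=
  Basis.mk (v := fun i : b.support => P.root i) b.linearIndepOn_root (by
    have : range (fun i : b.support => P.root i) = P.root '' b.support := by
      ext x; simp
    rw [this, b.span_int_root_support, had])

@[simp] lemma adjBasis_apply (had : Submodule.span ℤ (range P.root) = ⊤) (b : P.Base)
    (i : b.support) : adjBasis P had b i = P.root i := by
  simp [adjBasis]

variable (had : Submodule.span ℤ (range P.root) = ⊤)
  (had' : Submodule.span ℤ (range P'.root) = ⊤) (b : P.Base) (b' : P'.Base)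
  (u : b.support ≃ b'.support)

/-- The linear equivalence of weight lattices induced by a bijection of bases. -/
noncomputable def wEquiv : M ≃ₗ[ℤ] M' :=
  (adjBasis P had b).equiv (adjBasis P' had' b') u

@[simp] lemma wEquiv_root (i : b.support) :
    wEquiv P P' had had' b b' u (P.root i) = P'.root (u i) := by
  have := (adjBasis P had b).equiv_apply (b' := adjBasis P' had' b') i u
  simpa [wEquiv] using this

lemma wEquiv_symm :
    (wEquiv P P' had had' b b' u).symm = wEquiv P' P had' had b' b u.symm := by
  simp [wEquiv, Basis.equiv_symm]

variable (hu : ∀ i j : b.support, P.pairing (i : ι) (j : ι) = P'.pairing (u i : ι') (u j : ι'))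

include hu in
lemma wEquiv_reflection (i : b.support) (x : M) :
    wEquiv P P' had had' b b' u (P.reflection i x) =
      P'.reflection (u i) (wEquiv P P' had had' b b' u x) := by
  have h : (wEquiv P P' had had' b b' u).toLinearMap ∘ₗ (P.reflection i).toLinearMap =
      (P'.reflection (u i)).toLinearMap ∘ₗ (wEquiv P P' had had' b b' u).toLinearMap := by
    apply (adjBasis P had b).ext
    intro j
    simp only [LinearMap.coe_comp, LinearEquiv.coe_coe, comp_apply, adjBasis_apply,
      wEquiv_root, P.reflection_apply_root, P'.reflection_apply_root, map_sub, map_zsmul, hu j i]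
  exact LinearMap.congr_fun h x

variable [Finite ι] [Finite ι'] [P.IsReduced] [P'.IsReduced]

include hu in
lemma wEquiv_mem_range (k : ι) :
    wEquiv P P' had had' b b' u (P.root k) ∈ range P'.root := by
  refine b.induction_reflect k (p := fun k => wEquiv P P' had had' b b' u (P.root k) ∈ range P'.root)
    ?_ ?_ ?_
  · rintro i ⟨k', hk'⟩
    refine ⟨P'.reflectionPerm k' k', ?_⟩
    rw [P'.root_reflectionPerm, P'.reflection_apply_self, hk', P.root_reflectionPerm,
      P.reflection_apply_self, map_neg]
  · intro i hi
    exact ⟨u ⟨i, hi⟩, (wEquiv_root P P' had had' b b' u ⟨i, hi⟩).symm⟩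
  · rintro i j ⟨k', hk'⟩ hj
    refine ⟨P'.reflectionPerm (u ⟨j, hj⟩) k', ?_⟩
    rw [P'.root_reflectionPerm, hk', P.root_reflectionPerm]
    exact (wEquiv_reflection P P' had had' b b' u hu ⟨j, hj⟩ (P.root i)).symm

include hu in
lemma hu_symm (i j : b'.support) :
    P'.pairing (i : ι') (j : ι') = P.pairing (u.symm i : ι) (u.symm j : ι) := by
  rw [hu, Equiv.apply_symm_apply, Equiv.apply_symm_apply]

/-- The bijection of roots induced by a bijection of bases respecting the Cartan matrices. -/
noncomputable def idxEquiv : ι ≃ ι' where
  toFun k := (wEquiv_mem_range P P' had had' b b' u hu k).choose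
  invFun k' := (wEquiv_mem_range P' P had' had b' b u.symm (hu_symm P P' b b' u hu) k').choose
  left_inv k := by
    apply P.root.injective
    have h1 := (wEquiv_mem_range P P' had had' b b' u hu k).choose_spec
    have h2 := (wEquiv_mem_range P' P had' had b' b u.symm (hu_symm P P' b b' u hu)
      (wEquiv_mem_range P P' had had' b b' u hu k).choose).choose_spec
    rw [h2, h1, ← wEquiv_symm P P' had had' b b' u, LinearEquiv.symm_apply_apply]
  right_inv k' := by
    apply P'.root.injective
    have h1 := (wEquiv_mem_range P' P had' had b' b u.symm (hu_symm P P' b b' u hu) k').choose_spec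
    have h2 := (wEquiv_mem_range P P' had had' b b' u hu
      (wEquiv_mem_range P' P had' had b' b u.symm (hu_symm P P' b b' u hu) k').choose).choose_spec
    rw [h2, h1, ← wEquiv_symm P P' had had' b b' u, LinearEquiv.apply_symm_apply]

lemma root_idxEquiv (k : ι) :
    P'.root (idxEquiv P P' had had' b b' u hu k) = wEquiv P P' had had' b b' u (P.root k) :=
  (wEquiv_mem_range P P' had had' b b' u hu k).choose_spec

lemma idxEquiv_of_mem (i : b.support) : idxEquiv P P' had had' b b' u hu i = u i := by
  apply P'.root.injective
  rw [root_idxEquiv, wEquiv_root]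

/-- The transposed equivalence of coweight lattices. -/
noncomputable def cwEquiv : N' ≃ₗ[ℤ] N :=
  (P'.toLinearMap.flip.toPerfPair.trans (wEquiv P P' had had' b b' u).dualMap).trans
    P.toLinearMap.flip.toPerfPair.symm

lemma toLinearMap_cwEquiv (m : M) (n' : N') :
    P.toLinearMap m (cwEquiv P P' had had' b b' u n') =
      P'.toLinearMap (wEquiv P P' had had' b b' u m) n' := by
  simp [cwEquiv]

include had in
lemma cwEquiv_coroot (k : ι) :
    cwEquiv P P' had had' b b' u (P'.coroot (idxEquiv P P' had had' b b' u hu k)) =
      P.coroot k := by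
  have htf := isAddTorsionFree_left P
  set e := idxEquiv P P' had had' b b' u hu with he
  set φ := wEquiv P P' had had' b b' u with hφ
  apply P.toLinearMap.flip.toPerfPair.injective
  symm
  apply Module.Dual.eq_of_preReflection_mapsTo (x := P.root k) (Φ := range P.root)
    (finite_range _) had
  · exact P.root_coroot_two k
  · rintro _ ⟨l, rfl⟩
    refine ⟨P.reflectionPerm k l, ?_⟩
    rw [Module.preReflection_apply, P.root_reflectionPerm, P.reflection_apply]
    rfl
  · change P.toLinearMap (P.root k) (cwEquiv P P' had had' b b' u (P'.coroot (e k))) = 2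
    rw [toLinearMap_cwEquiv, ← root_idxEquiv P P' had had' b b' u hu k]
    exact P'.root_coroot_two _
  · rintro _ ⟨l, rfl⟩
    refine ⟨e.symm (P'.reflectionPerm (e k) (e l)), ?_⟩
    apply φ.injective
    rw [hφ, ← root_idxEquiv P P' had had' b b' u hu, ← he, Equiv.apply_symm_apply,
      Module.preReflection_apply, map_sub, map_zsmul, ← root_idxEquiv P P' had had' b b' u hu,
      ← root_idxEquiv P P' had had' b b' u hu, ← he, P'.root_reflectionPerm, P'.reflection_apply]
    congr 2
    change P'.toLinearMap (P'.root (e l)) (P'.coroot (e k)) =
      P.toLinearMap (P.root l) (cwEquiv P P' had had' b b' u (P'.coroot (e k)))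
    rw [toLinearMap_cwEquiv, ← root_idxEquiv P P' had had' b b' u hu l]

/-- The isomorphism of root data induced by a bijection of bases respecting Cartan matrices. -/
noncomputable def isoOfCartan : RootPairing.Equiv P P' where
  weightMap := (wEquiv P P' had had' b b' u).toLinearMap
  coweightMap := (cwEquiv P P' had had' b b' u).toLinearMap
  indexEquiv := idxEquiv P P' had had' b b' u hu
  weight_coweight_transpose := by
    ext n' m
    simp only [LinearMap.coe_comp, LinearEquiv.coe_coe, comp_apply, LinearMap.dualMap_apply]
    change P'.toLinearMap (wEquiv P P' had had' b b' u m) n' =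
      P.toLinearMap m (cwEquiv P P' had had' b b' u n')
    rw [toLinearMap_cwEquiv]
  root_weightMap := by
    ext k
    exact (root_idxEquiv P P' had had' b b' u hu k).symm
  coroot_coweightMap := by
    ext k'
    simp only [LinearEquiv.coe_coe, comp_apply]
    have := cwEquiv_coroot P P' had had' b b' u hu ((idxEquiv P P' had had' b b' u hu).symm k')
    rw [Equiv.apply_symm_apply] at this
    exact this
  bijective_weightMap := (wEquiv P P' had had' b b' u).bijective
  bijective_coweightMap := (cwEquiv P P' had had' b b' u).bijective

include had had' hu in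
/-- S5493 -/
theorem existsUnique_equiv_of_cartanMatrix_adjoint :
    ∃! e : RootPairing.Equiv P P', ∀ i : ↥b.support, e.indexEquiv (i : ι) = (u i : ι') := by
  refine ⟨isoOfCartan P P' had had' b b' u hu, fun i => idxEquiv_of_mem P P' had had' b b' u hu i,
    ?_⟩
  intro e he
  have hw : e.weightMap = (wEquiv P P' had had' b b' u).toLinearMap := by
    apply (adjBasis P had b).ext
    intro i
    rw [adjBasis_apply, Hom.root_weightMap_apply, he i, LinearEquiv.coe_coe, wEquiv_root]
  apply RootPairing.Equiv.ext
  · exact hw
  · -- coweight maps
    change e.coweightMap = (cwEquiv P P' had had' b b' u).toLinearMap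
    apply LinearMap.ext
    intro n'
    apply P.toLinearMap.flip.toPerfPair.injective
    apply LinearMap.ext
    intro m
    change P.toLinearMap m (e.coweightMap n') = P.toLinearMap m (cwEquiv P P' had had' b b' u n')
    rw [toLinearMap_cwEquiv]
    have h1 := Hom.weight_coweight_transpose_apply P P' n' e.toHom
    have h2 := LinearMap.congr_fun h1 m
    change P'.toLinearMap (e.weightMap m) n' = P.toLinearMap m (e.coweightMap n') at h2
    rw [← h2, hw]
    rfl
  · change e.indexEquiv = idxEquiv P P' had had' b b' u hu
    ext k
    apply P'.root.injective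
    rw [root_idxEquiv, ← Hom.root_weightMap_apply, hw]
    rfl

end Groth.Agent.Helper7.RD
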