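import Groth.Agent.Lib.Helper7.RootD.Rank
import Mathlib.LinearAlgebra.FreeModule.Finite.Quotient

/-! Root data over `ℤ`: morphisms of semisimple root data are isogenies. -/

set_option linter.unusedSectionVars false

namespace Groth.Agent.Helper7.RD

open RootPairing _root_.RootD Set Function Module

variable {ι M N ι' M' N' : Type*} [AddCommGroup M] [AddCommGroup N] [AddCommGroup M']
  [AddCommGroup N'] (P : RootPairing ι ℤ M N) (P' : RootPairing ι' ℤ M' N')

lemma hom_toLinearMap_apply (f : RootPairing.Hom P' P) (m' : M') (n : N) :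
    P.toLinearMap (f.weightMap m') n = P'.toLinearMap m' (f.coweightMap n) := by
  have := Hom.weight_coweight_transpose_apply P' P n f
  exact LinearMap.congr_fun this m'

lemma hom_coroot' (f : RootPairing.Hom P' P) (m' : M') (i' : ι') :
    P'.coroot' i' m' = P.coroot' (f.indexEquiv i') (f.weightMap m') := by
  change P'.toLinearMap m' (P'.coroot i') = P.toLinearMap (f.weightMap m') (P.coroot _)
  rw [hom_toLinearMap_apply, Hom.coroot_coweightMap_apply, Equiv.symm_apply_apply]

lemma span_root_le_range_weightMap (f : RootPairing.Hom P' P) :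
    Submodule.span ℤ (range P.root) ≤ LinearMap.range f.weightMap := by
  rw [Submodule.span_le]
  rintro _ ⟨i, rfl⟩
  refine ⟨P'.root (f.indexEquiv.symm i), ?_⟩
  rw [Hom.root_weightMap_apply, Equiv.apply_symm_apply]

variable [Finite ι] [Finite ι'] [Module.Finite ℤ M] [Module.Finite ℤ N] [Module.Finite ℤ M']
  [Module.Finite ℤ N']

lemma finite_quotient_span_root
    (hss : finrank ℤ (Submodule.span ℤ (range P.root)) = finrank ℤ M) :
    Finite (M ⧸ Submodule.span ℤ (range P.root)) := by
  have := free_right P.flip
  exact Submodule.finiteQuotientOfFreeOfRankEq _ hss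

/-- S5474 -/
theorem hom_injective_finiteCoker_of_semisimple
    (hss : finrank ℤ (Submodule.span ℤ (range P.root)) = finrank ℤ M)
    (hss' : finrank ℤ (Submodule.span ℤ (range P'.root)) = finrank ℤ M')
    (f : RootPairing.Hom P' P) :
    Injective f.weightMap ∧ Finite (M ⧸ LinearMap.range f.weightMap) := by
  constructor
  · rw [← LinearMap.ker_eq_bot, LinearMap.ker_eq_bot']
    intro m' hm'
    have hK : (⨅ i : ι', LinearMap.ker (P'.coroot' i) : Submodule ℤ M') = ⊥ :=
      (semisimple_iff_coradical P').mp hss'
    have : m' ∈ (⨅ i : ι', LinearMap.ker (P'.coroot' i) : Submodule ℤ M') := by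
      rw [mem_iInf_ker_coroot']
      intro i'
      rw [hom_coroot' P P' f, hm', map_zero]
    rw [hK] at this
    exact (Submodule.mem_bot ℤ).mp this
  · have := finite_quotient_span_root P hss
    exact Finite.of_surjective _
      (Submodule.factor_surjective (span_root_le_range_weightMap P P' f))

end Groth.Agent.Helper7.RD
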