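import Groth.Agent.Lib.Helper7.RootD.Simple

/-! Root data over `ℤ`: first properties of systems of simple roots. -/

namespace Groth.Agent.Helper7.RD

open RootPairing _root_.RootD Set Function

variable {ι M N : Type*} [AddCommGroup M] [AddCommGroup N] (P : RootPairing ι ℤ M N)

section Basic

variable [Finite ι]

lemma pairing_pos_iff {i j : ι} : 0 < P.pairing i j ↔ 0 < P.pairing j i := by
  have := P.zero_lt_pairingIn_iff' ℤ (i := i) (j := j)
  simpa [pairingIn_eq] using this

lemma pairing_neg_iff {i j : ι} : P.pairing i j < 0 ↔ P.pairing j i < 0 := by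
  have := P.pairingIn_lt_zero_iff ℤ (i := i) (j := j)
  simpa [pairingIn_eq] using this

lemma root_sub_mem_of_pairing_pos {i j : ι} (h : 0 < P.pairing i j) (hij : i ≠ j) :
    P.root i - P.root j ∈ range P.root :=
  P.root_sub_root_mem_of_pairingIn_pos (by simpa [pairingIn_eq] using h) hij

lemma root_add_mem_of_pairing_neg {i j : ι} (h : P.pairing i j < 0)
    (hij : P.root i ≠ -P.root j) : P.root i + P.root j ∈ range P.root :=
  P.root_add_root_mem_of_pairingIn_neg (by simpa [pairingIn_eq] using h) hij

end Basic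

/-- If `root k = c • root j` then `c * pairing j k = 2`. -/
lemma mul_pairing_eq_two_of_root_eq_smul {k j : ι} {c : ℤ} (h : P.root k = c • P.root j) :
    c * P.pairing j k = 2 := by
  have := congrArg (P.coroot' k) h
  simpa [P.root_coroot'_eq_pairing] using this.symm

lemma eq_of_root_eq_smul_of_pos {k j : ι} {c : ℤ} (hc : 0 < c) (h : P.root k = c • P.root j) :
    c = 1 ∨ c = 2 := by
  have h2 := mul_pairing_eq_two_of_root_eq_smul P h
  have hdvd : c ∣ 2 := Dvd.intro _ h2
  have hle : c ≤ 2 := Int.le_of_dvd (by norm_num) hdvd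
  interval_cases c
  · left; rfl
  · right; rfl

variable {P} {Δ : Set ι}

/-- The elements of a simple system are indivisible. -/
lemma isIndiv_of_mem (hΔ : IsSimpleSys P Δ) {i : ι} (hi : i ∈ Δ) : IsIndiv P i := by
  intro j hj
  have h1 : (2 : ℤ) • coeff hΔ j = coeff hΔ i := by
    apply coeff_unique hΔ
    · intro l hl
      exact coeff_support hΔ j (Finsupp.support_smul hl)
    · rw [map_smul, coeff_spec, hj]
  have h2 := congrArg (fun c => c i) h1
  simp only [Finsupp.smul_apply, coeff_of_mem hΔ hi, Finsupp.single_eq_same, smul_eq_mul] at h2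
  omega

/-- If all coefficients of `k` away from `i` vanish then `root k` is a multiple of `root i`. -/
lemma root_eq_smul_of_coeff_eq_zero (hΔ : IsSimpleSys P Δ) {k i : ι}
    (h : ∀ j, j ≠ i → coeff hΔ k j = 0) : P.root k = coeff hΔ k i • P.root i := by
  classical
  have : coeff hΔ k = Finsupp.single i (coeff hΔ k i) := by
    ext j
    by_cases hj : j = i
    · subst hj; simp
    · rw [h j hj, Finsupp.single_apply, if_neg (Ne.symm hj)]
  rw [← coeff_spec hΔ k, this]
  simp

variable [Finite ι]

/-- Distinct simple roots have non-positive pairing. -/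
lemma pairing_le_zero_of_mem (hΔ : IsSimpleSys P Δ) {i j : ι} (hi : i ∈ Δ) (hj : j ∈ Δ)
    (hij : i ≠ j) : P.pairing j i ≤ 0 := by
  classical
  by_contra hpos
  push Not at hpos
  obtain ⟨k, hk⟩ := root_sub_mem_of_pairing_pos P hpos (Ne.symm hij)
  have h1 : Finsupp.single j (1 : ℤ) - Finsupp.single i 1 = coeff hΔ k := by
    apply coeff_unique hΔ
    · intro l hl
      rcases Finset.mem_union.mp (Finsupp.support_sub hl) with h | h
      · have := Finsupp.support_single_subset h
        simp only [Finset.mem_singleton] at this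
        simpa [this] using hj
      · have := Finsupp.support_single_subset h
        simp only [Finset.mem_singleton] at this
        simpa [this] using hi
    · simp [hk]
  have hj1 : coeff hΔ k j = 1 := by
    rw [← h1]; simp [Finsupp.single_apply, hij]
  have hi1 : coeff hΔ k i = -1 := by
    rw [← h1]; simp [Finsupp.single_apply, Ne.symm hij]
  rcases coeff_sign hΔ k with h | h
  · have := h i; omega
  · have := h j; omega

/-- A simple reflection maps a positive root not proportional to the simple root to a positive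
root. -/
lemma reflectionPerm_mem_posOf (hΔ : IsSimpleSys P Δ) {k i : ι} (hk : k ∈ posOf P Δ)
    (hi : i ∈ Δ) (hne : ∃ j, j ≠ i ∧ coeff hΔ k j ≠ 0) :
    P.reflectionPerm i k ∈ posOf P Δ := by
  obtain ⟨j, hji, hj⟩ := hne
  have hpos : 0 < coeff hΔ k j := lt_of_le_of_ne ((mem_posOf_iff hΔ k).mp hk j) (Ne.symm hj)
  apply mem_posOf_of_coeff_pos hΔ (i := j)
  rwa [coeff_reflectionPerm_of_mem hΔ hi k j hji]

lemma exists_coeff_ne_zero_of_linearIndependent (hΔ : IsSimpleSys P Δ) {k i : ι}
    (hli : LinearIndependent ℤ ![P.root k, P.root i]) : ∃ j, j ≠ i ∧ coeff hΔ k j ≠ 0 := by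
  by_contra hcon
  push Not at hcon
  have h := root_eq_smul_of_coeff_eq_zero hΔ hcon
  rw [LinearIndependent.pair_iff] at hli
  have := hli 1 (-(coeff hΔ k i)) (by rw [one_smul, neg_smul, ← h, add_neg_cancel])
  simp at this

/-- For an indivisible positive non-simple root `k` there is a simple root `i` with positive
pairing such that `s_i k` is positive. -/
lemma exists_pairing_pos_reflectionPerm_mem_posOf (hΔ : IsSimpleSys P Δ) {k : ι}
    (hk : k ∈ posOf P Δ) (hkΔ : k ∉ Δ) (hind : IsIndiv P k) :
    ∃ i ∈ Δ, 0 < P.pairing k i ∧ P.reflectionPerm i k ∈ posOf P Δ := by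
  classical
  have hc0 := (mem_posOf_iff hΔ k).mp hk
  -- 2 = Σ_j coeff_j * pairing j k
  have h2 : (2 : ℤ) = (coeff hΔ k).sum fun j a => a * P.pairing j k := by
    have := congrArg (P.coroot' k) (coeff_spec hΔ k)
    rw [Finsupp.linearCombination_apply, map_finsuppSum] at this
    simpa [P.root_coroot'_eq_pairing] using this.symm
  obtain ⟨j, hjs, hj⟩ : ∃ j ∈ (coeff hΔ k).support, 0 < coeff hΔ k j * P.pairing j k := by
    by_contra hcon
    push Not at hcon
    have : (coeff hΔ k).sum (fun j a => a * P.pairing j k) ≤ 0 :=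
      Finset.sum_nonpos fun j hj => hcon j hj
    omega
  have hjΔ : j ∈ Δ := coeff_support hΔ k hjs
  have hcj : 0 < coeff hΔ k j :=
    lt_of_le_of_ne (hc0 j) (Ne.symm (Finsupp.mem_support_iff.mp hjs))
  have hpj : 0 < P.pairing j k := (pos_iff_pos_of_mul_pos hj).mp hcj
  refine ⟨j, hjΔ, (pairing_pos_iff P).mp hpj, ?_⟩
  apply reflectionPerm_mem_posOf hΔ hk hjΔ
  by_contra hcon
  push Not at hcon
  have h := root_eq_smul_of_coeff_eq_zero hΔ hcon
  rcases eq_of_root_eq_smul_of_pos P hcj h with h1 | h1
  · rw [h1, one_smul] at h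
    exact hkΔ (P.root.injective h ▸ hjΔ)
  · rw [h1] at h
    exact hind j h.symm

end Groth.Agent.Helper7.RD
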