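import Groth.Agent.Lib.Helper7.RootD.Form
import Groth.Agent.Lib.Helper7.RootD.Extend

/-! Root data over `ℤ`: lengths of roots in irreducible data. -/

set_option linter.unusedSectionVars false

namespace Groth.Agent.Helper7.RD

open RootPairing _root_.RootD Set Function

variable {ι M N : Type*} [AddCommGroup M] [AddCommGroup N] (P : RootPairing ι ℤ M N)
  [Finite ι] [Fintype ι]

/-- In an irreducible datum, every root is non-orthogonal to some conjugate of a given root. -/
lemma exists_weyl_not_isOrthogonal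
    (hirr : ∀ R' : Set ι, IsClosedSub P R' → IsSymmSub P R' → IsClosedSub P R'ᶜ →
      IsSymmSub P R'ᶜ → R' = ∅ ∨ R' = Set.univ) (i k : ι) :
    ∃ w : P.Aut, w ∈ P.weylGroup ∧ ¬ P.IsOrthogonal k (w • i) := by
  have hk := linked_of_irreducible P hirr i k
  induction hk with
  | refl => exact ⟨1, one_mem _, by rw [one_smul]; exact not_isOrthogonal_self P i⟩
  | @tail k k' _ hkk' ih =>
    obtain ⟨w, hw, hkw⟩ := ih
    by_cases h : P.IsOrthogonal k' (w • i)
    · refine ⟨Equiv.reflection P k * w, mul_mem (P.reflection_mem_weylGroup k) hw, ?_⟩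
      rw [mul_smul]
      intro hcon
      have h1 : P.pairing (P.reflectionPerm k (w • i)) k' = 0 := hcon.2
      rw [pairing_reflectionPerm_left, h.2, zero_sub, neg_eq_zero, mul_eq_zero] at h1
      rcases h1 with h1 | h1
      · exact hkw ⟨(P.pairing_eq_zero_iff').mp h1, h1⟩
      · exact hkk' ⟨h1, (P.pairing_eq_zero_iff').mp h1⟩
    · exact ⟨w, hw, h⟩

/-- the possible ratios of lengths of non-orthogonal roots -/
lemma rootForm_eq_mul_of_le {i o : ι} (hno : ¬ P.IsOrthogonal i o)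
    (hle : P.RootForm (P.root o) (P.root o) ≤ P.RootForm (P.root i) (P.root i)) :
    P.RootForm (P.root i) (P.root i) = P.RootForm (P.root o) (P.root o) ∨
    P.RootForm (P.root i) (P.root i) = 2 * P.RootForm (P.root o) (P.root o) ∨
    P.RootForm (P.root i) (P.root i) = 3 * P.RootForm (P.root o) (P.root o) ∨
    P.RootForm (P.root i) (P.root i) = 4 * P.RootForm (P.root o) (P.root o) := by
  have hp : P.pairing i o ≠ 0 := fun h0 => hno ⟨h0, (P.pairing_eq_zero_iff').mp h0⟩
  have h1 := rootForm_pairing_symm P i o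
  have hpos := rootForm_root_pos P o
  have hmem := P.pairingIn_pairingIn_mem_set_of_isCrystallographic i o
  simp only [pairingIn_eq, mem_insert_iff, mem_singleton_iff, Prod.ext_iff] at hmem
  generalize P.RootForm (P.root i) (P.root i) = li at *
  generalize P.RootForm (P.root o) (P.root o) = lo at *
  generalize P.pairing i o = a at *
  generalize P.pairing o i = b at *
  rcases hmem with ⟨rfl, rfl⟩ | ⟨rfl, rfl⟩ | ⟨rfl, rfl⟩ | ⟨rfl, rfl⟩ | ⟨rfl, rfl⟩ | ⟨rfl, rfl⟩ |
    ⟨rfl, rfl⟩ | ⟨rfl, rfl⟩ | ⟨rfl, rfl⟩ | ⟨rfl, rfl⟩ | ⟨rfl, rfl⟩ | ⟨rfl, rfl⟩ | ⟨rfl, rfl⟩ |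
    ⟨rfl, rfl⟩ | ⟨rfl, rfl⟩ | ⟨rfl, rfl⟩ | ⟨rfl, rfl⟩ <;> omega

lemma rootForm_eq_mul_of_le_of_isReduced [P.IsReduced] {i o : ι} (hno : ¬ P.IsOrthogonal i o)
    (hle : P.RootForm (P.root o) (P.root o) ≤ P.RootForm (P.root i) (P.root i)) :
    P.RootForm (P.root i) (P.root i) = P.RootForm (P.root o) (P.root o) ∨
    P.RootForm (P.root i) (P.root i) = 2 * P.RootForm (P.root o) (P.root o) ∨
    P.RootForm (P.root i) (P.root i) = 3 * P.RootForm (P.root o) (P.root o) := by
  have hp : P.pairing i o ≠ 0 := fun h0 => hno ⟨h0, (P.pairing_eq_zero_iff').mp h0⟩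
  have h1 := rootForm_pairing_symm P i o
  have hpos := rootForm_root_pos P o
  have hmem := P.pairingIn_pairingIn_mem_set_of_isCrystal_of_isRed i o
  simp only [pairingIn_eq, mem_insert_iff, mem_singleton_iff, Prod.ext_iff] at hmem
  generalize P.RootForm (P.root i) (P.root i) = li at *
  generalize P.RootForm (P.root o) (P.root o) = lo at *
  generalize P.pairing i o = a at *
  generalize P.pairing o i = b at *
  rcases hmem with ⟨rfl, rfl⟩ | ⟨rfl, rfl⟩ | ⟨rfl, rfl⟩ | ⟨rfl, rfl⟩ | ⟨rfl, rfl⟩ | ⟨rfl, rfl⟩ |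
    ⟨rfl, rfl⟩ | ⟨rfl, rfl⟩ | ⟨rfl, rfl⟩ | ⟨rfl, rfl⟩ | ⟨rfl, rfl⟩ | ⟨rfl, rfl⟩ | ⟨rfl, rfl⟩ <;>
    omega

/-- S5471 -/
lemma length_ratios [P.IsReduced]
    (hirr : ∀ R' : Set ι, IsClosedSub P R' → IsSymmSub P R' → IsClosedSub P R'ᶜ →
      IsSymmSub P R'ᶜ → R' = ∅ ∨ R' = Set.univ)
    (i₀ : ι) (hmin : ∀ i : ι, P.RootForm (P.root i₀) (P.root i₀) ≤
      P.RootForm (P.root i) (P.root i)) :
    (∀ i : ι, P.RootForm (P.root i) (P.root i) = P.RootForm (P.root i₀) (P.root i₀) ∨
        P.RootForm (P.root i) (P.root i) = 2 * P.RootForm (P.root i₀) (P.root i₀) ∨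
        P.RootForm (P.root i) (P.root i) = 3 * P.RootForm (P.root i₀) (P.root i₀)) ∧
      ¬ ((∃ i : ι, P.RootForm (P.root i) (P.root i) = 2 * P.RootForm (P.root i₀) (P.root i₀)) ∧
          ∃ j : ι, P.RootForm (P.root j) (P.root j) =
            3 * P.RootForm (P.root i₀) (P.root i₀)) := by
  constructor
  · intro i
    obtain ⟨w, -, hw⟩ := exists_weyl_not_isOrthogonal P hirr i₀ i
    have := rootForm_eq_mul_of_le_of_isReduced P hw (by rw [rootForm_root_smul]; exact hmin i)
    rwa [rootForm_root_smul] at this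
  · rintro ⟨⟨i, hi⟩, ⟨j, hj⟩⟩
    obtain ⟨w, -, hw⟩ := exists_weyl_not_isOrthogonal P hirr i j
    have hpos := rootForm_root_pos P i₀
    have := rootForm_eq_mul_of_le_of_isReduced P hw
      (by rw [rootForm_root_smul, hi, hj]; omega)
    rw [rootForm_root_smul, hi, hj] at this
    omega

/-- the minimal length divides all lengths -/
lemma rootForm_min_dvd
    (hirr : ∀ R' : Set ι, IsClosedSub P R' → IsSymmSub P R' → IsClosedSub P R'ᶜ →
      IsSymmSub P R'ᶜ → R' = ∅ ∨ R' = Set.univ)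
    (i₀ : ι) (hmin : ∀ i : ι, P.RootForm (P.root i₀) (P.root i₀) ≤
      P.RootForm (P.root i) (P.root i)) (i : ι) :
    P.RootForm (P.root i₀) (P.root i₀) ∣ P.RootForm (P.root i) (P.root i) := by
  obtain ⟨w, -, hw⟩ := exists_weyl_not_isOrthogonal P hirr i₀ i
  have := rootForm_eq_mul_of_le P hw (by rw [rootForm_root_smul]; exact hmin i)
  rw [rootForm_root_smul] at this
  rcases this with h | h | h | h
  · exact ⟨1, by rw [h, mul_one]⟩
  · exact ⟨2, by rw [h, mul_comm]⟩
  · exact ⟨3, by rw [h, mul_comm]⟩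
  · exact ⟨4, by rw [h, mul_comm]⟩

/-- S5499 -/
lemma existsUnique_long_coroot
    (hirr : ∀ R' : Set ι, IsClosedSub P R' → IsSymmSub P R' → IsClosedSub P R'ᶜ →
      IsSymmSub P R'ᶜ → R' = ∅ ∨ R' = Set.univ)
    (i₀ : ι) (hmin : ∀ i : ι, P.RootForm (P.root i₀) (P.root i₀) ≤
      P.RootForm (P.root i) (P.root i)) :
    ∃! u : Submodule.span ℤ (Set.range P.root) →+ N, ∀ i : ι,
      u ⟨P.root i, Submodule.subset_span (Set.mem_range_self i)⟩ =
        (P.RootForm (P.root i) (P.root i) / P.RootForm (P.root i₀) (P.root i₀)) • P.coroot i := by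
  have := isAddTorsionFree_right P
  have hpos := rootForm_root_pos P i₀
  have hdvd := rootForm_min_dvd P hirr i₀ hmin
  have hmul : ∀ i, P.RootForm (P.root i₀) (P.root i₀) •
      ((P.RootForm (P.root i) (P.root i) / P.RootForm (P.root i₀) (P.root i₀)) • P.coroot i) =
      2 • P.Polarization (P.root i) := by
    intro i
    rw [smul_smul, Int.mul_ediv_cancel' (hdvd i), P.rootForm_self_smul_coroot]
  apply existsUnique_extension P
  · intro i
    have h1 : P.root (neg P i) = -P.root i := root_neg P i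
    have h2 : P.coroot (neg P i) = -P.coroot i := coroot_neg P i
    have h3 : P.RootForm (P.root (neg P i)) (P.root (neg P i)) =
        P.RootForm (P.root i) (P.root i) := by
      rw [h1]
      simp
    change (P.RootForm (P.root (neg P i)) (P.root (neg P i)) / _) • P.coroot (neg P i) = _
    rw [h3, h2, smul_neg]
  · intro i j k hk
    apply smul_right_injective N hpos.ne'
    change P.RootForm (P.root i₀) (P.root i₀) • _ = P.RootForm (P.root i₀) (P.root i₀) • _
    rw [smul_add, hmul, hmul, hmul, hk, map_add, smul_add]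

end Groth.Agent.Helper7.RD
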