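import Groth.Agent.Lib.Helper7.RootD.Dual

/-! Root data over `ℤ`: divisibility of lengths along a simple system. -/

set_option linter.unusedSectionVars false
set_option linter.unusedVariables false
set_option linter.unusedSimpArgs false

namespace Groth.Agent.Helper7.RD

open RootPairing _root_.RootD Set Function

variable {ι M N : Type*} [AddCommGroup M] [AddCommGroup N] {P : RootPairing ι ℤ M N}
  [Finite ι] [Fintype ι] {Δ : Set ι}

lemma exists_dual_index (hΔ : IsSimpleSys P Δ) {i : ι} (hi : i ∈ Δ) :
    ∃ j ∈ dualSimple P Δ, ∃ ε : ℤ, (ε = 1 ∨ ε = 2) ∧ P.coroot i = ε • P.coroot j ∧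
      (IsIndiv P.flip i → ε = 1) := by
  by_cases h : IsIndiv P.flip i
  · exact ⟨i, ⟨i, hi, Or.inl ⟨rfl, h⟩⟩, 1, Or.inl rfl, by rw [one_smul], fun _ => rfl⟩
  · have h' := h
    unfold IsIndiv at h'
    push Not at h'
    obtain ⟨j, hj⟩ := h'
    have hj' : (2 : ℤ) • P.coroot j = P.coroot i := hj
    exact ⟨j, ⟨i, hi, Or.inr hj'⟩, 2, Or.inr rfl, hj'.symm, fun h2 => absurd h2 h⟩

/-- S5502 -/
lemma rootForm_dvd (hΔ : IsSimpleSys P Δ)
    (k : ι) (c : ι →₀ ℤ) (hc : ↑c.support ⊆ Δ)
    (hck : Finsupp.linearCombination ℤ P.root c = P.root k) (i : ι) (hi : i ∈ Δ) :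
    P.RootForm (P.root k) (P.root k) ∣ 2 * c i * P.RootForm (P.root i) (P.root i) ∧
      (IsIndiv P.flip i →
        2 * P.RootForm (P.root k) (P.root k) ∣ 2 * c i * P.RootForm (P.root i) (P.root i)) := by
  classical
  have hceq : c = coeff hΔ k := coeff_unique hΔ k hc hck
  subst hceq
  have hΔs := isSimpleSys_dualSimple hΔ
  -- the dual index attached to each simple root
  have hex : ∀ i' : ι, ∃ j : ι, ∃ ε : ℤ, i' ∈ Δ → (j ∈ dualSimple P Δ ∧ (ε = 1 ∨ ε = 2) ∧
      P.coroot i' = ε • P.coroot j ∧ (IsIndiv P.flip i' → ε = 1)) := by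
    intro i'
    by_cases hi' : i' ∈ Δ
    · obtain ⟨j, hj, ε, h1, h2, h3⟩ := exists_dual_index hΔ hi'
      exact ⟨j, ε, fun _ => ⟨hj, h1, h2, h3⟩⟩
    · exact ⟨i', 1, fun h => absurd h hi'⟩
  choose g ε hg using hex
  have hcor := linearIndepOn_coroot hΔ
  have hginj : InjOn g Δ := by
    intro a ha b hb hab
    by_contra hne
    have h1 := (hg a ha).2.2.1
    have h2 := (hg b hb).2.2.1
    rw [hab] at h1
    have hεa : ε a ≠ 0 := by rcases (hg a ha).2.1 with h | h <;> rw [h] <;> norm_num
    have hεb : ε b ≠ 0 := by rcases (hg b hb).2.1 with h | h <;> rw [h] <;> norm_num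
    have h3 : ε b • P.coroot a = ε a • P.coroot b := by
      rw [h1, h2, smul_comm]
    have h4 : Finsupp.single a (ε b) = Finsupp.single b (ε a) := by
      apply linearCombination_inj P.flip hcor
      · intro l hl
        have := Finsupp.support_single_subset hl
        simp only [Finset.mem_singleton] at this
        exact this ▸ ha
      · intro l hl
        have := Finsupp.support_single_subset hl
        simp only [Finset.mem_singleton] at this
        exact this ▸ hb
      · simpa using h3
    have h5 := congrArg (fun c => c a) h4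
    simp [Finsupp.single_apply, Ne.symm hne, hεb] at h5
  -- the two expressions of `ℓ(k) k^∨` along the dual simple system
  set E : ι →₀ ℤ := (coeff hΔ k).sum fun i' a =>
    Finsupp.single (g i') (a * P.RootForm (P.root i') (P.root i') * ε i') with hE
  have hEsupp : ↑E.support ⊆ dualSimple P Δ := by
    intro l hl
    rw [hE] at hl
    obtain ⟨i', hi', hl'⟩ := Finset.mem_biUnion.mp (Finsupp.support_sum hl)
    have := Finsupp.support_single_subset hl'
    simp only [Finset.mem_singleton] at this
    exact this ▸ (hg i' (coeff_support hΔ k hi')).1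
  have hElin : Finsupp.linearCombination ℤ P.flip.root E =
      P.RootForm (P.root k) (P.root k) • P.coroot k := by
    rw [rootForm_smul_coroot_eq_sum hΔ k, hE, Finsupp.sum, map_sum, Finsupp.sum]
    apply Finset.sum_congr rfl
    intro i' hi'
    have := (hg i' (coeff_support hΔ k hi')).2.2.1
    rw [Finsupp.linearCombination_single]
    change _ • P.coroot (g i') = _
    rw [this, smul_smul]
  have hDE : E = P.RootForm (P.root k) (P.root k) • coeff hΔs k := by
    apply linearCombination_inj P.flip hΔs.linInd hEsupp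
    · intro l hl
      exact coeff_support hΔs k (Finsupp.support_smul hl)
    · rw [hElin, map_smul, coeff_spec hΔs k]
      rfl
  have hEval : E (g i) = coeff hΔ k i * P.RootForm (P.root i) (P.root i) * ε i := by
    rw [hE, Finsupp.sum_apply, Finsupp.sum]
    by_cases his : i ∈ (coeff hΔ k).support
    · rw [Finset.sum_eq_single i]
      · simp
      · intro b hb hbi
        rw [Finsupp.single_apply, if_neg]
        intro hgb
        exact hbi (hginj (coeff_support hΔ k hb) hi hgb)
      · intro h; exact absurd his h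
    · rw [Finset.sum_eq_zero]
      · rw [Finsupp.notMem_support_iff.mp his]; simp
      · intro b hb
        rw [Finsupp.single_apply, if_neg]
        intro hgb
        exact his ((hginj (coeff_support hΔ k hb) hi hgb) ▸ hb)
  have hkey : P.RootForm (P.root k) (P.root k) * coeff hΔs k (g i) =
      coeff hΔ k i * P.RootForm (P.root i) (P.root i) * ε i := by
    rw [← hEval, hDE]
    simp
  constructor
  · rcases (hg i hi).2.1 with h | h
    · rw [h, mul_one] at hkey
      exact ⟨2 * coeff hΔs k (g i), by linear_combination (-2 : ℤ) * hkey⟩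
    · rw [h] at hkey
      exact ⟨coeff hΔs k (g i), by linear_combination (-1 : ℤ) * hkey⟩
  · intro hind
    have h := (hg i hi).2.2.2 hind
    rw [h, mul_one] at hkey
    exact ⟨coeff hΔs k (g i), by linear_combination (-2 : ℤ) * hkey⟩

end Groth.Agent.Helper7.RD
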