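import Groth.Agent.Lib.Helper7.RootD.Aut

/-! Root data over `ℤ`: miscellaneous elementary facts. -/

set_option linter.unusedSectionVars false

namespace Groth.Agent.Helper7.RD

open RootPairing _root_.RootD Set Function

variable {ι M N : Type*} [AddCommGroup M] [AddCommGroup N] (P : RootPairing ι ℤ M N)

/-- S5457 -/
lemma isPosSys_of_order {G : Type*} [AddCommGroup G] [PartialOrder G]
    [IsOrderedAddMonoid G] (φ : M →+ G) (hφ : ∀ i : ι, 0 < φ (P.root i) ∨ φ (P.root i) < 0) :
    IsPosSys P {i : ι | 0 < φ (P.root i)} where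
  disjoint := by
    intro i hi hi'
    simp only [mem_ofPred_eq] at hi hi'
    have : P.root (neg P i) = -P.root i := root_neg P i
    change 0 < φ (P.root (neg P i)) at hi'
    rw [this, map_neg, neg_pos] at hi'
    exact lt_asymm hi hi'
  cover := by
    intro i
    rcases hφ i with h | h
    · left; exact h
    · right
      change 0 < φ (P.root (neg P i))
      rw [root_neg, map_neg, neg_pos]
      exact h
  sat := by
    intro k n hn h
    have hnonneg : ∀ x ∈ natSpan P {i : ι | 0 < φ (P.root i)}, 0 ≤ φ x := by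
      intro x hx
      induction hx using AddSubmonoid.closure_induction with
      | mem x hx =>
        obtain ⟨i, hi, rfl⟩ := hx
        exact le_of_lt hi
      | zero => simp
      | add x y _ _ hx hy =>
        rw [map_add]
        exact add_nonneg hx hy
    have h1 := hnonneg _ h
    rw [map_nsmul] at h1
    rcases hφ k with h2 | h2
    · exact h2
    · exfalso
      have h3 : 0 < n • (-φ (P.root k)) := nsmul_pos (neg_pos.mpr h2) hn.ne'
      rw [smul_neg, neg_pos] at h3
      exact absurd h1 (not_le_of_gt h3)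

variable [Finite ι]

/-- S5489 -/
lemma exists_pairing_pos_of_smul_eq_sum {n : ℕ} (a : Fin n → ι) (m : Fin n → ℕ)
    (k : ι) (hne : ∀ l, a l ≠ k) (c : ℕ) (hc : 0 < c)
    (hk : c • P.root k = ∑ l, m l • P.root (a l)) :
    ∃ l : Fin n, m l ≠ 0 ∧ 0 < P.pairing (a l) k ∧
      P.root k - P.root (a l) ∈ Set.range P.root := by
  have h2 : (c : ℤ) * 2 = ∑ l, (m l : ℤ) * P.pairing (a l) k := by
    have := congrArg (P.coroot' k) hk
    simpa [P.root_coroot'_eq_pairing] using this
  obtain ⟨l, -, hl⟩ : ∃ l ∈ Finset.univ, 0 < (m l : ℤ) * P.pairing (a l) k := by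
    by_contra hcon
    push Not at hcon
    have : ∑ l, (m l : ℤ) * P.pairing (a l) k ≤ 0 := Finset.sum_nonpos hcon
    have hc' : (0 : ℤ) < c := by exact_mod_cast hc
    omega
  have hml : m l ≠ 0 := by
    rintro h0
    simp [h0] at hl
  have hpos : 0 < P.pairing (a l) k := by
    have : (0 : ℤ) < m l := by exact_mod_cast Nat.pos_of_ne_zero hml
    exact (pos_iff_pos_of_mul_pos hl).mp this
  exact ⟨l, hml, hpos, root_sub_mem_of_pairing_pos P ((pairing_pos_iff P).mp hpos)
    (Ne.symm (hne l))⟩

/-- proportional roots have the same reflection -/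
lemma reflection_eq_of_root_eq_smul {i j : ι} {t : ℤ} (h : P.root j = t • P.root i) :
    P.reflection j = P.reflection i := by
  have := isAddTorsionFree_right P
  have hc := P.smul_coroot_eq_of_root_eq_smul i j t h
  ext x
  have hx : P.toLinearMap x (P.coroot i) = t * P.toLinearMap x (P.coroot j) := by
    rw [← hc, map_smul, smul_eq_mul]
  change x - P.toLinearMap x (P.coroot j) • P.root j = x - P.toLinearMap x (P.coroot i) • P.root i
  rw [hx, h, smul_smul, mul_comm]

lemma equivReflection_eq_of_root_eq_smul {i j : ι} {t : ℤ} (h : P.root j = t • P.root i) :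
    Equiv.reflection P j = Equiv.reflection P i := by
  apply Equiv.weightHom_injective P
  ext x
  change P.reflection j x = P.reflection i x
  rw [reflection_eq_of_root_eq_smul P h]

omit [Finite ι] in
/-- S5486 -/
lemma add_mem_iff_sub_mem_of_isOrthogonal (i j : ι) (h : P.IsOrthogonal i j) :
    P.root i + P.root j ∈ Set.range P.root ↔ P.root i - P.root j ∈ Set.range P.root := by
  have hi : P.reflection j (P.root i) = P.root i := by
    rw [P.reflection_apply_root, h.1, zero_smul, sub_zero]
  constructor
  · rintro ⟨k, hk⟩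
    refine ⟨P.reflectionPerm j k, ?_⟩
    rw [P.root_reflectionPerm, hk, map_add, hi, P.reflection_apply_self]
    abel
  · rintro ⟨k, hk⟩
    refine ⟨P.reflectionPerm j k, ?_⟩
    rw [P.root_reflectionPerm, hk, map_sub, hi, P.reflection_apply_self]
    abel

/-- S5495 -/
lemma dvd_of_smul_root_eq_smul_root (i j : ι) (hind : IsIndiv P i) (a b : ℤ) (hb : b ≠ 0)
    (h : b • P.root j = a • P.root i) : b ∣ a := by
  have h1 : b * P.pairing j i = a * 2 := by
    have := congrArg (P.coroot' i) h
    simpa [P.root_coroot'_eq_pairing] using this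
  have h2 : b * 2 = a * P.pairing i j := by
    have := congrArg (P.coroot' j) h
    simpa [P.root_coroot'_eq_pairing] using this
  have hpq : P.pairing j i * P.pairing i j = 4 := by
    have : b * (P.pairing j i * P.pairing i j) = b * 4 := by
      calc b * (P.pairing j i * P.pairing i j) = (b * P.pairing j i) * P.pairing i j := by ring
        _ = a * 2 * P.pairing i j := by rw [h1]
        _ = 2 * (a * P.pairing i j) := by ring
        _ = 2 * (b * 2) := by rw [h2]
        _ = b * 4 := by ring
    exact mul_left_cancel₀ hb this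
  have ha : a ≠ 0 := by
    rintro rfl
    simp at h2
    exact hb h2
  -- the possible values of `pairing j i`
  have hdvd : P.pairing j i ∣ 4 := Dvd.intro _ hpq
  have hle : P.pairing j i ≤ 4 := Int.le_of_dvd (by norm_num) hdvd
  have hge : -4 ≤ P.pairing j i := by
    have : -P.pairing j i ∣ 4 := (neg_dvd).mpr hdvd
    have := Int.le_of_dvd (by norm_num) this
    omega
  generalize P.pairing j i = p at *
  generalize P.pairing i j = q at *
  have hcases : p = 1 ∨ p = -1 ∨ p = 2 ∨ p = -2 ∨ p = 4 ∨ p = -4 := by
    interval_cases p <;> omega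
  rcases hcases with rfl | rfl | rfl | rfl | rfl | rfl
  · -- b = 2a, so `root i = 2 root j`
    exfalso
    have hb2 : b = 2 * a := by omega
    rw [hb2, mul_comm, mul_smul] at h
    have := isAddTorsionFree_left P
    have h' : (2 : ℤ) • P.root j = P.root i := smul_right_injective M ha h
    exact hind j h'
  · exfalso
    have hb2 : b = -2 * a := by omega
    rw [hb2, mul_comm, mul_smul] at h
    have := isAddTorsionFree_left P
    have h' : (-2 : ℤ) • P.root j = P.root i := smul_right_injective M ha h
    apply hind (neg P j)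
    rw [root_neg, ← h']
    simp
  · exact ⟨1, by omega⟩
  · exact ⟨-1, by omega⟩
  · exact ⟨2, by omega⟩
  · exact ⟨-2, by omega⟩

/-- If `root k = 2 root j` then `j` is indivisible. -/
lemma isIndiv_of_two_smul_eq {j k : ι} (h : (2 : ℤ) • P.root j = P.root k) : IsIndiv P j := by
  intro l hl
  have h4 : P.root k = (4 : ℤ) • P.root l := by
    rw [← h, ← hl, smul_smul]; norm_num
  have := mul_pairing_eq_two_of_root_eq_smul P h4
  omega

/-- S5488 -/
lemma closure_reflection_isIndiv :
    Subgroup.closure ((fun i : ι => Equiv.reflection P i) '' {i : ι | IsIndiv P i}) =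
      P.weylGroup := by
  apply le_antisymm
  · apply Subgroup.closure_mono
    rintro _ ⟨i, _, rfl⟩
    exact ⟨i, rfl⟩
  · apply (Subgroup.closure_le _).mpr
    rintro _ ⟨k, rfl⟩
    by_cases hk : IsIndiv P k
    · exact Subgroup.subset_closure ⟨k, hk, rfl⟩
    · unfold IsIndiv at hk
      push Not at hk
      obtain ⟨j, hj⟩ := hk
      have : Equiv.reflection P k = Equiv.reflection P j :=
        equivReflection_eq_of_root_eq_smul P hj.symm
      change Equiv.reflection P k ∈ _
      rw [this]
      exact Subgroup.subset_closure ⟨j, isIndiv_of_two_smul_eq P hj, rfl⟩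

/-- S5497 -/
lemma same_part_of_add {R' : Set ι} (hc : IsClosedSub P R') (hs : IsSymmSub P R')
    (hc' : IsClosedSub P R'ᶜ) (hs' : IsSymmSub P R'ᶜ) {i j k : ι}
    (h : P.root k = P.root i + P.root j) :
    (i ∈ R' ∧ j ∈ R' ∧ k ∈ R') ∨ (i ∉ R' ∧ j ∉ R' ∧ k ∉ R') := by
  have hj : P.root j = P.root k + P.root (neg P i) := by rw [root_neg, h]; abel
  have hi : P.root i = P.root k + P.root (neg P j) := by rw [root_neg, h]; abel
  by_cases hiR : i ∈ R' <;> by_cases hjR : j ∈ R' <;> by_cases hkR : k ∈ R'
  · exact Or.inl ⟨hiR, hjR, hkR⟩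
  · exact absurd (hc hiR hjR h) hkR
  · exact absurd (hc hkR (hs hiR) hj) hjR
  · exact absurd (hc' hkR (hs' hjR) hi) (not_not.mpr hiR)
  · exact absurd (hc hkR (hs hjR) hi) hiR
  · exact absurd (hc' hkR (hs' hiR) hj) (not_not.mpr hjR)
  · exact absurd (hc' hiR hjR h) (not_not.mpr hkR)
  · exact Or.inr ⟨hiR, hjR, hkR⟩

/-- S5505 -/
lemma mem_of_not_isOrthogonal {R' : Set ι} (hc : IsClosedSub P R') (hs : IsSymmSub P R')
    (hc' : IsClosedSub P R'ᶜ) (hs' : IsSymmSub P R'ᶜ) {i j : ι} (hi : i ∈ R')
    (hij : ¬ P.IsOrthogonal i j) : j ∈ R' := by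
  have hne : P.pairing i j ≠ 0 := by
    intro h0
    exact hij ⟨h0, (P.pairing_eq_zero_iff').mp h0⟩
  by_cases hijeq : i = j
  · exact hijeq ▸ hi
  rcases lt_or_gt_of_ne hne with hneg | hpos
  · by_cases hopp : P.root i = -P.root j
    · have : i = neg P j := by
        apply P.root.injective
        rw [root_neg, hopp]
      have h2 : neg P i ∈ R' := hs hi
      rw [this, neg_neg] at h2
      exact h2
    · obtain ⟨k, hk⟩ := root_add_mem_of_pairing_neg P hneg hopp
      rcases same_part_of_add P hc hs hc' hs' hk with h | h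
      · exact h.2.1
      · exact absurd hi h.1
  · obtain ⟨k, hk⟩ := root_sub_mem_of_pairing_pos P hpos hijeq
    have hk' : P.root i = P.root k + P.root j := by rw [hk]; abel
    rcases same_part_of_add P hc hs hc' hs' hk' with h | h
    · exact h.2.1
    · exact absurd hi h.2.2

/-- the chain relation -/
abbrev Linked (P : RootPairing ι ℤ M N) (i j : ι) : Prop :=
  Relation.ReflTransGen (fun a b : ι => ¬ P.IsOrthogonal a b) i j

lemma not_isOrthogonal_of_add {a b k : ι} (h : P.root k = P.root a + P.root b) :
    ¬ P.IsOrthogonal a k ∨ ¬ P.IsOrthogonal b k := by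
  by_contra hcon
  push Not at hcon
  have h2 : (2 : ℤ) = P.pairing a k + P.pairing b k := by
    have := congrArg (P.coroot' k) h
    simpa [P.root_coroot'_eq_pairing] using this
  rw [hcon.1.1, hcon.2.1] at h2
  omega

lemma not_isOrthogonal_neg (a : ι) : ¬ P.IsOrthogonal a (neg P a) := by
  intro h
  have := h.1
  rw [← P.root_coroot_eq_pairing, coroot_neg, map_neg, P.root_coroot_eq_pairing,
    P.pairing_same] at this
  omega

/-- S5506 -/
lemma linked_class (i : ι) :
    IsClosedSub P {j : ι | Linked P i j} ∧ IsSymmSub P {j : ι | Linked P i j} ∧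
      IsClosedSub P {j : ι | Linked P i j}ᶜ ∧ IsSymmSub P {j : ι | Linked P i j}ᶜ := by
  refine ⟨?_, ?_, ?_, ?_⟩
  · intro a b k ha hb hk
    rcases not_isOrthogonal_of_add P hk with h | h
    · exact Relation.ReflTransGen.tail ha h
    · exact Relation.ReflTransGen.tail hb h
  · intro a ha
    exact Relation.ReflTransGen.tail ha (not_isOrthogonal_neg P a)
  · intro a b k ha hb hk hkC
    rcases not_isOrthogonal_of_add P hk with h | h
    · exact ha (Relation.ReflTransGen.tail hkC (fun h' => h h'.symm))
    · exact hb (Relation.ReflTransGen.tail hkC (fun h' => h h'.symm))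
  · intro a ha hnegC
    exact ha (Relation.ReflTransGen.tail hnegC (fun h' => not_isOrthogonal_neg P a h'.symm))

end Groth.Agent.Helper7.RD
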