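import Groth.Agent.Lib.Helper7.RootD.Length

/-! Root data over `ℤ`: `p`-morphisms. -/

set_option linter.unusedSectionVars false

namespace Groth.Agent.Helper7.RD

open RootPairing _root_.RootD Set Function

variable {ι M N ι' M' N' : Type*} [AddCommGroup M] [AddCommGroup N] [AddCommGroup M']
  [AddCommGroup N'] (P : RootPairing ι ℤ M N) (P' : RootPairing ι' ℤ M' N')
  [Finite ι] [Finite ι']

/-- the data of a `p`-morphism (without the condition that the `q i` are powers of `p`) -/
structure PData (f : M' →ₗ[ℤ] M) (g : N →ₗ[ℤ] N') (u : ι ≃ ι') (q : ι → ℕ) : Prop where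
  hfg : ∀ (m' : M') (n : N), P.toLinearMap (f m') n = P'.toLinearMap m' (g n)
  hq : ∀ i, 0 < q i
  hroot : ∀ i : ι, f (P'.root (u i)) = (q i : ℤ) • P.root i
  hcoroot : ∀ i : ι, g (P.coroot i) = (q i : ℤ) • P'.coroot (u i)

variable {P P'} {f : M' →ₗ[ℤ] M} {g : N →ₗ[ℤ] N'} {u : ι ≃ ι'} {q : ι → ℕ}

lemma PData.pairing_eq (h : PData P P' f g u q) (i j : ι) :
    (q j : ℤ) * P'.pairing (u i) (u j) = (q i : ℤ) * P.pairing i j := by
  have h1 : P'.toLinearMap (P'.root (u i)) (g (P.coroot j)) =
      (q j : ℤ) * P'.pairing (u i) (u j) := by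
    rw [h.hcoroot, map_smul, smul_eq_mul, P'.root_coroot_eq_pairing]
  rw [← h1, ← h.hfg, h.hroot, map_smul, LinearMap.smul_apply, smul_eq_mul,
    P.root_coroot_eq_pairing]

lemma PData.isOrthogonal_iff (h : PData P P' f g u q) (i j : ι) :
    P'.IsOrthogonal (u i) (u j) ↔ P.IsOrthogonal i j := by
  have hqi : (q i : ℤ) ≠ 0 := by exact_mod_cast (h.hq i).ne'
  have hqj : (q j : ℤ) ≠ 0 := by exact_mod_cast (h.hq j).ne'
  have h1 := h.pairing_eq i j
  have h2 := h.pairing_eq j i
  constructor
  · rintro ⟨h3, h4⟩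
    rw [h3, mul_zero] at h1
    rw [h4, mul_zero] at h2
    exact ⟨(mul_eq_zero.mp h1.symm).resolve_left hqi, (mul_eq_zero.mp h2.symm).resolve_left hqj⟩
  · rintro ⟨h3, h4⟩
    rw [h3, mul_zero] at h1
    rw [h4, mul_zero] at h2
    exact ⟨(mul_eq_zero.mp h1).resolve_left hqj, (mul_eq_zero.mp h2).resolve_left hqi⟩

/-- S5500 -/
lemma PData.rootForm_proportional [Fintype ι] [Fintype ι'] (h : PData P P' f g u q)
    (hirr : ∀ R₁ : Set ι, IsClosedSub P R₁ → IsSymmSub P R₁ → IsClosedSub P R₁ᶜ →
      IsSymmSub P R₁ᶜ → R₁ = ∅ ∨ R₁ = Set.univ) (i j : ι) :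
    ((q i : ℤ) ^ 2 * P.RootForm (P.root i) (P.root i)) *
        P'.RootForm (P'.root (u j)) (P'.root (u j)) =
      ((q j : ℤ) ^ 2 * P.RootForm (P.root j) (P.root j)) *
        P'.RootForm (P'.root (u i)) (P'.root (u i)) := by
  have hlink := linked_of_irreducible P hirr i j
  induction hlink with
  | refl => rfl
  | @tail k j _ hkj ih =>
    -- the relation for the non-orthogonal pair `k, j`
    have hstep : ((q k : ℤ) ^ 2 * P.RootForm (P.root k) (P.root k)) *
        P'.RootForm (P'.root (u j)) (P'.root (u j)) =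
        ((q j : ℤ) ^ 2 * P.RootForm (P.root j) (P.root j)) *
        P'.RootForm (P'.root (u k)) (P'.root (u k)) := by
      have hp : P.pairing k j ≠ 0 := fun h0 => hkj ⟨h0, (P.pairing_eq_zero_iff').mp h0⟩
      have hp' : P.pairing j k ≠ 0 := fun h0 => hp ((P.pairing_eq_zero_iff').mp h0)
      have hqk : (q k : ℤ) ≠ 0 := by exact_mod_cast (h.hq k).ne'
      have hqj : (q j : ℤ) ≠ 0 := by exact_mod_cast (h.hq j).ne'
      have e1 := rootForm_pairing_symm P k j
      have e2 := rootForm_pairing_symm P' (u k) (u j)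
      have e3 := h.pairing_eq k j
      have e4 := h.pairing_eq j k
      have hne : P'.pairing (u k) (u j) * P.pairing j k ≠ 0 := by
        apply mul_ne_zero _ hp'
        intro h0
        rw [h0, mul_zero] at e3
        exact (mul_ne_zero hqk hp) e3.symm
      apply mul_right_cancel₀ hne
      generalize P.RootForm (P.root k) (P.root k) = lk at *
      generalize P.RootForm (P.root j) (P.root j) = lj at *
      generalize P'.RootForm (P'.root (u k)) (P'.root (u k)) = lk' at *
      generalize P'.RootForm (P'.root (u j)) (P'.root (u j)) = lj' at *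
      generalize P.pairing k j = a at *
      generalize P.pairing j k = b at *
      generalize P'.pairing (u k) (u j) = a' at *
      generalize P'.pairing (u j) (u k) = b' at *
      generalize (q k : ℤ) = qk at *
      generalize (q j : ℤ) = qj at *
      -- e1 : lk * b = lj * a, e2 : lk' * b' = lj' * a', e3 : qj * a' = qk * a, e4 : qk * b' = qj * b
      calc qk ^ 2 * lk * lj' * (a' * b) = qk ^ 2 * (lk * b) * (lj' * a') := by ring
        _ = qk ^ 2 * (lj * a) * (lk' * b') := by rw [e1, e2]
        _ = (qk * a) * lj * lk' * (qk * b') := by ring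
        _ = (qj * a') * lj * lk' * (qj * b) := by rw [e3, e4]
        _ = qj ^ 2 * lj * lk' * (a' * b) := by ring
    have hk' := rootForm_root_pos P' (u k)
    have hk := rootForm_root_pos P k
    apply mul_left_cancel₀ hk'.ne'
    calc P'.RootForm (P'.root (u k)) (P'.root (u k)) *
        (((q i : ℤ) ^ 2 * P.RootForm (P.root i) (P.root i)) *
          P'.RootForm (P'.root (u j)) (P'.root (u j)))
        = (((q i : ℤ) ^ 2 * P.RootForm (P.root i) (P.root i)) *
            P'.RootForm (P'.root (u k)) (P'.root (u k))) *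
          P'.RootForm (P'.root (u j)) (P'.root (u j)) := by ring
      _ = (((q k : ℤ) ^ 2 * P.RootForm (P.root k) (P.root k)) *
            P'.RootForm (P'.root (u i)) (P'.root (u i))) *
          P'.RootForm (P'.root (u j)) (P'.root (u j)) := by rw [ih]
      _ = (((q k : ℤ) ^ 2 * P.RootForm (P.root k) (P.root k)) *
            P'.RootForm (P'.root (u j)) (P'.root (u j))) *
          P'.RootForm (P'.root (u i)) (P'.root (u i)) := by ring
      _ = (((q j : ℤ) ^ 2 * P.RootForm (P.root j) (P.root j)) *
            P'.RootForm (P'.root (u k)) (P'.root (u k))) *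
          P'.RootForm (P'.root (u i)) (P'.root (u i)) := by rw [hstep]
      _ = _ := by ring

end Groth.Agent.Helper7.RD
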