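import Groth.Agent.Lib.Helper7.RootD.PMorph

/-! Root data over `ℤ`: `p`-morphisms of reduced data and Weyl groups. -/

set_option linter.unusedSectionVars false

namespace Groth.Agent.Helper7.RD

open RootPairing _root_.RootD Set Function

variable {ι M N ι' M' N' : Type*} [AddCommGroup M] [AddCommGroup N] [AddCommGroup M']
  [AddCommGroup N'] {P : RootPairing ι ℤ M N} {P' : RootPairing ι' ℤ M' N'}
  [Finite ι] [Finite ι']
  {f : M' →ₗ[ℤ] M} {g : N →ₗ[ℤ] N'} {u : ι ≃ ι'} {q : ι → ℕ}

lemma isIndiv_of_isReduced (P : RootPairing ι ℤ M N) [P.IsReduced] (i : ι) : IsIndiv P i := by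
  intro j hj
  have := isAddTorsionFree_left P
  apply P.nsmul_notMem_range_root (n := 2) (i := j)
  refine ⟨i, ?_⟩
  rw [← hj, ← natCast_zsmul]
  rfl

/-- S5480 (a) -/
lemma PData.reflectionPerm_eq [P.IsReduced] (h : PData P P' f g u q) (i j : ι) :
    q (P.reflectionPerm i j) = q j ∧
      u (P.reflectionPerm i j) = P'.reflectionPerm (u i) (u j) := by
  have := isAddTorsionFree_left P
  set k := u.symm (P'.reflectionPerm (u i) (u j)) with hk
  have huk : u k = P'.reflectionPerm (u i) (u j) := u.apply_symm_apply _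
  have h1 : f (P'.root (u k)) = (q j : ℤ) • P.root (P.reflectionPerm i j) := by
    rw [huk, P'.root_reflectionPerm, P'.reflection_apply_root, map_sub, map_smul, h.hroot,
      h.hroot, P.root_reflectionPerm, P.reflection_apply_root, smul_sub, smul_smul, smul_smul]
    congr 2
    have := h.pairing_eq j i
    rw [mul_comm, this]
  rw [h.hroot] at h1
  have hk0 : (q k : ℤ) ≠ 0 := by exact_mod_cast (h.hq k).ne'
  have hj0 : (q j : ℤ) ≠ 0 := by exact_mod_cast (h.hq j).ne'
  have d1 := dvd_of_smul_root_eq_smul_root P (P.reflectionPerm i j) k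
    (isIndiv_of_isReduced P _) (q j) (q k) hk0 h1
  have d2 := dvd_of_smul_root_eq_smul_root P k (P.reflectionPerm i j)
    (isIndiv_of_isReduced P _) (q k) (q j) hj0 h1.symm
  have hq : (q k : ℤ) = q j :=
    Int.dvd_antisymm (Int.natCast_nonneg _) (Int.natCast_nonneg _) d1 d2
  rw [hq] at h1
  have hkeq : k = P.reflectionPerm i j := P.root.injective (smul_right_injective M hj0 h1)
  constructor
  · rw [← hkeq]; exact_mod_cast hq
  · rw [← hkeq]; exact huk

/-- S5480 (b) -/
lemma PData.q_smul [P.IsReduced] (h : PData P P' f g u q) {w : P.Aut} (hw : w ∈ P.weylGroup)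
    (i : ι) : q (w • i) = q i := by
  induction hw using weylGroup.induction generalizing i with
  | mem j => exact (h.reflectionPerm_eq j i).1
  | one => rw [one_smul]
  | mul x y _ _ hx hy => rw [mul_smul, hx, hy]

lemma PData.permCongr_reflectionPerm [P.IsReduced] (h : PData P P' f g u q) (i : ι) :
    u.permCongrHom (P.reflectionPerm i) = P'.reflectionPerm (u i) := by
  ext x
  change u (P.reflectionPerm i (u.symm x)) = _
  rw [(h.reflectionPerm_eq i (u.symm x)).2, u.apply_symm_apply]

lemma PData.map_range [P.IsReduced] (h : PData P P' f g u q) :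
    P.weylGroupToPerm.range.map (u.permCongrHom : Equiv.Perm ι →* Equiv.Perm ι') =
      P'.weylGroupToPerm.range := by
  rw [P.range_weylGroupToPerm, P'.range_weylGroupToPerm, MonoidHom.map_closure]
  congr 1
  ext σ
  constructor
  · rintro ⟨_, ⟨i, rfl⟩, rfl⟩
    exact ⟨u i, (h.permCongr_reflectionPerm i).symm⟩
  · rintro ⟨i', rfl⟩
    refine ⟨P.reflectionPerm (u.symm i'), ⟨_, rfl⟩, ?_⟩
    have := h.permCongr_reflectionPerm (u.symm i')
    rw [u.apply_symm_apply] at this
    exact this

/-- S5480 (c): the isomorphism of Weyl groups -/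
noncomputable def PData.weylEquiv [P.IsReduced] (h : PData P P' f g u q) :
    P.weylGroup ≃* P'.weylGroup :=
  (MonoidHom.ofInjective (weylGroupToPerm_injective P)).trans
    ((u.permCongrHom.subgroupMap P.weylGroupToPerm.range).trans
      ((MulEquiv.subgroupCongr h.map_range).trans
        (MonoidHom.ofInjective (weylGroupToPerm_injective P')).symm))

lemma PData.toPerm_weylEquiv [P.IsReduced] (h : PData P P' f g u q) (w : P.weylGroup) :
    P'.weylGroupToPerm (h.weylEquiv w) = u.permCongrHom (P.weylGroupToPerm w) := by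
  simp only [PData.weylEquiv, MulEquiv.trans_apply, MonoidHom.apply_ofInjective_symm,
    MulEquiv.subgroupCongr_apply, MulEquiv.coe_subgroupMap_apply, MonoidHom.ofInjective_apply]

/-- S5480 -/
lemma PData.weyl [P.IsReduced] (h : PData P P' f g u q) :
    (∀ i j : ι, q (P.reflectionPerm i j) = q j ∧
        u (P.reflectionPerm i j) = P'.reflectionPerm (u i) (u j)) ∧
      (∀ w ∈ P.weylGroup, ∀ i : ι, q (w • i) = q i) ∧
      ∃ ubar : P.weylGroup ≃* P'.weylGroup,
        (∀ i : ι, ubar (RootPairing.weylGroup.ofIdx P i) = RootPairing.weylGroup.ofIdx P' (u i)) ∧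
        ∀ (w : P.weylGroup) (i : ι),
          u ((w : P.Aut) • i) = ((ubar w : P'.weylGroup) : P'.Aut) • u i := by
  refine ⟨h.reflectionPerm_eq, fun w hw i => h.q_smul hw i, h.weylEquiv, ?_, ?_⟩
  · intro i
    apply weylGroupToPerm_injective P'
    rw [h.toPerm_weylEquiv]
    exact h.permCongr_reflectionPerm i
  · intro w i
    have h1 := congrArg (fun σ : Equiv.Perm ι' => σ (u i)) (h.toPerm_weylEquiv w)
    change ((h.weylEquiv w : P'.weylGroup) : P'.Aut) • u i =
      u (P.weylGroupToPerm w (u.symm (u i))) at h1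
    rw [h1, u.symm_apply_apply]
    rfl

end Groth.Agent.Helper7.RD
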