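import Groth.Agent.Lib.Helper7.RootD.Form

/-! Root data over `ℤ`: automorphisms acting trivially on the radical. -/

set_option linter.unusedSectionVars false

namespace Groth.Agent.Helper7.RD

open RootPairing _root_.RootD Set Function

variable {ι M N : Type*} [AddCommGroup M] [AddCommGroup N] (P : RootPairing ι ℤ M N)
  [Finite ι]

/-- the condition of acting trivially on the radical -/
def TrivRad (u : P.Aut) : Prop :=
  ∀ m : M, ∃ n : ℕ, 0 < n ∧ n • (u • m - m) ∈ Submodule.span ℤ (Set.range P.root)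

/-- an element of the root span killed by all coroots vanishes -/
lemma eq_zero_of_mem_span_of_coroot_eq_zero {x : M}
    (hx : x ∈ Submodule.span ℤ (Set.range P.root)) (h : ∀ i, P.coroot' i x = 0) : x = 0 := by
  have := Fintype.ofFinite ι
  apply P.eq_zero_of_mem_rootSpan_of_rootForm_self_eq_zero hx
  rw [P.rootForm_apply_apply]
  apply Finset.sum_eq_zero
  intro i _
  rw [h, mul_zero]

/-- S5477 -/
lemma eq_one_of_trivRad_of_fix (u : P.Aut) (hs : TrivRad P u) (hfix : ∀ i : ι, u • i = i) :
    u = 1 := by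
  have := isAddTorsionFree_left P
  apply Equiv.weightHom_injective P
  ext m
  change u • m = m
  obtain ⟨n, hn, h⟩ := hs m
  have hc : ∀ i, P.coroot' i (u • m - m) = 0 := by
    intro i
    have h1 := toLinearMap_smul_coroot_smul u m i
    rw [hfix] at h1
    rw [map_sub]
    change P.toLinearMap (u • m) (P.coroot i) - P.toLinearMap m (P.coroot i) = 0
    rw [h1, sub_self]
  have h0 := eq_zero_of_mem_span_of_coroot_eq_zero P h (fun i => by rw [map_nsmul, hc, smul_zero])
  have h1 : u • m - m = 0 := (smul_eq_zero_iff_right hn.ne').mp h0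
  exact sub_eq_zero.mp h1

lemma smul_mem_span_root (u : P.Aut) {x : M} (hx : x ∈ Submodule.span ℤ (Set.range P.root)) :
    u • x ∈ Submodule.span ℤ (Set.range P.root) := by
  induction hx using Submodule.span_induction with
  | mem x hx =>
    obtain ⟨i, rfl⟩ := hx
    rw [← root_smul]
    exact Submodule.subset_span (mem_range_self _)
  | zero => simp
  | add x y _ _ hx hy => rw [smul_add]; exact add_mem hx hy
  | smul t x _ hx => rw [smul_zsmul]; exact Submodule.smul_mem _ _ hx

lemma trivRad_inv {u : P.Aut} (hu : TrivRad P u) : TrivRad P u⁻¹ := by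
  intro m
  obtain ⟨n, hn, h⟩ := hu (u⁻¹ • m)
  refine ⟨n, hn, ?_⟩
  rw [smul_inv_smul] at h
  have := neg_mem h
  rwa [← smul_neg, neg_sub] at this

lemma trivRad_mul {u v : P.Aut} (hu : TrivRad P u) (hv : TrivRad P v) : TrivRad P (u * v) := by
  intro m
  obtain ⟨n₁, hn₁, h₁⟩ := hv m
  obtain ⟨n₂, hn₂, h₂⟩ := hu m
  refine ⟨n₂ * n₁, Nat.mul_pos hn₂ hn₁, ?_⟩
  have : (u * v) • m - m = u • (v • m - m) + (u • m - m) := by
    rw [mul_smul, smul_sub]; abel
  rw [this, smul_add]
  refine add_mem ?_ ?_
  · rw [mul_smul, ← smul_nsmul]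
    exact Submodule.smul_of_tower_mem _ n₂ (smul_mem_span_root P u h₁)
  · rw [mul_comm, mul_smul]
    exact Submodule.smul_of_tower_mem _ n₁ h₂

/-- S5478 -/
lemma finite_trivRad : Set.Finite {u : P.Aut | TrivRad P u} := by
  apply Set.Finite.of_finite_image (f := Equiv.indexHom P) (Set.toFinite _)
  intro u hu v hv huv
  have hw : TrivRad P (u⁻¹ * v) := trivRad_mul P (trivRad_inv P hu) hv
  have hfix : ∀ i : ι, (u⁻¹ * v) • i = i := by
    intro i
    have : v • i = u • i := (congrArg (fun σ : Equiv.Perm ι => σ i) huv).symm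
    rw [mul_smul, this, inv_smul_smul]
  have := eq_one_of_trivRad_of_fix P _ hw hfix
  exact (inv_mul_eq_one.mp this)

end Groth.Agent.Helper7.RD
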