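import Groth.Agent.Lib.Helper7.RootD.PMorph2
import Groth.Agent.Lib.Helper7.RootD.Radical
import Groth.Agent.Lib.Helper7.RootD.Dual

/-! Root data over `ℤ`: `p`-morphisms of reduced data, simple systems and positive systems. -/

set_option linter.unusedSectionVars false

namespace Groth.Agent.Helper7.RD

open RootPairing _root_.RootD Set Function

variable {ι M N ι' M' N' : Type*} [AddCommGroup M] [AddCommGroup N] [AddCommGroup M']
  [AddCommGroup N'] {P : RootPairing ι ℤ M N} {P' : RootPairing ι' ℤ M' N'}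
  [Finite ι] [Finite ι']
  {f : M' →ₗ[ℤ] M} {g : N →ₗ[ℤ] N'} {u : ι ≃ ι'} {q : ι → ℕ} {Δ : Set ι}

lemma zsmul_mem_natSpan_of_nonneg {S : Set ι} {x : M} {n : ℤ} (hn : 0 ≤ n)
    (hx : x ∈ natSpan P S) : n • x ∈ natSpan P S := by
  obtain ⟨m, rfl⟩ := Int.eq_ofNat_of_zero_le hn
  rw [natCast_zsmul]
  exact nsmul_mem hx m

lemma PData.eq_zero_of_map_eq_zero (h : PData P P' f g u q) {x : M'}
    (hx : x ∈ Submodule.span ℤ (Set.range P'.root)) (hfx : f x = 0) : x = 0 := by
  apply eq_zero_of_mem_span_of_coroot_eq_zero P' hx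
  intro i'
  obtain ⟨i, rfl⟩ := u.surjective i'
  have h1 : (q i : ℤ) * P'.coroot' (u i) x = 0 := by
    have : P'.toLinearMap x (g (P.coroot i)) = P.toLinearMap (f x) (P.coroot i) :=
      (h.hfg x _).symm
    rw [h.hcoroot, map_smul, hfx, map_zero, LinearMap.zero_apply, smul_eq_mul] at this
    exact this
  exact (mul_eq_zero.mp h1).resolve_left (by exact_mod_cast (h.hq i).ne')

lemma PData.exists_nsmul_mem (h : PData P P' f g u q) (hΔ : IsSimpleSys P Δ) {k : ι}
    (hk : k ∈ posOf P Δ) :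
    ∃ n : ℕ, 0 < n ∧ n • P'.root (u k) ∈ natSpan P' (u '' Δ) := by
  classical
  have := Fintype.ofFinite ι
  have hc0 := (mem_posOf_iff hΔ k).mp hk
  refine ⟨∏ j, q j, Finset.prod_pos fun j _ => h.hq j, ?_⟩
  set y : M' := ∑ i ∈ (coeff hΔ k).support,
    (coeff hΔ k i * q k * ∏ j ∈ Finset.univ.erase i, (q j : ℤ)) • P'.root (u i) with hy
  have hymem : y ∈ natSpan P' (u '' Δ) := by
    apply sum_mem
    intro i hi
    apply zsmul_mem_natSpan_of_nonneg
    · exact mul_nonneg (mul_nonneg (hc0 i) (Int.natCast_nonneg _))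
        (Finset.prod_nonneg fun j _ => Int.natCast_nonneg _)
    · exact root_mem_natSpan P' ⟨i, coeff_support hΔ k hi, rfl⟩
  have hfy : f y = f ((∏ j, q j) • P'.root (u k)) := by
    rw [hy, map_sum, map_nsmul, h.hroot]
    have hk' : P.root k = ∑ i ∈ (coeff hΔ k).support, coeff hΔ k i • P.root i := by
      conv_lhs => rw [← coeff_spec hΔ k, Finsupp.linearCombination_apply, Finsupp.sum]
    conv_rhs => rw [hk', Finset.smul_sum, Finset.smul_sum]
    apply Finset.sum_congr rfl
    intro i _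
    rw [map_smul, h.hroot, smul_smul, smul_smul, ← natCast_zsmul, smul_smul]
    congr 1
    have hprod : (q i : ℤ) * ∏ j ∈ Finset.univ.erase i, (q j : ℤ) = ∏ j, (q j : ℤ) :=
      Finset.mul_prod_erase Finset.univ (fun j => (q j : ℤ)) (Finset.mem_univ i)
    push_cast
    rw [← hprod]
    ring
  have hdiff : (∏ j, q j) • P'.root (u k) - y = 0 := by
    apply h.eq_zero_of_map_eq_zero
    · apply Submodule.sub_mem
      · exact Submodule.smul_of_tower_mem _ _ (Submodule.subset_span (mem_range_self _))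
      · exact natSpan_le_span P' _ |>.trans (Submodule.span_mono (image_subset_range _ _)) hymem
    · rw [map_sub, hfy, sub_self]
  rw [sub_eq_zero.mp hdiff]
  exact hymem

lemma PData.map_neg [P.IsReduced] (h : PData P P' f g u q) (k : ι) :
    u (neg P k) = neg P' (u k) := (h.reflectionPerm_eq k k).2

/-- the image of a simple system under the root bijection of a `p`-morphism -/
lemma PData.isSimpleSys_image [P.IsReduced] [P'.IsReduced] (h : PData P P' f g u q)
    (hΔ : IsSimpleSys P Δ) : IsSimpleSys P' (u '' Δ) := by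
  apply isSimpleSys_of_cone
  · intro i' _
    exact isIndiv_of_isReduced P' i'
  · apply LinearIndepOn.image_of_comp
    apply LinearIndepOn.of_comp f
    have : (f ∘ (P'.root ∘ u)) = fun i => (q i : ℤ) • P.root i := by
      ext i
      exact h.hroot i
    rw [this]
    exact linearIndependent_smul_of_ne_zero hΔ.linInd (fun i : ↥Δ => (q i : ℤ))
      (fun i => by exact_mod_cast (h.hq i).ne')
  · intro k'
    obtain ⟨k, rfl⟩ := u.surjective k'
    rcases mem_posOf_or_neg hΔ k with hk | hk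
    · obtain ⟨n, hn, hmem⟩ := h.exists_nsmul_mem hΔ hk
      exact ⟨n, hn, Or.inl hmem⟩
    · obtain ⟨n, hn, hmem⟩ := h.exists_nsmul_mem hΔ hk
      refine ⟨n, hn, Or.inr ?_⟩
      rw [h.map_neg, root_neg] at hmem
      exact hmem

lemma PData.image_posOf [P.IsReduced] [P'.IsReduced] (h : PData P P' f g u q)
    (hΔ : IsSimpleSys P Δ) : u '' posOf P Δ = posOf P' (u '' Δ) := by
  have hΔ' := h.isSimpleSys_image hΔ
  have hsub : u '' posOf P Δ ⊆ posOf P' (u '' Δ) := by
    rintro _ ⟨k, hk, rfl⟩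
    obtain ⟨n, hn, hmem⟩ := h.exists_nsmul_mem hΔ hk
    apply (isPosSys_posOf hΔ').sat n hn
    rw [natSpan_posOf]
    exact hmem
  apply Subset.antisymm hsub
  intro k' hk'
  obtain ⟨k, rfl⟩ := u.surjective k'
  rcases mem_posOf_or_neg hΔ k with hk | hk
  · exact ⟨k, hk, rfl⟩
  · exfalso
    have := hsub ⟨_, hk, rfl⟩
    rw [h.map_neg] at this
    exact not_mem_posOf_and_neg hΔ' (u k) ⟨hk', this⟩

/-! ### Passing to the dual datum -/

lemma isReduced_flip (P : RootPairing ι ℤ M N) [P.IsReduced] : P.flip.IsReduced := by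
  have := isReflexive_right P
  have := isReflexive_left P
  infer_instance

lemma dualSimple_eq_of_isReduced (P : RootPairing ι ℤ M N) [P.IsReduced]
    (Δ : Set ι) : dualSimple P Δ = Δ := by
  have := isReduced_flip P
  ext j
  constructor
  · rintro ⟨i, hi, ⟨rfl, -⟩ | h⟩
    · exact hi
    · exact absurd h (isIndiv_of_isReduced P.flip i j)
  · intro hj
    exact ⟨j, hj, Or.inl ⟨rfl, isIndiv_of_isReduced P.flip j⟩⟩

lemma isSimpleSys_flip [P.IsReduced] (hΔ : IsSimpleSys P Δ) : IsSimpleSys P.flip Δ := by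
  have h := isSimpleSys_dualSimple hΔ
  rwa [dualSimple_eq_of_isReduced] at h

lemma isPosSys_flip [P.IsReduced] {S : Set ι} (hS : IsPosSys P S) : IsPosSys P.flip S := by
  obtain ⟨Δ, hΔ, rfl⟩ := exists_eq_posOf hS
  have hΔf := isSimpleSys_flip hΔ
  have hsub : posOf P Δ ⊆ posOf P.flip Δ := by
    intro k hk
    have := Fintype.ofFinite ι
    obtain ⟨n, hn, hmem⟩ := exists_nsmul_coroot_mem hΔ hk
    rw [dualSimple_eq_of_isReduced] at hmem
    apply (isPosSys_posOf hΔf).sat n hn
    rw [natSpan_posOf]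
    exact hmem
  have := eq_of_subset_of_isPosSys hS hsub (isPosSys_posOf hΔf).disjoint
  rw [this]
  exact isPosSys_posOf hΔf

lemma PData.flip (h : PData P P' f g u q) :
    PData P'.flip P.flip g f u.symm (q ∘ u.symm) where
  hfg := fun n m' => (h.hfg m' n).symm
  hq := fun i' => h.hq _
  hroot := fun i' => by
    have := h.hcoroot (u.symm i')
    rw [u.apply_symm_apply] at this
    exact this
  hcoroot := fun i' => by
    have := h.hroot (u.symm i')
    rw [u.apply_symm_apply] at this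
    exact this

/-- S5481 -/
lemma PData.simple_pos_iff [P.IsReduced] [P'.IsReduced] (h : PData P P' f g u q) (Δ : Set ι) :
    (IsSimpleSys P Δ ↔ IsSimpleSys P' (u '' Δ)) ∧ (IsPosSys P Δ ↔ IsPosSys P' (u '' Δ)) := by
  have hr := isReduced_flip P
  have hr' := isReduced_flip P'
  have himg : u.symm '' (u '' Δ) = Δ := by
    rw [image_image]
    simp
  have hpos : ∀ {P₁ : RootPairing ι ℤ M N} {P₂ : RootPairing ι' ℤ M' N'}
      {f₁ : M' →ₗ[ℤ] M} {g₁ : N →ₗ[ℤ] N'} {q₁ : ι → ℕ} [P₁.IsReduced] [P₂.IsReduced],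
      PData P₁ P₂ f₁ g₁ u q₁ → ∀ S : Set ι, IsPosSys P₁ S → IsPosSys P₂ (u '' S) := by
    intro P₁ P₂ f₁ g₁ q₁ _ _ h₁ S hS
    obtain ⟨Δ₀, hΔ₀, rfl⟩ := exists_eq_posOf hS
    rw [h₁.image_posOf hΔ₀]
    exact isPosSys_posOf (h₁.isSimpleSys_image hΔ₀)
  constructor
  · constructor
    · exact h.isSimpleSys_image
    · intro hΔ'
      have h1 : IsSimpleSys P'.flip (u '' Δ) := isSimpleSys_flip hΔ'
      have h2 := h.flip.isSimpleSys_image h1
      rw [himg] at h2
      have h3 := isSimpleSys_flip h2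
      exact h3
  · constructor
    · exact hpos h Δ
    · intro hS'
      have h1 : IsPosSys P'.flip (u '' Δ) := isPosSys_flip hS'
      obtain ⟨Δ₀, hΔ₀, hS0⟩ := exists_eq_posOf h1
      have h2 : IsPosSys P.flip (u.symm '' (u '' Δ)) := by
        rw [hS0, h.flip.image_posOf hΔ₀]
        exact isPosSys_posOf (h.flip.isSimpleSys_image hΔ₀)
      rw [himg] at h2
      exact isPosSys_flip h2

end Groth.Agent.Helper7.RD
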