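import Groth.Agent.Lib.Helper7.RootD.Support

/-! Root data over `ℤ`: parabolic subsets and parabolic subgroups. -/

set_option linter.unusedSectionVars false

namespace Groth.Agent.Helper7.RD

open RootPairing _root_.RootD Set Function

variable {ι M N : Type*} [AddCommGroup M] [AddCommGroup N] {P : RootPairing ι ℤ M N}
  {Δ Δ' : Set ι}

variable [Finite ι]

/-! ### Parabolic subsets -/

/-- S5458 -/
lemma parabolic_eq {S : Set ι} (hS : IsPosSys P S) (hΔ : IsSimpleSys P Δ) (hΔS : Δ ⊆ S)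
    {P' : Set ι} (hcl : IsClosedSub P P') (hSP : S ⊆ P') :
    P' = S ∪ {k : ι | -P.root k ∈
      natSpan P {i : ι | i ∈ Δ ∧ P.reflectionPerm i i ∈ P'}} := by
  have hSeq : S = posOf P Δ := (subset_iff_eq_posOf hΔ hS).mp hΔS
  set Δ' : Set ι := {i : ι | i ∈ Δ ∧ P.reflectionPerm i i ∈ P'} with hΔ'
  have claim : ∀ β, Reach P Δ β → neg P β ∈ P' → P.root β ∈ natSpan P Δ' := by
    intro β hβ
    induction hβ with
    | @base i hi =>
      intro hneg
      exact root_mem_natSpan P ⟨hi, hneg⟩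
    | @step j i β hj hi hβ ih =>
      intro hneg
      have hjS : j ∈ P' := hSP (hSeq ▸ root_mem_natSpan_of_reach hj)
      have hiS : i ∈ P' := hSP (hΔS hi)
      have h1 : neg P i ∈ P' := by
        apply hcl hneg hjS
        rw [root_neg, root_neg, hβ]; abel
      have h2 : neg P j ∈ P' := by
        apply hcl hneg hiS
        rw [root_neg, root_neg, hβ]; abel
      rw [hβ]
      exact add_mem (ih h2) (root_mem_natSpan P ⟨hi, h1⟩)
  have hnegspan : ∀ x ∈ natSpan P Δ', -x ∈ natSpan P P' := by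
    intro x hx
    induction hx using AddSubmonoid.closure_induction with
    | mem x hx =>
      obtain ⟨i, hi, rfl⟩ := hx
      rw [← root_neg]
      exact root_mem_natSpan P hi.2
    | zero => simp
    | add x y _ _ hx hy =>
      rw [neg_add]
      exact add_mem hx hy
  ext k
  constructor
  · intro hk
    by_cases hkS : k ∈ S
    · exact Or.inl hkS
    · right
      have hnegS : neg P k ∈ posOf P Δ := by
        rw [← hSeq]
        exact (hS.cover k).resolve_left hkS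
      have := claim (neg P k) (reach_of_mem_natSpan hnegS) (by rw [neg_neg]; exact hk)
      rw [root_neg] at this
      exact this
  · rintro (hk | hk)
    · exact hSP hk
    · apply (isClosedSub_iff_natSpan P').mp hcl
      have := hnegspan _ hk
      rwa [_root_.neg_neg] at this

/-- S5459 -/
lemma exists_parabolic_eq {P' : Set ι} (hP2 : ∀ i : ι, i ∈ P' ∨ P.reflectionPerm i i ∈ P')
    (hcl : IsClosedSub P P') :
    ∃ Δ Δ' : Set ι, IsSimpleSys P Δ ∧ Δ' ⊆ Δ ∧
      P' = posOf P Δ ∪ {k : ι | -P.root k ∈ natSpan P Δ'} := by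
  obtain ⟨Δ₀, hΔ₀⟩ := exists_isSimpleSys P
  obtain ⟨w, -, hw⟩ := exists_smul_posOf_subset hΔ₀ hP2 hcl
  have hΔ := isSimpleSys_smul w hΔ₀
  rw [← posOf_smul] at hw
  refine ⟨_, {i : ι | i ∈ (fun i => w • i) '' Δ₀ ∧ P.reflectionPerm i i ∈ P'}, hΔ,
    fun i hi => hi.1, ?_⟩
  exact parabolic_eq (isPosSys_posOf hΔ) hΔ (subset_posOf hΔ) hcl hw

/-! ### Parabolic subgroups -/

lemma reflectionPerm_mem_posOf_of_notMem_inSpan (hΔ : IsSimpleSys P Δ) (hsub : Δ' ⊆ Δ) {i : ι}
    (hi : i ∈ Δ') {k : ι} (hk : k ∈ posOf P Δ) (hk' : k ∉ inSpan P Δ') :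
    P.reflectionPerm i k ∈ posOf P Δ ∧ P.reflectionPerm i k ∉ inSpan P Δ' := by
  rw [mem_inSpan_iff hΔ hsub] at hk' ⊢
  rw [not_subset] at hk'
  obtain ⟨j, hj, hjΔ'⟩ := hk'
  have hj0 : coeff hΔ k j ≠ 0 := Finsupp.mem_support_iff.mp hj
  have hjpos : 0 < coeff hΔ k j := lt_of_le_of_ne ((mem_posOf_iff hΔ k).mp hk j) (Ne.symm hj0)
  have hji : j ≠ i := fun h => hjΔ' (h ▸ hi)
  have hc : coeff hΔ (P.reflectionPerm i k) j = coeff hΔ k j :=
    coeff_reflectionPerm_of_mem hΔ (hsub hi) k j hji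
  refine ⟨mem_posOf_of_coeff_pos hΔ (i := j) (hc ▸ hjpos), fun h => hjΔ' (h ?_)⟩
  rw [Finset.mem_coe, Finsupp.mem_support_iff, hc]
  exact hj0

/-- S5462 -/
lemma smul_mem_posOf_of_notMem_inSpan (hΔ : IsSimpleSys P Δ) (hsub : Δ' ⊆ Δ) {g : P.Aut}
    (hg : g ∈ WΔ P Δ') {k : ι} (hk : k ∈ posOf P Δ) (hk' : k ∉ inSpan P Δ') :
    g • k ∈ posOf P Δ ∧ g • k ∉ inSpan P Δ' := by
  obtain ⟨l, hl, rfl⟩ := exists_wprod_eq hg
  induction l with
  | nil => simpa using ⟨hk, hk'⟩
  | cons a t ih =>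
    have ht : ∀ b ∈ t, b ∈ Δ' := fun b hb => hl b (List.mem_cons_of_mem _ hb)
    obtain ⟨h1, h2⟩ := ih ht (wprod_mem_WΔ ht)
    rw [wprod_cons, mul_smul]
    exact reflectionPerm_mem_posOf_of_notMem_inSpan hΔ hsub (hl a List.mem_cons_self) h1 h2

/-- the condition of acting trivially modulo the span of `Δ'` -/
def TrivMod (P : RootPairing ι ℤ M N) (Δ' : Set ι) (g : P.Aut) : Prop :=
  ∀ k : ι, ∃ n : ℕ, 0 < n ∧
    n • (P.root (g • k) - P.root k) ∈ Submodule.span ℤ (P.root '' Δ')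

lemma trivMod_reflection {i : ι} (hi : i ∈ Δ') : TrivMod P Δ' (Equiv.reflection P i) := by
  intro k
  refine ⟨1, one_pos, ?_⟩
  rw [one_smul, reflection_smul_idx, P.root_reflectionPerm, P.reflection_apply_root,
    sub_sub_cancel_left]
  exact neg_mem (Submodule.smul_mem _ _ (Submodule.subset_span ⟨i, hi, rfl⟩))

lemma trivMod_mul {g h : P.Aut} (hg : TrivMod P Δ' g) (hh : TrivMod P Δ' h) :
    TrivMod P Δ' (g * h) := by
  intro k
  obtain ⟨n₁, hn₁, h₁⟩ := hg (h • k)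
  obtain ⟨n₂, hn₂, h₂⟩ := hh k
  refine ⟨n₂ * n₁, Nat.mul_pos hn₂ hn₁, ?_⟩
  have : P.root ((g * h) • k) - P.root k =
      (P.root (g • (h • k)) - P.root (h • k)) + (P.root (h • k) - P.root k) := by
    rw [mul_smul]; abel
  rw [this, smul_add]
  refine add_mem ?_ ?_
  · rw [mul_smul]
    exact Submodule.smul_of_tower_mem _ n₂ h₁
  · rw [mul_comm, mul_smul]
    exact Submodule.smul_of_tower_mem _ n₁ h₂

lemma trivMod_of_mem {g : P.Aut} (hg : g ∈ WΔ P Δ') : TrivMod P Δ' g := by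
  obtain ⟨l, hl, rfl⟩ := exists_wprod_eq hg
  induction l with
  | nil =>
    intro k
    exact ⟨1, one_pos, by simp⟩
  | cons a t ih =>
    have ht : ∀ b ∈ t, b ∈ Δ' := fun b hb => hl b (List.mem_cons_of_mem _ hb)
    rw [wprod_cons]
    exact trivMod_mul (trivMod_reflection (hl a List.mem_cons_self)) (ih ht (wprod_mem_WΔ ht))

lemma coeff_smul_eq_of_trivMod (hΔ : IsSimpleSys P Δ) (hsub : Δ' ⊆ Δ) {g : P.Aut}
    (hg : TrivMod P Δ' g) (k : ι) {j : ι} (hj : j ∉ Δ') :
    coeff hΔ (g • k) j = coeff hΔ k j := by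
  classical
  obtain ⟨n, hn, h⟩ := hg k
  obtain ⟨e, he, hek⟩ := (Finsupp.mem_span_image_iff_linearCombination ℤ).mp h
  have he' : ↑e.support ⊆ Δ' := (Finsupp.mem_supported _ _).mp he
  have heq : (n : ℤ) • (coeff hΔ (g • k) - coeff hΔ k) = e := by
    apply linearCombination_inj P hΔ.linInd
    · intro l hl
      rcases Finset.mem_union.mp (Finsupp.support_sub (Finsupp.support_smul hl)) with h1 | h1
      · exact coeff_support hΔ _ h1
      · exact coeff_support hΔ _ h1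
    · exact he'.trans hsub
    · rw [map_smul, map_sub, coeff_spec, coeff_spec, hek, natCast_zsmul]
  have h1 := congrArg (fun c => c j) heq
  have h2 : e j = 0 := by
    by_contra h0
    exact hj (he' (Finsupp.mem_support_iff.mpr h0))
  simp only [Finsupp.smul_apply, Finsupp.sub_apply, smul_eq_mul, h2] at h1
  have hn' : (n : ℤ) ≠ 0 := by exact_mod_cast hn.ne'
  have := (mul_eq_zero.mp h1).resolve_left hn'
  omega

lemma mem_WΔ_of_trivMod (hΔ : IsSimpleSys P Δ) (hsub : Δ' ⊆ Δ) {g : P.Aut}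
    (hgW : g ∈ WΔ P Δ) (hg : TrivMod P Δ' g) : g ∈ WΔ P Δ' := by
  induction hn : (bad P Δ (posOf P Δ) g).ncard using Nat.strong_induction_on generalizing g with
  | _ n ih =>
    by_cases hall : ∀ i ∈ Δ, g • i ∈ posOf P Δ
    · rw [eq_one_of_smul_mem_posOf hΔ hgW hall]
      exact one_mem _
    · push Not at hall
      obtain ⟨i, hi, hgi⟩ := hall
      have hiΔ' : i ∈ Δ' := by
        by_contra hcon
        apply hgi
        apply mem_posOf_of_coeff_pos hΔ (i := i)
        rw [coeff_smul_eq_of_trivMod hΔ hsub hg i hcon, coeff_of_mem hΔ hi]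
        simp
      have hlt := ncard_bad_lt hΔ (mem_posOf_or_neg hΔ)
        (isClosedSub_of_isPosSys (isPosSys_posOf hΔ)) g hi hgi
      have := ih _ (hn ▸ hlt) (mul_mem hgW (reflection_mem_WΔ hi))
        (trivMod_mul hg (trivMod_reflection hiΔ')) rfl
      have h2 := mul_mem this (reflection_mem_WΔ hiΔ')
      rwa [mul_assoc, reflection_mul_self, mul_one] at h2

/-- S5463 -/
lemma mem_WΔ_iff_trivMod (hΔ : IsSimpleSys P Δ) (hsub : Δ' ⊆ Δ) {g : P.Aut}
    (hg : g ∈ P.weylGroup) :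
    g ∈ Subgroup.closure ((fun i : ι => Equiv.reflection P i) '' Δ') ↔
      ∀ k : ι, ∃ n : ℕ, 0 < n ∧
        n • (P.root (g • k) - P.root k) ∈ Submodule.span ℤ (P.root '' Δ') := by
  constructor
  · intro h
    exact trivMod_of_mem (Δ' := Δ') h
  · intro h
    rw [← WΔ_eq_weylGroup hΔ] at hg
    exact mem_WΔ_of_trivMod hΔ hsub hg h

end Groth.Agent.Helper7.RD
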