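import Groth.Agent.Lib.Helper7.RootD.Support

/-! Root data over `ℤ`: partitions of the roots into closed symmetric subsets. -/

set_option linter.unusedSectionVars false

namespace Groth.Agent.Helper7.RD

open RootPairing _root_.RootD Set Function

variable {ι M N : Type*} [AddCommGroup M] [AddCommGroup N] {P : RootPairing ι ℤ M N}
  {Δ : Set ι}

lemma inSpan_empty (k : ι) : k ∉ inSpan P (∅ : Set ι) := by
  intro h
  have h' : P.root k ∈ Submodule.span ℤ (P.root '' (∅ : Set ι)) := h
  rw [image_empty, Submodule.span_empty, Submodule.mem_bot] at h'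
  exact P.ne_zero k h'

variable [Finite ι]

lemma support_of_reach_of_partition (hΔ : IsSimpleSys P Δ) {R' : Set ι}
    (hc : IsClosedSub P R') (hs : IsSymmSub P R') (hc' : IsClosedSub P R'ᶜ)
    (hs' : IsSymmSub P R'ᶜ) {k : ι} (hk : Reach P Δ k) :
    (k ∈ R' → ↑(coeff hΔ k).support ⊆ Δ ∩ R') ∧ (k ∉ R' → ↑(coeff hΔ k).support ⊆ Δ \ R') := by
  classical
  induction hk with
  | @base i hi =>
    rw [coeff_of_mem hΔ hi]
    constructor
    · intro hiR l hl
      have := Finsupp.support_single_subset hl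
      simp only [Finset.mem_singleton] at this
      exact this ▸ ⟨hi, hiR⟩
    · intro hiR l hl
      have := Finsupp.support_single_subset hl
      simp only [Finset.mem_singleton] at this
      exact this ▸ ⟨hi, hiR⟩
  | @step j i k hj hi hk ih =>
    have hcoef := coeff_add_of_mem hΔ hi hk
    rw [hcoef]
    rcases same_part_of_add P hc hs hc' hs' hk with ⟨h1, h2, h3⟩ | ⟨h1, h2, h3⟩
    · refine ⟨fun _ l hl => ?_, fun h => absurd h3 h⟩
      rcases Finset.mem_union.mp (Finsupp.support_add hl) with h | h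
      · exact ih.1 h1 h
      · have := Finsupp.support_single_subset h
        simp only [Finset.mem_singleton] at this
        exact this ▸ ⟨hi, h2⟩
    · refine ⟨fun h => absurd h h3, fun _ l hl => ?_⟩
      rcases Finset.mem_union.mp (Finsupp.support_add hl) with h | h
      · exact ih.2 h1 h
      · have := Finsupp.support_single_subset h
        simp only [Finset.mem_singleton] at this
        exact this ▸ ⟨hi, h2⟩

/-- S5482 -/
lemma partition_eq_inSpan (hΔ : IsSimpleSys P Δ) {R' : Set ι}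
    (hc : IsClosedSub P R') (hs : IsSymmSub P R') (hc' : IsClosedSub P R'ᶜ)
    (hs' : IsSymmSub P R'ᶜ) :
    R' = inSpan P (Δ ∩ R') ∧ R'ᶜ = inSpan P (Δ \ R') ∧
      ∀ i ∈ Δ ∩ R', ∀ j ∈ Δ \ R', P.IsOrthogonal i j := by
  have hdiff : Δ \ (Δ ∩ R') = Δ \ R' := sdiff_self_inter
  have key : ∀ k, (k ∈ R' → k ∈ inSpan P (Δ ∩ R')) ∧ (k ∉ R' → k ∈ inSpan P (Δ \ R')) := by
    intro k
    rcases mem_posOf_or_neg hΔ k with hk | hk
    · have := support_of_reach_of_partition hΔ hc hs hc' hs' (reach_of_mem_natSpan hk)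
      rw [mem_inSpan_iff hΔ inter_subset_left, mem_inSpan_iff hΔ sdiff_subset]
      exact this
    · have := support_of_reach_of_partition hΔ hc hs hc' hs' (reach_of_mem_natSpan hk)
      rw [← mem_inSpan_neg_iff (Δ ∩ R') k, ← mem_inSpan_neg_iff (Δ \ R') k,
        mem_inSpan_iff hΔ inter_subset_left, mem_inSpan_iff hΔ sdiff_subset]
      constructor
      · intro hkR
        exact this.1 (hs hkR)
      · intro hkR
        apply this.2
        intro hneg
        have : neg P (neg P k) ∈ R' := hs hneg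
        rw [neg_neg] at this
        exact hkR this
  have hdisj : ∀ k, ¬ (k ∈ inSpan P (Δ ∩ R') ∧ k ∈ inSpan P (Δ \ R')) := by
    intro k
    have := disjoint_inSpan hΔ (Δ' := Δ ∩ R') inter_subset_left k
    rwa [hdiff] at this
  refine ⟨?_, ?_, ?_⟩
  · ext k
    constructor
    · exact (key k).1
    · intro hk
      by_contra hkR
      exact hdisj k ⟨hk, (key k).2 hkR⟩
  · ext k
    constructor
    · exact (key k).2
    · intro hk hkR
      exact hdisj k ⟨(key k).1 hkR, hk⟩
  · intro i hi j hj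
    by_contra hij
    exact hj.2 (mem_of_not_isOrthogonal P hc hs hc' hs' hi.2 hij)

/-- S5494 -/
lemma linked_of_connected (hΔ : IsSimpleSys P Δ)
    (hconn : ∀ Δ' : Set ι, Δ' ⊆ Δ → (∀ i ∈ Δ', ∀ j ∈ Δ \ Δ', P.IsOrthogonal i j) →
      Δ' = ∅ ∨ Δ' = Δ) (i j : ι) : Linked P i j := by
  obtain ⟨hc, hs, hc', hs'⟩ := linked_class P i
  obtain ⟨h1, h2, h3⟩ := partition_eq_inSpan hΔ hc hs hc' hs'
  have hdiff : Δ \ (Δ ∩ {j : ι | Linked P i j}) = Δ \ {j : ι | Linked P i j} := sdiff_self_inter
  rcases hconn (Δ ∩ {j : ι | Linked P i j}) inter_subset_left (by rwa [hdiff]) with h | h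
  · exfalso
    have hi : i ∈ {j : ι | Linked P i j} := Relation.ReflTransGen.refl
    rw [h1, h] at hi
    exact inSpan_empty i hi
  · by_contra hj
    have hj' : j ∈ {j : ι | Linked P i j}ᶜ := hj
    have hempty : Δ \ {j : ι | Linked P i j} = ∅ := by
      rw [← hdiff, h, sdiff_self]
    rw [h2, hempty] at hj'
    exact inSpan_empty j hj'

end Groth.Agent.Helper7.RD
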