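import Groth.Agent.Lib.Helper7.RootD.Lemmas

/-! Root data over `ℤ`: positive systems attached to simple systems, chains of partial sums. -/

namespace Groth.Agent.Helper7.RD

open RootPairing _root_.RootD Set Function

variable {ι M N : Type*} [AddCommGroup M] [AddCommGroup N] {P : RootPairing ι ℤ M N}
  {Δ : Set ι}

lemma eq_zero_of_mem_natSpan_of_neg_mem (hli : LinearIndepOn ℤ P.root Δ) {x : M}
    (h1 : x ∈ natSpan P Δ) (h2 : -x ∈ natSpan P Δ) : x = 0 := by
  obtain ⟨c, hc, hc0, hcx⟩ := (mem_natSpan_iff P).mp h1
  obtain ⟨d, hd, hd0, hdx⟩ := (neg_mem_natSpan_iff P).mp h2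
  have hcd : c = d := linearCombination_inj P hli hc hd (hcx.trans hdx.symm)
  have : c = 0 := by
    ext i
    exact le_antisymm (hcd ▸ hd0 i) (hc0 i)
  rw [← hcx, this, map_zero]

lemma natSpan_posOf (Δ : Set ι) : natSpan P (posOf P Δ) = natSpan P Δ := by
  apply le_antisymm
  · apply AddSubmonoid.closure_le.mpr
    rintro _ ⟨k, hk, rfl⟩
    exact hk
  · apply AddSubmonoid.closure_mono
    rintro _ ⟨k, hk, rfl⟩
    exact ⟨k, root_mem_natSpan P hk, rfl⟩

lemma isPosSys_posOf (hΔ : IsSimpleSys P Δ) : IsPosSys P (posOf P Δ) where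
  disjoint := fun k hk hk' => not_mem_posOf_and_neg hΔ k ⟨hk, hk'⟩
  cover := mem_posOf_or_neg hΔ
  sat := by
    intro k n hn h
    rw [natSpan_posOf] at h
    rcases mem_posOf_or_neg hΔ k with hk | hk
    · exact hk
    · exfalso
      have h2 : -(n • P.root k) ∈ natSpan P Δ := by
        have : -(n • P.root k) = n • P.root (neg P k) := by simp
        rw [this]
        exact AddSubmonoid.nsmul_mem _ hk n
      have h0 := eq_zero_of_mem_natSpan_of_neg_mem hΔ.linInd h h2
      rw [← natCast_zsmul, zsmul_root_eq_zero_iff] at h0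
      omega

lemma subset_iff_eq_posOf (hΔ : IsSimpleSys P Δ) {S : Set ι} (hS : IsPosSys P S) :
    Δ ⊆ S ↔ S = posOf P Δ := by
  constructor
  · intro h
    have h1 : posOf P Δ ⊆ S := by
      intro k hk
      apply hS.sat 1 one_pos
      rw [one_smul]
      exact natSpan_mono P h hk
    apply Subset.antisymm _ h1
    intro k hk
    rcases mem_posOf_or_neg hΔ k with h2 | h2
    · exact h2
    · exact absurd (h1 h2) (hS.disjoint hk)
  · rintro rfl
    exact subset_posOf hΔ

variable [Finite ι]

/-- A positive non-simple root is the sum of a positive root and a simple root. -/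
lemma exists_eq_add_of_mem_posOf_of_notMem (hΔ : IsSimpleSys P Δ) {k : ι}
    (hk : k ∈ posOf P Δ) (hkΔ : k ∉ Δ) :
    ∃ l ∈ posOf P Δ, ∃ j ∈ Δ, P.root k = P.root l + P.root j := by
  classical
  have hc0 := (mem_posOf_iff hΔ k).mp hk
  have h2 : (2 : ℤ) = (coeff hΔ k).sum fun j a => a * P.pairing j k := by
    have := congrArg (P.coroot' k) (coeff_spec hΔ k)
    rw [Finsupp.linearCombination_apply, map_finsuppSum] at this
    simpa [P.root_coroot'_eq_pairing] using this.symm
  obtain ⟨j, hjs, hj⟩ : ∃ j ∈ (coeff hΔ k).support, 0 < coeff hΔ k j * P.pairing j k := by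
    by_contra hcon
    push Not at hcon
    have : (coeff hΔ k).sum (fun j a => a * P.pairing j k) ≤ 0 :=
      Finset.sum_nonpos fun j hj => hcon j hj
    omega
  have hjΔ : j ∈ Δ := coeff_support hΔ k hjs
  have hcj : 0 < coeff hΔ k j :=
    lt_of_le_of_ne (hc0 j) (Ne.symm (Finsupp.mem_support_iff.mp hjs))
  have hpj : 0 < P.pairing j k := (pos_iff_pos_of_mul_pos hj).mp hcj
  have hkj : k ≠ j := fun h => hkΔ (h ▸ hjΔ)
  obtain ⟨l, hl⟩ := root_sub_mem_of_pairing_pos P ((pairing_pos_iff P).mp hpj) hkj
  have hcl : coeff hΔ k - Finsupp.single j 1 = coeff hΔ l := by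
    apply coeff_unique hΔ
    · intro i hi
      rcases Finset.mem_union.mp (Finsupp.support_sub hi) with h | h
      · exact coeff_support hΔ k h
      · have := Finsupp.support_single_subset h
        simp only [Finset.mem_singleton] at this
        simpa [this] using hjΔ
    · simp [coeff_spec, hl]
  refine ⟨l, ?_, j, hjΔ, by rw [hl]; abel⟩
  rw [mem_posOf_iff hΔ]
  intro i
  rw [← hcl]
  by_cases hij : i = j
  · subst hij
    simp only [Finsupp.coe_sub, Pi.sub_apply, Finsupp.single_eq_same]
    omega
  · simp only [Finsupp.coe_sub, Pi.sub_apply, Finsupp.single_apply, if_neg (Ne.symm hij), sub_zero]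
    exact hc0 i

/-- A positive root is simple iff it is not the sum of two positive roots. -/
lemma mem_iff_not_exists_add (hΔ : IsSimpleSys P Δ) {k : ι} (hk : k ∈ posOf P Δ) :
    k ∈ Δ ↔ ¬ ∃ i j : ι, i ∈ posOf P Δ ∧ j ∈ posOf P Δ ∧ P.root k = P.root i + P.root j := by
  classical
  constructor
  · rintro hkΔ ⟨i, j, hi, hj, hkij⟩
    have hc : coeff hΔ i + coeff hΔ j = coeff hΔ k := by
      apply coeff_unique hΔ
      · intro l hl
        rcases Finset.mem_union.mp (Finsupp.support_add hl) with h | h
        · exact coeff_support hΔ i h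
        · exact coeff_support hΔ j h
      · simp [coeff_spec, hkij]
    rw [coeff_of_mem hΔ hkΔ] at hc
    have hi0 := (mem_posOf_iff hΔ i).mp hi
    have hj0 := (mem_posOf_iff hΔ j).mp hj
    have hl : ∀ l, l ≠ k → coeff hΔ i l = 0 ∧ coeff hΔ j l = 0 := by
      intro l hlk
      have := congrArg (fun c => c l) hc
      simp only [Finsupp.coe_add, Pi.add_apply, Finsupp.single_apply, if_neg (Ne.symm hlk)] at this
      have := hi0 l; have := hj0 l
      constructor <;> omega
    have hk1 : coeff hΔ i k + coeff hΔ j k = 1 := by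
      have := congrArg (fun c => c k) hc
      simpa using this
    have h1 := hi0 k; have h2 := hj0 k
    rcases (by omega : coeff hΔ i k = 0 ∨ coeff hΔ j k = 0) with h | h
    · apply coeff_ne_zero hΔ i
      ext l
      by_cases hlk : l = k
      · subst hlk; simpa using h
      · simpa using (hl l hlk).1
    · apply coeff_ne_zero hΔ j
      ext l
      by_cases hlk : l = k
      · subst hlk; simpa using h
      · simpa using (hl l hlk).2
  · intro h
    by_contra hkΔ
    obtain ⟨l, hl, j, hj, hklj⟩ := exists_eq_add_of_mem_posOf_of_notMem hΔ hk hkΔ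
    exact h ⟨l, j, hl, subset_posOf hΔ hj, hklj⟩

/-! ### Chains of partial sums -/

/-- `Reach P S k`: the root `k` can be reached by successively adding roots of `S`, all partial
sums being roots. -/
inductive Reach (P : RootPairing ι ℤ M N) (S : Set ι) : ι → Prop
  | base {i : ι} : i ∈ S → Reach P S i
  | step {j i k : ι} : Reach P S j → i ∈ S → P.root k = P.root j + P.root i → Reach P S k

lemma reach_of_linearCombination (S : Set ι) (n : ℕ) :
    ∀ (c : ι →₀ ℤ) (k : ι), ↑c.support ⊆ S → (∀ i, 0 ≤ c i) → (c.sum fun _ a => a) = n →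
      Finsupp.linearCombination ℤ P.root c = P.root k → Reach P S k := by
  classical
  induction n with
  | zero =>
    intro c k _ hc0 hsum hck
    exfalso
    have hz : ∀ i ∈ c.support, c i = 0 := by
      have hsum' : ∑ i ∈ c.support, c i = 0 := by
        have : (c.sum fun _ a => a) = 0 := by simpa using hsum
        simpa [Finsupp.sum] using this
      exact (Finset.sum_eq_zero_iff_of_nonneg (fun i _ => hc0 i)).mp hsum'
    have : c = 0 := by
      ext i
      by_cases hi : i ∈ c.support
      · simpa using hz i hi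
      · simpa using hi
    rw [this, map_zero] at hck
    exact P.ne_zero k hck.symm
  | succ n ih =>
    intro c k hcS hc0 hsum hck
    have h2 : (2 : ℤ) = c.sum fun j a => a * P.pairing j k := by
      have := congrArg (P.coroot' k) hck
      rw [Finsupp.linearCombination_apply, map_finsuppSum] at this
      simpa [P.root_coroot'_eq_pairing] using this.symm
    obtain ⟨j, hjs, hj⟩ : ∃ j ∈ c.support, 0 < c j * P.pairing j k := by
      by_contra hcon
      push Not at hcon
      have : c.sum (fun j a => a * P.pairing j k) ≤ 0 :=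
        Finset.sum_nonpos fun j hj => hcon j hj
      omega
    have hjS : j ∈ S := hcS hjs
    have hcj : 0 < c j := lt_of_le_of_ne (hc0 j) (Ne.symm (Finsupp.mem_support_iff.mp hjs))
    have hpj : 0 < P.pairing j k := (pos_iff_pos_of_mul_pos hj).mp hcj
    by_cases hkj : k = j
    · subst hkj; exact Reach.base hjS
    obtain ⟨l, hl⟩ := root_sub_mem_of_pairing_pos P ((pairing_pos_iff P).mp hpj) hkj
    refine Reach.step (ih (c - Finsupp.single j 1) l ?_ ?_ ?_ ?_) hjS (by rw [hl]; abel)
    · intro i hi
      rcases Finset.mem_union.mp (Finsupp.support_sub hi) with h | h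
      · exact hcS h
      · have := Finsupp.support_single_subset h
        simp only [Finset.mem_singleton] at this
        simpa [this] using hjS
    · intro i
      by_cases hij : i = j
      · subst hij
        simp only [Finsupp.coe_sub, Pi.sub_apply, Finsupp.single_eq_same]
        omega
      · simp only [Finsupp.coe_sub, Pi.sub_apply, Finsupp.single_apply, if_neg (Ne.symm hij),
          sub_zero]
        exact hc0 i
    · have h1 : (c - Finsupp.single j 1).sum (fun _ a => a) =
          c.sum (fun _ a => a) - (Finsupp.single j (1 : ℤ)).sum (fun _ a => a) :=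
        Finsupp.sum_sub_index (f := c) (g := Finsupp.single j (1 : ℤ))
            (h := fun _ a => a) (fun _ _ _ => rfl)
      rw [h1, hsum]
      simp
    · simp [hck, hl]

lemma reach_of_mem_natSpan {S : Set ι} {k : ι} (h : P.root k ∈ natSpan P S) : Reach P S k := by
  obtain ⟨c, hc, hc0, hck⟩ := (mem_natSpan_iff P).mp h
  obtain ⟨n, hn⟩ := Int.eq_ofNat_of_zero_le (Finset.sum_nonneg fun i _ => hc0 i :
    0 ≤ c.sum fun _ a => a)
  exact reach_of_linearCombination S n c k hc hc0 hn hck

omit [Finite ι] in
lemma root_mem_natSpan_of_reach {S : Set ι} {k : ι} (h : Reach P S k) :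
    P.root k ∈ natSpan P S := by
  induction h with
  | base hi => exact root_mem_natSpan P hi
  | step _ hi hk ih => rw [hk]; exact add_mem ih (root_mem_natSpan P hi)

/-- closedness in terms of `natSpan` -/
lemma isClosedSub_iff_natSpan (S : Set ι) :
    IsClosedSub P S ↔ ∀ k : ι, P.root k ∈ natSpan P S → k ∈ S := by
  constructor
  · intro hS k hk
    have := reach_of_mem_natSpan hk
    induction this with
    | base hi => exact hi
    | step hj hi hkji ih => exact hS (ih (root_mem_natSpan_of_reach hj)) hi hkji
  · intro h i j k hi hj hk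
    apply h
    rw [hk]
    exact add_mem (root_mem_natSpan P hi) (root_mem_natSpan P hj)

end Groth.Agent.Helper7.RD
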