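import Groth.Agent.Lib.Helper7.RootD.Radical
import Mathlib.LinearAlgebra.Dimension.Localization
import Mathlib.LinearAlgebra.FreeModule.PID
import Mathlib.LinearAlgebra.Dual.Lemmas

/-! Root data over `ℤ`: ranks of the radical, coradical and the root lattice. -/

set_option linter.unusedSectionVars false

namespace Groth.Agent.Helper7.RD

open RootPairing _root_.RootD Set Function Module

lemma finrank_range_add_finrank_ker_int {A B : Type*} [AddCommGroup A] [AddCommGroup B]
    [Module.Finite ℤ A] (f : A →ₗ[ℤ] B) :
    finrank ℤ (LinearMap.range f) + finrank ℤ (LinearMap.ker f) = finrank ℤ A := by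
  rw [← f.quotKerEquivRange.finrank_eq]
  exact Submodule.finrank_quotient_add_finrank _

variable {ι M N : Type*} [AddCommGroup M] [AddCommGroup N] (P : RootPairing ι ℤ M N)

lemma mem_iInf_ker_coroot' (x : M) :
    x ∈ (⨅ i : ι, LinearMap.ker (P.coroot' i) : Submodule ℤ M) ↔ ∀ i, P.coroot' i x = 0 := by
  simp [Submodule.mem_iInf]

lemma mem_iInf_ker_root' (x : N) :
    x ∈ (⨅ i : ι, LinearMap.ker (P.root' i) : Submodule ℤ N) ↔ ∀ i, P.root' i x = 0 := by
  simp [Submodule.mem_iInf]

lemma ker_polarization_eq [Fintype ι] :
    LinearMap.ker P.Polarization = ⨅ i : ι, LinearMap.ker (P.coroot' i) := by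
  ext x
  rw [LinearMap.mem_ker, mem_iInf_ker_coroot']
  constructor
  · intro h
    have h1 : P.RootForm x x = 0 := by
      rw [← P.toLinearMap_apply_apply_Polarization, h, map_zero]
    rw [P.rootForm_apply_apply] at h1
    have h2 := (Finset.sum_eq_zero_iff_of_nonneg
      (fun i _ => mul_self_nonneg (P.coroot' i x))).mp h1
    intro i
    exact mul_self_eq_zero.mp (h2 i (Finset.mem_univ i))
  · intro h
    rw [P.Polarization_apply]
    apply Finset.sum_eq_zero
    intro i _
    have : P.coroot' i x = 0 := h i
    rw [this, zero_smul]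

lemma polarization_mem_span_coroot [Fintype ι] (x : M) :
    P.Polarization x ∈ Submodule.span ℤ (range P.coroot) := by
  rw [P.Polarization_apply]
  apply Submodule.sum_mem
  intro i _
  exact Submodule.smul_mem _ _ (Submodule.subset_span (mem_range_self i))

variable [Finite ι] [Module.Finite ℤ M] [Module.Finite ℤ N]

lemma finrank_span_root_le_finrank_range_polarization [Fintype ι] :
    finrank ℤ (Submodule.span ℤ (range P.root)) ≤ finrank ℤ (LinearMap.range P.Polarization) := by
  let g : Submodule.span ℤ (range P.root) →ₗ[ℤ] LinearMap.range P.Polarization :=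
    (P.Polarization.domRestrict _).codRestrict _ (fun x => ⟨x, rfl⟩)
  apply LinearMap.finrank_le_finrank_of_injective (f := g)
  rw [← LinearMap.ker_eq_bot, LinearMap.ker_eq_bot']
  intro x hx
  have h1 : P.Polarization (x : M) = 0 := by
    have := congrArg Subtype.val hx
    simpa [g] using this
  have h2 : (x : M) ∈ LinearMap.ker P.Polarization := h1
  rw [ker_polarization_eq, mem_iInf_ker_coroot'] at h2
  exact Subtype.ext (eq_zero_of_mem_span_of_coroot_eq_zero P x.2 h2)

lemma finrank_range_polarization_le [Fintype ι] :
    finrank ℤ (LinearMap.range P.Polarization) ≤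
      finrank ℤ (Submodule.span ℤ (range P.coroot)) := by
  apply Submodule.finrank_mono
  rintro _ ⟨x, rfl⟩
  exact polarization_mem_span_coroot P x

lemma finrank_span_root_le_span_coroot :
    finrank ℤ (Submodule.span ℤ (range P.root)) ≤
      finrank ℤ (Submodule.span ℤ (range P.coroot)) := by
  have := Fintype.ofFinite ι
  exact (finrank_span_root_le_finrank_range_polarization P).trans
    (finrank_range_polarization_le P)

lemma finrank_span_coroot_eq :
    finrank ℤ (Submodule.span ℤ (range P.coroot)) =
      finrank ℤ (Submodule.span ℤ (range P.root)) :=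
  le_antisymm (finrank_span_root_le_span_coroot P.flip) (finrank_span_root_le_span_coroot P)

/-- S5476 (1) -/
theorem finrank_coradical_add :
    finrank ℤ (⨅ i : ι, LinearMap.ker (P.coroot' i) : Submodule ℤ M) +
      finrank ℤ (Submodule.span ℤ (range P.root)) = finrank ℤ M := by
  have := Fintype.ofFinite ι
  have h1 := finrank_range_add_finrank_ker_int P.Polarization
  rw [ker_polarization_eq] at h1
  have h2 := finrank_span_root_le_finrank_range_polarization P
  have h3 := finrank_range_polarization_le P
  have h4 := finrank_span_coroot_eq P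
  omega

include P in
lemma free_right : Module.Free ℤ N := by
  have := isAddTorsionFree_right P
  exact Module.free_of_finite_type_torsion_free'

include P in
lemma finrank_right_eq_left : finrank ℤ N = finrank ℤ M := by
  have := free_right P
  have e1 : N ≃ₗ[ℤ] Module.Dual ℤ N := (Module.Free.chooseBasis ℤ N).toDualEquiv
  rw [e1.finrank_eq, ← P.toPerfPair.finrank_eq]

/-- S5476 (2) -/
theorem finrank_radical_add :
    finrank ℤ (⨅ i : ι, LinearMap.ker (P.root' i) : Submodule ℤ N) +
      finrank ℤ (Submodule.span ℤ (range P.root)) = finrank ℤ M := by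
  have h1 := finrank_coradical_add P.flip
  rw [finrank_right_eq_left P] at h1
  have h2 := finrank_span_coroot_eq P
  have h3 : finrank ℤ (Submodule.span ℤ (range P.flip.root)) =
      finrank ℤ (Submodule.span ℤ (range P.coroot)) := rfl
  have h4 : finrank ℤ (⨅ i : ι, LinearMap.ker (P.flip.coroot' i) : Submodule ℤ N) =
      finrank ℤ (⨅ i : ι, LinearMap.ker (P.root' i) : Submodule ℤ N) := rfl
  omega

lemma finrank_eq_zero_iff_int {A : Type*} [AddCommGroup A] [Module.Finite ℤ A]
    [IsAddTorsionFree A] (S : Submodule ℤ A) : finrank ℤ S = 0 ↔ S = ⊥ := by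
  exact Submodule.finrank_eq_zero

/-- S5476 (3) -/
theorem semisimple_iff_coradical :
    finrank ℤ (Submodule.span ℤ (range P.root)) = finrank ℤ M ↔
      (⨅ i : ι, LinearMap.ker (P.coroot' i) : Submodule ℤ M) = ⊥ := by
  have := isAddTorsionFree_left P
  rw [← finrank_eq_zero_iff_int]
  have h1 := finrank_coradical_add P
  omega

/-- S5476 (4) -/
theorem semisimple_iff_radical :
    finrank ℤ (Submodule.span ℤ (range P.root)) = finrank ℤ M ↔
      (⨅ i : ι, LinearMap.ker (P.root' i) : Submodule ℤ N) = ⊥ := by
  have := isAddTorsionFree_right P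
  rw [← finrank_eq_zero_iff_int]
  have h1 := finrank_radical_add P
  omega

end Groth.Agent.Helper7.RD
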