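import Groth.Agent.Lib.Helper7.RootD.Faithful

/-! Root data over `ℤ`: heights under the subgroup generated by some simple reflections. -/

set_option linter.unusedSectionVars false

namespace Groth.Agent.Helper7.RD

open RootPairing _root_.RootD Set Function

variable {ι M N : Type*} [AddCommGroup M] [AddCommGroup N] {P : RootPairing ι ℤ M N}
  {Δ : Set ι} [Finite ι]

/-- Deletion within a subset `S` of the simple roots. -/
lemma exists_shorter_sub (hΔ : IsSimpleSys P Δ) {S : Set ι} (hS : S ⊆ Δ) :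
    ∀ (l : List ι), (∀ b ∈ l, b ∈ S) → ∀ {a : ι}, a ∈ Δ → neg P (wprod P l • a) ∈ posOf P Δ →
      ∃ l'' : List ι, (∀ b ∈ l'', b ∈ S) ∧ l''.length + 1 = l.length ∧
        wprod P l = wprod P l'' * Equiv.reflection P a := by
  intro l
  induction l with
  | nil =>
    intro _ a ha hneg
    exfalso
    rw [wprod_nil, one_smul] at hneg
    exact not_mem_posOf_and_neg hΔ a ⟨subset_posOf hΔ ha, hneg⟩
  | cons b t ih =>
    intro hl a ha hneg
    have hb : b ∈ S := hl b List.mem_cons_self
    have ht : ∀ c ∈ t, c ∈ S := fun c hc => hl c (List.mem_cons_of_mem _ hc)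
    rcases mem_posOf_or_neg hΔ (wprod P t • a) with hpos | hneg'
    · have hind : IsIndiv P (wprod P t • a) :=
        (isIndiv_smul_iff _ a).mpr (isIndiv_of_mem hΔ ha)
      have hnot : P.reflectionPerm b (wprod P t • a) ∉ posOf P Δ := by
        intro hmem
        apply not_mem_posOf_and_neg hΔ _ ⟨hmem, ?_⟩
        rw [wprod_cons, mul_smul] at hneg
        exact hneg
      have heq := eq_of_reflectionPerm_not_mem_posOf hΔ (hS hb) hpos hind hnot
      refine ⟨t, ht, by simp, ?_⟩
      rw [wprod_cons, ← heq, ← conj_reflection]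
      group
    · obtain ⟨t'', ht'', hlen, hw⟩ := ih ht ha hneg'
      refine ⟨b :: t'', ?_, by simp [hlen], ?_⟩
      · intro c hc
        rcases List.mem_cons.mp hc with rfl | h
        · exact hb
        · exact ht'' c h
      · rw [wprod_cons, wprod_cons, hw, mul_assoc]

lemma exists_wprod_eq_sub {S : Set ι} {w : P.Aut}
    (hw : w ∈ Subgroup.closure ((fun i : ι => Equiv.reflection P i) '' S)) :
    ∃ l : List ι, (∀ a ∈ l, a ∈ S) ∧ wprod P l = w := by
  induction hw using Subgroup.closure_induction with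
  | mem x hx =>
    obtain ⟨i, hi, rfl⟩ := hx
    exact ⟨[i], by simpa using hi, wprod_singleton i⟩
  | one => exact ⟨[], by simp, rfl⟩
  | mul x y _ _ hx hy =>
    obtain ⟨l₁, h₁, rfl⟩ := hx
    obtain ⟨l₂, h₂, rfl⟩ := hy
    refine ⟨l₁ ++ l₂, ?_, wprod_append l₁ l₂⟩
    intro a ha
    rcases List.mem_append.mp ha with h | h
    · exact h₁ a h
    · exact h₂ a h
  | inv x _ hx =>
    obtain ⟨l, hl, rfl⟩ := hx
    refine ⟨l.reverse, ?_, wprod_reverse l⟩
    intro a ha
    exact hl a (List.mem_reverse.mp ha)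

/-- A shortest word in the letters `S` for an element: every prefix maps the next letter to a
positive root. -/
lemma prefix_pos_of_minimal (hΔ : IsSimpleSys P Δ) {S : Set ι} (hS : S ⊆ Δ) (l : List ι)
    (hl : ∀ a ∈ l, a ∈ S)
    (hmin : ∀ l' : List ι, (∀ a ∈ l', a ∈ S) → wprod P l' = wprod P l → l.length ≤ l'.length)
    (l₁ l₂ : List ι) (a : ι) (h : l = l₁ ++ a :: l₂) : wprod P l₁ • a ∈ posOf P Δ := by
  rcases mem_posOf_or_neg hΔ (wprod P l₁ • a) with hpos | hneg
  · exact hpos
  exfalso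
  have hl₁ : ∀ b ∈ l₁, b ∈ S := fun b hb => hl b (by rw [h]; simp [hb])
  have hl₂ : ∀ b ∈ l₂, b ∈ S := fun b hb => hl b (by rw [h]; simp [hb])
  have ha : a ∈ S := hl a (by rw [h]; simp)
  obtain ⟨l'', hl'', hlen, hw⟩ := exists_shorter_sub hΔ hS l₁ hl₁ (hS ha) hneg
  have h1 : wprod P (l'' ++ l₂) = wprod P l := by
    rw [h, wprod_append, wprod_append, wprod_cons, hw, mul_assoc, ← mul_assoc _ _ (wprod P l₂),
      reflection_mul_self, one_mul]
  have h2 := hmin (l'' ++ l₂) (by
    intro b hb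
    rcases List.mem_append.mp hb with hb | hb
    · exact hl'' b hb
    · exact hl₂ b hb) h1
  rw [h] at h2
  simp only [List.length_append, List.length_cons] at h2
  omega

lemma ht_pos (hΔ : IsSimpleSys P Δ) {k : ι} (hk : k ∈ posOf P Δ) : 0 < ht hΔ k := by
  obtain ⟨i, -, hi⟩ := coeff_pos_of_mem_posOf hΔ hk
  unfold ht Finsupp.sum
  apply Finset.sum_pos'
  · intro j _
    exact (mem_posOf_iff hΔ k).mp hk j
  · exact ⟨i, Finsupp.mem_support_iff.mpr hi.ne', hi⟩

lemma ht_of_root_eq_sub_smul (hΔ : IsSimpleSys P Δ) {x y z : ι} (p : ℤ)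
    (h : P.root x = P.root y - p • P.root z) : ht hΔ x = ht hΔ y - p * ht hΔ z := by
  classical
  have hc : coeff hΔ y - p • coeff hΔ z = coeff hΔ x := by
    apply coeff_unique hΔ
    · intro l hl
      rw [Finset.mem_coe, Finsupp.mem_support_iff] at hl
      by_contra hlΔ
      apply hl
      simp [coeff_eq_zero_of_notMem hΔ y hlΔ, coeff_eq_zero_of_notMem hΔ z hlΔ]
    · rw [map_sub, map_smul, coeff_spec, coeff_spec, h]
  unfold ht
  rw [← hc, Finsupp.sum_sub_index (h := fun _ a => a) (fun _ _ _ => rfl),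
    Finsupp.sum_smul_index (h := fun _ a => a) (fun _ => rfl)]
  simp only [Finsupp.sum, Finset.mul_sum]

/-- Heights along a word in which `γ` pairs non-negatively with every letter. -/
lemma ht_wprod_le (hΔ : IsSimpleSys P Δ) (k i : ι) (l : List ι)
    (hpair : ∀ a ∈ l, 0 ≤ P.pairing k a) (hi : 0 < P.pairing k i)
    (hpos : ∀ (l₁ l₂ : List ι) (a : ι), l = l₁ ++ a :: l₂ → wprod P l₁ • a ∈ posOf P Δ) :
    ht hΔ (wprod P l • k) ≤ ht hΔ k ∧ (i ∈ l → ht hΔ (wprod P l • k) < ht hΔ k) := by
  induction l using List.reverseRecOn with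
  | nil => simp
  | append_singleton l₁ a ih =>
    have hpair₁ : ∀ b ∈ l₁, 0 ≤ P.pairing k b := fun b hb => hpair b (by simp [hb])
    have hpos₁ : ∀ (t₁ t₂ : List ι) (b : ι), l₁ = t₁ ++ b :: t₂ →
        wprod P t₁ • b ∈ posOf P Δ := by
      intro t₁ t₂ b h
      exact hpos t₁ (t₂ ++ [a]) b (by rw [h]; simp)
    obtain ⟨ih1, ih2⟩ := ih hpair₁ hpos₁
    have hapos : wprod P l₁ • a ∈ posOf P Δ := hpos l₁ [] a rfl
    have hroot : P.root (wprod P (l₁ ++ [a]) • k) =
        P.root (wprod P l₁ • k) - P.pairing k a • P.root (wprod P l₁ • a) := by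
      rw [wprod_append, wprod_singleton, mul_smul, root_smul, root_smul, root_smul, root_smul]
      change wprod P l₁ • (P.reflection a (P.root k)) = _
      rw [P.reflection_apply_root, smul_sub, smul_zsmul]
    have hht := ht_of_root_eq_sub_smul hΔ (P.pairing k a) hroot
    have h1 := ht_pos hΔ hapos
    have h2 : 0 ≤ P.pairing k a := hpair a (by simp)
    refine ⟨?_, ?_⟩
    · rw [hht]; nlinarith
    · intro hmem
      rw [hht]
      rcases List.mem_append.mp hmem with h | h
      · have := ih2 h; nlinarith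
      · have : a = i := (List.mem_singleton.mp h).symm
        subst this
        nlinarith

end Groth.Agent.Helper7.RD
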