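import Groth.Agent.Lib.Helper7.RootD.RankTwo

/-! Root data over `ℤ`: S5472. -/

set_option linter.unusedSectionVars false

namespace Groth.Agent.Helper7.RD

open RootPairing _root_.RootD Set Function

variable {ι M N : Type*} [AddCommGroup M] [AddCommGroup N] {P : RootPairing ι ℤ M N}
  {Δ : Set ι} [Finite ι]

/-- S5472 -/
theorem coeffSum_sub_smul_nonneg_of_rankTwoSub (hΔ : IsSimpleSys P Δ)
    (k i j : ι) (hi : i ∈ Δ) (hj : j ∈ Δ)
    (hα : 0 < P.pairing k i) (hβ : 0 ≤ P.pairing k j)
    (g : P.Aut) (hg : g ∈ Subgroup.closure {Equiv.reflection P i, Equiv.reflection P j})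
    (c : ι →₀ ℤ) (hc : ↑c.support ⊆ Δ)
    (hck : Finsupp.linearCombination ℤ P.root c = P.root k - P.root (g • k)) :
    0 ≤ c.sum (fun _ a => a) ∧
      (g ≠ 1 → g ≠ Equiv.reflection P j → 0 < c.sum (fun _ a => a)) := by
  classical
  have hS : ({i, j} : Set ι) ⊆ Δ := by
    intro a ha
    rcases ha with rfl | rfl
    · exact hi
    · exact hj
  have hg' : g ∈ Subgroup.closure ((fun a : ι => Equiv.reflection P a) '' ({i, j} : Set ι)) := by
    rw [image_pair]; exact hg
  have hex : ∃ n : ℕ, ∃ l : List ι, (∀ a ∈ l, a ∈ ({i, j} : Set ι)) ∧ wprod P l = g ∧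
      l.length = n := by
    obtain ⟨l, hl, hlw⟩ := exists_wprod_eq_sub hg'
    exact ⟨l.length, l, hl, hlw, rfl⟩
  obtain ⟨l, hl, hlw, hlen⟩ := Nat.find_spec hex
  have hmin : ∀ l' : List ι, (∀ a ∈ l', a ∈ ({i, j} : Set ι)) → wprod P l' = wprod P l →
      l.length ≤ l'.length := by
    intro l' hl' hw'
    rw [hlen]
    exact Nat.find_min' hex ⟨l', hl', hw'.trans hlw, rfl⟩
  have hpos := prefix_pos_of_minimal hΔ hS l hl hmin
  have hpair : ∀ a ∈ l, 0 ≤ P.pairing k a := by
    intro a ha
    rcases hl a ha with rfl | rfl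
    · exact le_of_lt hα
    · exact hβ
  obtain ⟨h1, h2⟩ := ht_wprod_le hΔ k i l hpair hα hpos
  rw [hlw] at h1 h2
  -- identify `c`
  have hceq : c = coeff hΔ k - coeff hΔ (g • k) := by
    apply linearCombination_inj P hΔ.linInd hc
    · intro a ha
      rw [Finset.mem_coe, Finsupp.mem_support_iff] at ha
      by_contra haΔ
      apply ha
      simp [coeff_eq_zero_of_notMem hΔ k haΔ, coeff_eq_zero_of_notMem hΔ (g • k) haΔ]
    · rw [hck, map_sub, coeff_spec, coeff_spec]
  have hsum : c.sum (fun _ a => a) = ht hΔ k - ht hΔ (g • k) := by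
    rw [hceq, Finsupp.sum_sub_index (h := fun _ a => a) (fun _ _ _ => rfl)]
    rfl
  rw [hsum]
  refine ⟨by linarith, fun hg1 hgj => ?_⟩
  have hil : i ∈ l := by
    by_contra hil
    have hall : ∀ a ∈ l, a = j := by
      intro a ha
      rcases hl a ha with rfl | rfl
      · exact absurd ha hil
      · rfl
    match l, hl, hlw, hmin, hall with
    | [], _, hlw, _, _ => exact hg1 (by rw [← hlw, wprod_nil])
    | [a], _, hlw, _, hall =>
      have : a = j := hall a (by simp)
      subst this
      exact hgj (by rw [← hlw, wprod_singleton])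
    | a :: b :: t, hl, hlw, hmin, hall =>
      have ha : a = j := hall a (by simp)
      have hb : b = j := hall b (by simp)
      have hw : wprod P t = wprod P (a :: b :: t) := by
        rw [ha, hb, wprod_cons, wprod_cons, ← mul_assoc, reflection_mul_self, one_mul]
      have := hmin t (fun c hc => hl c (by simp [hc])) hw
      simp at this
  have := h2 hil
  linarith

end Groth.Agent.Helper7.RD
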