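import Groth.Agent.Lib.Helper7.RootD.Trans
import Mathlib.Algebra.Category.Grp.Injective
import Mathlib.LinearAlgebra.FreeModule.PID

/-! Root data over `ℤ`: a rational functional vanishing exactly on a saturated set of roots. -/

set_option linter.unusedSectionVars false

namespace Groth.Agent.Helper7.RD

open RootPairing _root_.RootD Set Function

/-- A generic integer combination avoids finitely many hyperplanes. -/
lemma exists_generic {κ σ : Type*} [Fintype κ] [Finite σ] (a : σ → κ → ℤ) (ha : ∀ s, a s ≠ 0) :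
    ∃ c : κ → ℤ, ∀ s, ∑ j, c j * a s j ≠ 0 := by
  classical
  have : Fintype σ := Fintype.ofFinite σ
  let p : σ → MvPolynomial κ ℤ :=
    fun s => ∑ j, MvPolynomial.C (a s j) * MvPolynomial.X j
  have hp : ∀ s, p s ≠ 0 := by
    intro s h
    obtain ⟨i, hi⟩ : ∃ i, a s i ≠ 0 := by
      by_contra hcon
      push Not at hcon
      exact ha s (funext hcon)
    have h2 := congrArg (MvPolynomial.coeff (Finsupp.single i 1)) h
    simp only [p, MvPolynomial.coeff_sum, MvPolynomial.coeff_C_mul, MvPolynomial.coeff_X,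
      MvPolynomial.coeff_zero] at h2
    rw [Finset.sum_eq_single i] at h2
    · simp at h2
      exact hi h2
    · intro j _ hj
      have : Finsupp.single j 1 ≠ Finsupp.single i 1 := by
        intro h3
        exact hj ((Finsupp.single_left_injective one_ne_zero) h3)
      simp [this]
    · simp
  have hprod : ∏ s, p s ≠ 0 := Finset.prod_ne_zero_iff.mpr fun s _ => hp s
  obtain ⟨c, hc⟩ : ∃ c : κ → ℤ, MvPolynomial.eval c (∏ s, p s) ≠ 0 := by
    by_contra h
    push Not at h
    exact hprod (MvPolynomial.funext (fun c => by simpa using h c))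
  refine ⟨c, fun s => ?_⟩
  have hs : MvPolynomial.eval c (p s) ≠ 0 := by
    intro h0
    apply hc
    rw [map_prod]
    exact Finset.prod_eq_zero (Finset.mem_univ s) h0
  simpa [p, map_sum, mul_comm] using hs

variable {ι M N : Type*} [AddCommGroup M] [AddCommGroup N] (P : RootPairing ι ℤ M N)

/-- The saturation (inside `V`) of a submodule `T` of a torsion-free module. -/
def satIn (V T : Submodule ℤ M) : Submodule ℤ V where
  carrier := {v | ∃ n : ℕ, 0 < n ∧ n • (v : M) ∈ T}
  add_mem' := by
    rintro a b ⟨n, hn, ha⟩ ⟨m, hm, hb⟩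
    refine ⟨n * m, Nat.mul_pos hn hm, ?_⟩
    have : (n * m) • ((a + b : V) : M) = m • (n • (a : M)) + n • (m • (b : M)) := by
      rw [Submodule.coe_add, smul_add, mul_smul, mul_smul, smul_comm n m (a : M)]
    rw [this]
    exact add_mem (T.smul_of_tower_mem m ha) (T.smul_of_tower_mem n hb)
  zero_mem' := ⟨1, one_pos, by simp⟩
  smul_mem' := by
    rintro c a ⟨n, hn, ha⟩
    refine ⟨n, hn, ?_⟩
    have : n • ((c • a : V) : M) = c • (n • (a : M)) := by
      rw [Submodule.coe_smul, smul_comm]
    rw [this]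
    exact T.smul_mem c ha

lemma mem_satIn {V T : Submodule ℤ M} {v : V} :
    v ∈ satIn V T ↔ ∃ n : ℕ, 0 < n ∧ n • (v : M) ∈ T := Iff.rfl

lemma isTorsionFree_quot_satIn (V T : Submodule ℤ M) :
    Module.IsTorsionFree ℤ (V ⧸ satIn V T) := by
  refine Module.IsTorsionFree.of_smul_eq_zero fun r q h => ?_
  by_cases hr : r = 0
  · exact Or.inl hr
  right
  obtain ⟨v, rfl⟩ := Submodule.Quotient.mk_surjective _ q
  rw [← Submodule.Quotient.mk_smul, Submodule.Quotient.mk_eq_zero] at h
  rw [Submodule.Quotient.mk_eq_zero]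
  obtain ⟨n, hn, hv⟩ := h
  refine ⟨n * r.natAbs, Nat.mul_pos hn (Int.natAbs_pos.mpr hr), ?_⟩
  rcases Int.natAbs_eq r with h1 | h1
  · have : (n * r.natAbs) • (v : M) = n • ((r • v : V) : M) := by
      rw [Submodule.coe_smul, mul_smul]
      congr 1
      conv_rhs => rw [h1]
      rw [natCast_zsmul]
    rw [this]; exact hv
  · have : (n * r.natAbs) • (v : M) = -(n • ((r • v : V) : M)) := by
      rw [Submodule.coe_smul, mul_smul, ← smul_neg]
      congr 1
      conv_rhs => rw [h1]
      rw [neg_smul, _root_.neg_neg, natCast_zsmul]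
    rw [this]; exact T.neg_mem hv

/-- S5460 / S5461 / S5464 key: a rational functional vanishing exactly on a saturated set. -/
lemma exists_functional_of_saturated [Finite ι] (R' : Set ι)
    (hsat : ∀ k : ι, (∃ n : ℕ, 0 < n ∧ n • P.root k ∈ Submodule.span ℤ (P.root '' R')) → k ∈ R') :
    ∃ ψ : M →ₗ[ℤ] ℚ, ∀ k, ψ (P.root k) = 0 ↔ k ∈ R' := by
  classical
  set V : Submodule ℤ M := Submodule.span ℤ (range P.root) with hVdef
  set T : Submodule ℤ M := Submodule.span ℤ (P.root '' R') with hTdef
  have hV : ∀ i, P.root i ∈ V := fun i => Submodule.subset_span (mem_range_self i)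
  have hfin : Module.Finite ℤ V := Module.Finite.span_of_finite ℤ (Set.finite_range _)
  have htf : Module.IsTorsionFree ℤ (V ⧸ satIn V T) := isTorsionFree_quot_satIn V T
  have hfree : Module.Free ℤ (V ⧸ satIn V T) := Module.free_of_finite_type_torsion_free'
  let b := Module.Free.chooseBasis ℤ (V ⧸ satIn V T)
  have : Fintype (Module.Free.ChooseBasisIndex ℤ (V ⧸ satIn V T)) := inferInstance
  let q : ι → V ⧸ satIn V T := fun k => (satIn V T).mkQ ⟨P.root k, hV k⟩
  have hq0 : ∀ k, k ∈ R' → q k = 0 := by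
    intro k hk
    simp only [q, Submodule.mkQ_apply, Submodule.Quotient.mk_eq_zero]
    exact ⟨1, one_pos, by simpa using Submodule.subset_span (mem_image_of_mem _ hk)⟩
  have hq1 : ∀ k, k ∉ R' → q k ≠ 0 := by
    intro k hk h
    simp only [q, Submodule.mkQ_apply, Submodule.Quotient.mk_eq_zero] at h
    exact hk (hsat k h)
  let a : {k // k ∉ R'} → Module.Free.ChooseBasisIndex ℤ (V ⧸ satIn V T) → ℤ :=
    fun s j => b.repr (q s) j
  have ha : ∀ s, a s ≠ 0 := by
    intro s h
    apply hq1 s s.2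
    have : b.repr (q s) = 0 := by
      ext j
      exact congrFun h j
    simpa using this
  obtain ⟨c, hc⟩ := exists_generic a ha
  let ψQ : (V ⧸ satIn V T) →ₗ[ℤ] ℤ := ∑ j, c j • b.coord j
  let g : V →ₗ[ℤ] ℚ := (Algebra.linearMap ℤ ℚ) ∘ₗ ψQ ∘ₗ (satIn V T).mkQ
  obtain ⟨h, hh⟩ := (Module.Baer.of_divisible ℚ).extension_property V.subtype
    V.subtype_injective g
  refine ⟨h, fun k => ?_⟩
  have hk : h (P.root k) = ((ψQ (q k) : ℤ) : ℚ) := by
    have := LinearMap.congr_fun hh ⟨P.root k, hV k⟩
    simpa [g, q] using this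
  rw [hk]
  constructor
  · intro h0
    by_contra hkR
    have h1 : ψQ (q k) = 0 := by exact_mod_cast h0
    apply hc ⟨k, hkR⟩
    simpa [ψQ, a, LinearMap.sum_apply] using h1
  · intro hkR
    rw [hq0 k hkR]
    simp

end Groth.Agent.Helper7.RD
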