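import Groth.Agent.Lib.Helper7.RootD.Faithful

/-! Root data over `ℤ`: supports of roots along a simple system, orthogonal decompositions. -/

set_option linter.unusedSectionVars false

namespace Groth.Agent.Helper7.RD

open RootPairing _root_.RootD Set Function

variable {ι M N : Type*} [AddCommGroup M] [AddCommGroup N] {P : RootPairing ι ℤ M N}
  {Δ Δ' : Set ι}

lemma mem_inSpan_iff (hΔ : IsSimpleSys P Δ) (hsub : Δ' ⊆ Δ) (k : ι) :
    k ∈ inSpan P Δ' ↔ ↑(coeff hΔ k).support ⊆ Δ' := by
  constructor
  · intro h
    obtain ⟨c, hc, hck⟩ := (Finsupp.mem_span_image_iff_linearCombination ℤ).mp h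
    have hc' : ↑c.support ⊆ Δ' := (Finsupp.mem_supported _ _).mp hc
    rw [← coeff_unique hΔ k (hc'.trans hsub) hck]
    exact hc'
  · intro h
    exact (Finsupp.mem_span_image_iff_linearCombination ℤ).mpr
      ⟨coeff hΔ k, (Finsupp.mem_supported _ _).mpr h, coeff_spec hΔ k⟩

lemma coeff_add_of_mem (hΔ : IsSimpleSys P Δ) {i j k : ι} (hi : i ∈ Δ)
    (h : P.root k = P.root j + P.root i) : coeff hΔ k = coeff hΔ j + Finsupp.single i 1 := by
  classical
  symm
  apply coeff_unique hΔ
  · intro l hl
    rcases Finset.mem_union.mp (Finsupp.support_add hl) with h1 | h1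
    · exact coeff_support hΔ j h1
    · have := Finsupp.support_single_subset h1
      simp only [Finset.mem_singleton] at this
      exact this ▸ hi
  · rw [map_add, coeff_spec, h]
    simp

lemma mem_inSpan_neg_iff (S : Set ι) (k : ι) : neg P k ∈ inSpan P S ↔ k ∈ inSpan P S := by
  unfold inSpan
  simp only [mem_ofPred_eq, root_neg, neg_mem_iff]

lemma pairing_eq_sum_coeff (hΔ : IsSimpleSys P Δ) (k i : ι) :
    P.pairing k i = (coeff hΔ k).sum fun l a => a * P.pairing l i := by
  have := congrArg (P.coroot' i) (coeff_spec hΔ k)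
  rw [Finsupp.linearCombination_apply, map_finsuppSum] at this
  simpa [P.root_coroot'_eq_pairing] using this.symm

variable [Finite ι]

/-- If `Δ` splits into two mutually orthogonal parts then the support of every positive root lies
in one of the parts. -/
lemma support_subset_or_of_reach (hΔ : IsSimpleSys P Δ) (hsub : Δ' ⊆ Δ)
    (horth : ∀ i ∈ Δ', ∀ j ∈ Δ \ Δ', P.IsOrthogonal i j) {k : ι} (hk : Reach P Δ k) :
    ↑(coeff hΔ k).support ⊆ Δ' ∨ ↑(coeff hΔ k).support ⊆ Δ \ Δ' := by
  classical
  induction hk with
  | @base i hi =>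
    rw [coeff_of_mem hΔ hi]
    by_cases hi' : i ∈ Δ'
    · left
      intro l hl
      have := Finsupp.support_single_subset hl
      simp only [Finset.mem_singleton] at this
      exact this ▸ hi'
    · right
      intro l hl
      have := Finsupp.support_single_subset hl
      simp only [Finset.mem_singleton] at this
      exact this ▸ ⟨hi, hi'⟩
  | @step j i k hj hi hk ih =>
    have hjpos : j ∈ posOf P Δ := root_mem_natSpan_of_reach hj
    have hc := coeff_add_of_mem hΔ hi hk
    -- if `i` is orthogonal to the support of `j` we get a contradiction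
    have key : ∀ T : Set ι, ↑(coeff hΔ j).support ⊆ T → i ∉ T →
        (∀ l ∈ T, P.IsOrthogonal l i) → False := by
      intro T hT hiT hTorth
      have hji : P.pairing j i = 0 := by
        rw [pairing_eq_sum_coeff hΔ j i]
        apply Finset.sum_eq_zero
        intro l hl
        change coeff hΔ j l * P.pairing l i = 0
        rw [(hTorth l (hT hl)).1, mul_zero]
      have horth' : P.IsOrthogonal j i := ⟨hji, (P.pairing_eq_zero_iff').mp hji⟩
      obtain ⟨k', hk'⟩ := (add_mem_iff_sub_mem_of_isOrthogonal P j i horth').mp ⟨k, hk⟩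
      have hc' : coeff hΔ k' = coeff hΔ j - Finsupp.single i 1 := by
        symm
        apply coeff_unique hΔ
        · intro l hl
          rcases Finset.mem_union.mp (Finsupp.support_sub hl) with h1 | h1
          · exact coeff_support hΔ j h1
          · have := Finsupp.support_single_subset h1
            simp only [Finset.mem_singleton] at this
            exact this ▸ hi
        · rw [map_sub, coeff_spec, hk']
          simp
      have hji0 : coeff hΔ j i = 0 := by
        by_contra h0
        exact hiT (hT (Finsupp.mem_support_iff.mpr h0))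
      have h1 : coeff hΔ k' i = -1 := by
        rw [hc']; simp [hji0]
      obtain ⟨l, hlΔ, hl⟩ := coeff_pos_of_mem_posOf hΔ hjpos
      have hli : l ≠ i := by
        rintro rfl
        rw [hji0] at hl
        exact lt_irrefl _ hl
      have h2 : coeff hΔ k' l = coeff hΔ j l := by
        rw [hc']; simp [Ne.symm hli]
      rcases coeff_sign hΔ k' with h | h
      · have := h i; omega
      · have := h l; omega
    rcases ih with h | h
    · left
      by_cases hi' : i ∈ Δ'
      · rw [hc]
        intro l hl
        rcases Finset.mem_union.mp (Finsupp.support_add hl) with h1 | h1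
        · exact h h1
        · have := Finsupp.support_single_subset h1
          simp only [Finset.mem_singleton] at this
          exact this ▸ hi'
      · exact (key Δ' h hi' fun l hl => horth l hl i ⟨hi, hi'⟩).elim
    · right
      by_cases hi' : i ∈ Δ'
      · exact (key (Δ \ Δ') h (fun h' => h'.2 hi') fun l hl => (horth i hi' l hl).symm).elim
      · rw [hc]
        intro l hl
        rcases Finset.mem_union.mp (Finsupp.support_add hl) with h1 | h1
        · exact h h1
        · have := Finsupp.support_single_subset h1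
          simp only [Finset.mem_singleton] at this
          exact this ▸ ⟨hi, hi'⟩

lemma disjoint_inSpan (hΔ : IsSimpleSys P Δ) (hsub : Δ' ⊆ Δ) (k : ι) :
    ¬ (k ∈ inSpan P Δ' ∧ k ∈ inSpan P (Δ \ Δ')) := by
  rw [mem_inSpan_iff hΔ hsub, mem_inSpan_iff hΔ sdiff_subset]
  rintro ⟨h1, h2⟩
  obtain ⟨i, -, hi⟩ := exists_coeff_ne_zero hΔ k
  have hi' := Finsupp.mem_support_iff.mpr hi
  exact (h2 hi').2 (h1 hi')

/-- S5483 -/
lemma inSpan_partition (hΔ : IsSimpleSys P Δ) (hsub : Δ' ⊆ Δ)
    (horth : ∀ i ∈ Δ', ∀ j ∈ Δ \ Δ', P.IsOrthogonal i j) (k : ι) :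
    (k ∈ inSpan P Δ' ∨ k ∈ inSpan P (Δ \ Δ')) ∧
      ¬ (k ∈ inSpan P Δ' ∧ k ∈ inSpan P (Δ \ Δ')) := by
  refine ⟨?_, disjoint_inSpan hΔ hsub k⟩
  rcases mem_posOf_or_neg hΔ k with hk | hk
  · have := support_subset_or_of_reach hΔ hsub horth (reach_of_mem_natSpan hk)
    rw [mem_inSpan_iff hΔ hsub, mem_inSpan_iff hΔ sdiff_subset]
    exact this
  · have := support_subset_or_of_reach hΔ hsub horth (reach_of_mem_natSpan hk)
    rw [← mem_inSpan_neg_iff Δ' k, ← mem_inSpan_neg_iff (Δ \ Δ') k,
      mem_inSpan_iff hΔ hsub, mem_inSpan_iff hΔ sdiff_subset]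
    exact this

end Groth.Agent.Helper7.RD
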