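import Groth.Agent.Lib.Helper7.RootD.Sat
import Groth.Agent.Lib.Helper7.RootD.Misc
import Groth.Agent.Lib.Helper7.RootD.Support
import Mathlib.Algebra.Order.Monoid.Prod

/-! Root data over `ℤ`: simple systems adapted to a saturated set of roots. -/

set_option linter.unusedSectionVars false

namespace Groth.Agent.Helper7.RD

open RootPairing _root_.RootD Set Function

variable {ι M N : Type*} [AddCommGroup M] [AddCommGroup N] (P : RootPairing ι ℤ M N)

/-- A totally ordered functional non-vanishing on roots gives a simple system. -/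
lemma exists_isSimpleSys_of_order [Finite ι] {G : Type*} [AddCommGroup G] [LinearOrder G]
    [IsOrderedAddMonoid G] (φ : M →+ G) (hφ : ∀ i : ι, φ (P.root i) ≠ 0) :
    ∃ Δ, IsSimpleSys P Δ ∧ posOf P Δ = {i : ι | 0 < φ (P.root i)} := by
  have hS := isPosSys_of_order P φ (fun i => (lt_or_gt_of_ne (hφ i).symm))
  obtain ⟨Δ, hΔ, h⟩ := exists_eq_posOf hS
  exact ⟨Δ, hΔ, h.symm⟩

/-- if a functional is nonnegative on simple roots and vanishes on a root, it vanishes on the
support of the root -/
lemma functional_eq_zero_of_support {Δ : Set ι} (hΔ : IsSimpleSys P Δ) (ψ : M →ₗ[ℤ] ℚ)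
    (hpos : ∀ j ∈ Δ, 0 ≤ ψ (P.root j)) {k : ι} (hk : ψ (P.root k) = 0) {j : ι}
    (hj : j ∈ (coeff hΔ k).support) : ψ (P.root j) = 0 := by
  have h1 := congrArg ψ (coeff_spec hΔ k)
  rw [hk, Finsupp.linearCombination_apply, map_finsuppSum] at h1
  simp only [map_zsmul, zsmul_eq_mul] at h1
  unfold Finsupp.sum at h1
  have hjΔ := coeff_support hΔ k
  rcases coeff_sign hΔ k with hs | hs
  · have h2 := (Finset.sum_eq_zero_iff_of_nonneg (fun l hl =>
      mul_nonneg (by exact_mod_cast hs l) (hpos l (hjΔ hl)))).mp h1 j hj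
    rcases mul_eq_zero.mp h2 with h3 | h3
    · exact absurd (by exact_mod_cast h3) (Finsupp.mem_support_iff.mp hj)
    · exact h3
  · have h2 := (Finset.sum_eq_zero_iff_of_nonpos (fun l hl =>
      mul_nonpos_of_nonpos_of_nonneg (by exact_mod_cast hs l) (hpos l (hjΔ hl)))).mp h1 j hj
    rcases mul_eq_zero.mp h2 with h3 | h3
    · exact absurd (by exact_mod_cast h3) (Finsupp.mem_support_iff.mp hj)
    · exact h3

/-- S5460 -/
theorem eq_inSpan_iff_ratSaturated [Finite ι] (R' : Set ι) :
    (∀ k : ι, (∃ n : ℕ, 0 < n ∧ n • P.root k ∈ Submodule.span ℤ (P.root '' R')) → k ∈ R') ↔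
      ∃ Δ Δ' : Set ι, IsSimpleSys P Δ ∧ Δ' ⊆ Δ ∧ R' = inSpan P Δ' := by
  constructor
  · intro hsat
    obtain ⟨ψ, hψ⟩ := exists_functional_of_saturated P R' hsat
    obtain ⟨n, hn⟩ := exists_coweight_pairing_ne_zero P
    let φ : M →+ ℚ ×ₗ ℤ :=
      { toFun := fun m => toLex (ψ m, P.toLinearMap m n)
        map_zero' := by simp
        map_add' := fun x y => by simp; rfl }
    have hφ : ∀ i, φ (P.root i) ≠ 0 := by
      intro i h
      have h2 : (ofLex (φ (P.root i))).2 = 0 := by rw [h]; rfl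
      exact hn i h2
    obtain ⟨Δ, hΔ, hpos⟩ := exists_isSimpleSys_of_order P φ hφ
    have hψpos : ∀ j ∈ Δ, 0 ≤ ψ (P.root j) := by
      intro j hj
      have h1 : j ∈ posOf P Δ := subset_posOf hΔ hj
      rw [hpos] at h1
      have h2 : 0 < φ (P.root j) := h1
      rcases Prod.Lex.lt_iff.mp h2 with h3 | h3
      · exact le_of_lt h3
      · exact le_of_eq h3.1
    refine ⟨Δ, Δ ∩ R', hΔ, inter_subset_left, ?_⟩
    ext k
    constructor
    · intro hk
      rw [mem_inSpan_iff hΔ inter_subset_left]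
      intro j hj
      refine ⟨coeff_support hΔ k hj, ?_⟩
      rw [← hψ]
      exact functional_eq_zero_of_support P hΔ ψ hψpos ((hψ k).mpr hk) hj
    · intro hk
      apply hsat k
      refine ⟨1, one_pos, ?_⟩
      rw [one_smul]
      exact Submodule.span_mono (image_mono inter_subset_right) hk
  · rintro ⟨Δ, Δ', hΔ, hsub, hR'⟩ k ⟨n, hn, hk⟩
    rw [hR', mem_inSpan_iff hΔ hsub]
    have hle : Submodule.span ℤ (P.root '' R') ≤ Submodule.span ℤ (P.root '' Δ') := by
      rw [Submodule.span_le]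
      rintro _ ⟨j, hj, rfl⟩
      rw [hR'] at hj
      exact hj
    obtain ⟨c, hc, hck⟩ := (Finsupp.mem_span_image_iff_linearCombination ℤ).mp (hle hk)
    have hc' : ↑c.support ⊆ Δ' := (Finsupp.mem_supported _ _).mp hc
    have h2 : Finsupp.linearCombination ℤ P.root ((n : ℤ) • coeff hΔ k) = n • P.root k := by
      rw [map_smul, coeff_spec, natCast_zsmul]
    have h3 : c = (n : ℤ) • coeff hΔ k := by
      apply linearCombination_inj P hΔ.linInd (hc'.trans hsub) _ (hck.trans h2.symm)
      intro j hj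
      apply coeff_support hΔ k
      rw [Finset.mem_coe, Finsupp.mem_support_iff] at hj ⊢
      intro h0
      apply hj
      simp [h0]
    intro j hj
    apply hc'
    rw [Finset.mem_coe, Finsupp.mem_support_iff] at hj ⊢
    rw [h3]
    simp only [Finsupp.smul_apply, smul_eq_mul, ne_eq, mul_eq_zero, not_or]
    exact ⟨by exact_mod_cast hn.ne', hj⟩

end Groth.Agent.Helper7.RD
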