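import Groth.Agent.Lib.Helper7.RootD.Sat2

/-! Root data over `ℤ`: extending a simple system of a saturated subsystem. -/

set_option linter.unusedSectionVars false

namespace Groth.Agent.Helper7.RD

open RootPairing _root_.RootD Set Function

variable {ι M N : Type*} [AddCommGroup M] [AddCommGroup N] (P : RootPairing ι ℤ M N)

/-- A rational functional equal to one on a linearly independent set of roots. -/
lemma exists_functional_eq_one {Δ' : Set ι} (hli : LinearIndepOn ℤ P.root Δ') :
    ∃ θ : M →ₗ[ℤ] ℚ, ∀ j ∈ Δ', θ (P.root j) = 1 := by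
  classical
  have hli' : LinearIndependent ℤ (fun j : Δ' => P.root j) := hli
  set W : Submodule ℤ M := Submodule.span ℤ (range (fun j : Δ' => P.root j)) with hW
  let s : (Δ' →₀ ℤ) →ₗ[ℤ] ℚ := Finsupp.linearCombination ℤ (fun _ => (1 : ℚ))
  let g : W →ₗ[ℤ] ℚ := s ∘ₗ hli'.repr
  obtain ⟨θ, hθ⟩ := (Module.Baer.of_divisible ℚ).extension_property W.subtype
    W.subtype_injective g
  refine ⟨θ, fun j hj => ?_⟩
  have hmem : P.root j ∈ W := Submodule.subset_span ⟨⟨j, hj⟩, rfl⟩
  have h1 := LinearMap.congr_fun hθ ⟨P.root j, hmem⟩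
  have h2 : hli'.repr ⟨P.root j, hmem⟩ = Finsupp.single ⟨j, hj⟩ 1 :=
    hli'.repr_eq_single ⟨j, hj⟩ ⟨P.root j, hmem⟩ rfl
  simp only [LinearMap.coe_comp, Submodule.coe_subtype, comp_apply] at h1
  rw [h1]
  simp [g, s, h2]

lemma functional_natSpan {Δ' : Set ι} (θ : M →ₗ[ℤ] ℚ) (hθ : ∀ j ∈ Δ', θ (P.root j) = 1)
    {x : M} (hx : x ∈ natSpan P Δ') : x = 0 ∨ 1 ≤ θ x := by
  induction hx using AddSubmonoid.closure_induction with
  | mem x hx =>
    obtain ⟨j, hj, rfl⟩ := hx
    right
    rw [hθ j hj]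
  | zero => left; rfl
  | add x y _ _ hx hy =>
    rcases hx with rfl | hx
    · rcases hy with rfl | hy
      · left; simp
      · right; simpa using hy
    · right
      rcases hy with rfl | hy
      · simpa using hx
      · rw [map_add]; linarith

/-- S5461 -/
theorem simpleSys_sub_extends [Finite ι] (R' : Set ι)
    (hsat : ∀ k : ι, (∃ n : ℕ, 0 < n ∧ n • P.root k ∈ Submodule.span ℤ (P.root '' R')) → k ∈ R')
    (Δ' : Set ι) (hΔ'R : Δ' ⊆ R') (hli : LinearIndepOn ℤ P.root Δ')
    (hgen : ∀ k ∈ R', P.root k ∈ natSpan P Δ' ∨ -P.root k ∈ natSpan P Δ') :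
    ∃ Δ : Set ι, IsSimpleSys P Δ ∧ Δ' ⊆ Δ ∧ R' = inSpan P Δ' := by
  obtain ⟨ψ, hψ⟩ := exists_functional_of_saturated P R' hsat
  obtain ⟨θ, hθ⟩ := exists_functional_eq_one P hli
  -- sign of θ on R'
  have hθpos : ∀ k, P.root k ∈ natSpan P Δ' → 1 ≤ θ (P.root k) := by
    intro k hk
    rcases functional_natSpan P θ hθ hk with h | h
    · exact absurd h (P.ne_zero k)
    · exact h
  have hθneg : ∀ k, -P.root k ∈ natSpan P Δ' → θ (P.root k) ≤ -1 := by
    intro k hk
    rcases functional_natSpan P θ hθ hk with h | h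
    · exact absurd (neg_eq_zero.mp h) (P.ne_zero k)
    · rw [map_neg] at h; linarith
  let φ : M →+ ℚ ×ₗ ℚ :=
    { toFun := fun m => toLex (ψ m, θ m)
      map_zero' := by simp
      map_add' := fun x y => by simp; rfl }
  have hφ : ∀ i, φ (P.root i) ≠ 0 := by
    intro i h
    have h1 : (ofLex (φ (P.root i))).1 = 0 := by rw [h]; rfl
    have h2 : (ofLex (φ (P.root i))).2 = 0 := by rw [h]; rfl
    have h1' : ψ (P.root i) = 0 := h1
    have h2' : θ (P.root i) = 0 := h2
    have hi : i ∈ R' := (hψ i).mp h1'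
    rcases hgen i hi with h3 | h3
    · have := hθpos i h3; linarith
    · have := hθneg i h3; linarith
  obtain ⟨Δ, hΔ, hpos⟩ := exists_isSimpleSys_of_order P φ hφ
  have hmem : ∀ k, k ∈ posOf P Δ ↔
      (0 < ψ (P.root k) ∨ (ψ (P.root k) = 0 ∧ 0 < θ (P.root k))) := by
    intro k
    rw [hpos]
    change 0 < φ (P.root k) ↔ _
    rw [Prod.Lex.lt_iff]
    constructor
    · rintro (h | ⟨h1, h2⟩)
      · exact Or.inl h
      · exact Or.inr ⟨h1.symm, h2⟩
    · rintro (h | ⟨h1, h2⟩)
      · exact Or.inl h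
      · exact Or.inr ⟨h1.symm, h2⟩
  have hR'span : R' = inSpan P Δ' := by
    ext k
    constructor
    · intro hk
      rcases hgen k hk with h | h
      · exact natSpan_le_span P Δ' h
      · have := natSpan_le_span P Δ' h
        have h2 := Submodule.neg_mem _ this
        rw [_root_.neg_neg] at h2
        exact h2
    · intro hk
      apply hsat k
      refine ⟨1, one_pos, ?_⟩
      rw [one_smul]
      exact Submodule.span_mono (image_mono hΔ'R) hk
  refine ⟨Δ, hΔ, ?_, hR'span⟩
  intro j hj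
  have hjR : j ∈ R' := hΔ'R hj
  have hjpos : j ∈ posOf P Δ := by
    rw [hmem]
    right
    exact ⟨(hψ j).mpr hjR, by rw [hθ j hj]; exact one_pos⟩
  rw [mem_iff_not_exists_add hΔ hjpos]
  rintro ⟨a, b, ha, hb, hab⟩
  have hψj : ψ (P.root j) = 0 := (hψ j).mpr hjR
  have hψa : 0 ≤ ψ (P.root a) := by
    rcases (hmem a).mp ha with h | h
    · exact le_of_lt h
    · exact le_of_eq h.1.symm
  have hψb : 0 ≤ ψ (P.root b) := by
    rcases (hmem b).mp hb with h | h
    · exact le_of_lt h
    · exact le_of_eq h.1.symm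
  have hsum : ψ (P.root a) + ψ (P.root b) = 0 := by
    rw [← map_add, ← hab, hψj]
  have hψa0 : ψ (P.root a) = 0 := by linarith
  have hψb0 : ψ (P.root b) = 0 := by linarith
  have hθa : 0 < θ (P.root a) := by
    rcases (hmem a).mp ha with h | h
    · linarith
    · exact h.2
  have hθb : 0 < θ (P.root b) := by
    rcases (hmem b).mp hb with h | h
    · linarith
    · exact h.2
  have hθa1 : 1 ≤ θ (P.root a) := by
    rcases hgen a ((hψ a).mp hψa0) with h | h
    · exact hθpos a h
    · have := hθneg a h; linarith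
  have hθb1 : 1 ≤ θ (P.root b) := by
    rcases hgen b ((hψ b).mp hψb0) with h | h
    · exact hθpos b h
    · have := hθneg b h; linarith
  have : θ (P.root j) = θ (P.root a) + θ (P.root b) := by rw [hab, map_add]
  rw [hθ j hj] at this
  linarith

end Groth.Agent.Helper7.RD
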