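import Groth.Agent.Lib.Helper7.RootD.Sat3

/-! Root data over `ℤ`: a simple system containing a given indivisible root and adapted to a
second root. -/

set_option linter.unusedSectionVars false

namespace Groth.Agent.Helper7.RD

open RootPairing _root_.RootD Set Function

variable {ι M N : Type*} [AddCommGroup M] [AddCommGroup N] (P : RootPairing ι ℤ M N)

/-- A rational functional with prescribed values on a linearly independent family. -/
lemma exists_functional_of_linearIndependent {κ : Type*} (v : κ → M)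
    (hv : LinearIndependent ℤ v) (y : κ → ℚ) :
    ∃ θ : M →ₗ[ℤ] ℚ, ∀ j, θ (v j) = y j := by
  classical
  set W : Submodule ℤ M := Submodule.span ℤ (range v) with hW
  let s : (κ →₀ ℤ) →ₗ[ℤ] ℚ := Finsupp.linearCombination ℤ y
  let g : W →ₗ[ℤ] ℚ := s ∘ₗ hv.repr
  obtain ⟨θ, hθ⟩ := (Module.Baer.of_divisible ℚ).extension_property W.subtype
    W.subtype_injective g
  refine ⟨θ, fun j => ?_⟩
  have hmem : v j ∈ W := Submodule.subset_span ⟨j, rfl⟩
  have h1 := LinearMap.congr_fun hθ ⟨v j, hmem⟩
  have h2 : hv.repr ⟨v j, hmem⟩ = Finsupp.single j 1 :=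
    hv.repr_eq_single j ⟨v j, hmem⟩ rfl
  simp only [LinearMap.coe_comp, Submodule.coe_subtype, comp_apply] at h1
  rw [h1]
  simp [g, s, h2]

/-- The roots having a positive multiple in a submodule form a saturated set. -/
lemma saturated_of_submodule (T : Submodule ℤ M) (k : ι)
    (h : ∃ n : ℕ, 0 < n ∧ n • P.root k ∈
      Submodule.span ℤ (P.root '' {l | ∃ n : ℕ, 0 < n ∧ n • P.root l ∈ T})) :
    ∃ n : ℕ, 0 < n ∧ n • P.root k ∈ T := by
  obtain ⟨n, hn, hk⟩ := h
  have key : ∀ x ∈ Submodule.span ℤ (P.root '' {l | ∃ n : ℕ, 0 < n ∧ n • P.root l ∈ T}),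
      ∃ m : ℕ, 0 < m ∧ m • x ∈ T := by
    intro x hx
    induction hx using Submodule.span_induction with
    | mem x hx =>
      obtain ⟨l, hl, rfl⟩ := hx
      exact hl
    | zero => exact ⟨1, one_pos, by simp⟩
    | add x y _ _ hx hy =>
      obtain ⟨a, ha, hax⟩ := hx
      obtain ⟨b, hb, hby⟩ := hy
      refine ⟨a * b, Nat.mul_pos ha hb, ?_⟩
      have : (a * b) • (x + y) = b • (a • x) + a • (b • y) := by
        rw [smul_add, mul_smul, mul_smul, smul_comm a b x]
      rw [this]
      exact add_mem (T.smul_of_tower_mem b hax) (T.smul_of_tower_mem a hby)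
    | smul c x _ hx =>
      obtain ⟨a, ha, hax⟩ := hx
      refine ⟨a, ha, ?_⟩
      rw [smul_comm]
      exact T.smul_mem c hax
  obtain ⟨m, hm, hmk⟩ := key _ hk
  refine ⟨m * n, Nat.mul_pos hm hn, ?_⟩
  rw [mul_smul]
  exact hmk

end Groth.Agent.Helper7.RD
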