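import Groth.Agent.Lib.Helper7.RootD.Sat4

/-! Root data over `ℤ`: S5464. -/

set_option linter.unusedSectionVars false

namespace Groth.Agent.Helper7.RD

open RootPairing _root_.RootD Set Function

variable {ι M N : Type*} [AddCommGroup M] [AddCommGroup N] (P : RootPairing ι ℤ M N)

/-- S5464 -/
theorem exists_simpleSys_containing_pair_decomposition [Finite ι] (i k : ι) (hα : IsIndiv P i)
    (hli : LinearIndependent ℤ ![P.root i, P.root k]) :
    ∃ Δ : Set ι, IsSimpleSys P Δ ∧ i ∈ Δ ∧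
      ∃ j ∈ Δ, ∃ a b : ℕ, P.root k = a • P.root i + b • P.root j := by
  classical
  have htf := isAddTorsionFree_left P
  set T : Submodule ℤ M := Submodule.span ℤ {P.root i, P.root k} with hT
  set R' : Set ι := {l | ∃ n : ℕ, 0 < n ∧ n • P.root l ∈ T} with hR'
  have hsat : ∀ l : ι,
      (∃ n : ℕ, 0 < n ∧ n • P.root l ∈ Submodule.span ℤ (P.root '' R')) → l ∈ R' :=
    fun l h => saturated_of_submodule P T l h
  obtain ⟨ψ, hψ⟩ := exists_functional_of_saturated P R' hsat
  obtain ⟨θ₁, hθ₁⟩ := exists_functional_of_linearIndependent _ hli ![0, 1]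
  obtain ⟨θ₂, hθ₂⟩ := exists_functional_of_linearIndependent _ hli ![1, 0]
  have h1i : θ₁ (P.root i) = 0 := by simpa using hθ₁ 0
  have h1k : θ₁ (P.root k) = 1 := by simpa using hθ₁ 1
  have h2i : θ₂ (P.root i) = 1 := by simpa using hθ₂ 0
  have h2k : θ₂ (P.root k) = 0 := by simpa using hθ₂ 1
  have hiR : i ∈ R' := ⟨1, one_pos, by
    rw [one_smul]; exact Submodule.subset_span (by simp)⟩
  have hkR : k ∈ R' := ⟨1, one_pos, by
    rw [one_smul]; exact Submodule.subset_span (by simp)⟩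
  -- decomposition of elements of R'
  have hdec : ∀ l ∈ R', ∃ (n x y : ℤ), 0 < n ∧ n • P.root l = x • P.root i + y • P.root k ∧
      (n : ℚ) * θ₁ (P.root l) = y ∧ (n : ℚ) * θ₂ (P.root l) = x := by
    rintro l ⟨n, hn, hl⟩
    obtain ⟨x, y, hxy⟩ := Submodule.mem_span_pair.mp hl
    refine ⟨n, x, y, by exact_mod_cast hn, by rw [natCast_zsmul]; exact hxy.symm, ?_, ?_⟩
    · have := congrArg θ₁ hxy
      simp only [map_add, map_zsmul, map_nsmul, h1i, h1k, zsmul_eq_mul, nsmul_eq_mul, mul_zero,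
        mul_one, zero_add] at this
      rw [Int.cast_natCast]
      exact this.symm
    · have := congrArg θ₂ hxy
      simp only [map_add, map_zsmul, map_nsmul, h2i, h2k, zsmul_eq_mul, nsmul_eq_mul, mul_zero,
        mul_one, add_zero] at this
      rw [Int.cast_natCast]
      exact this.symm
  let φ : M →+ ℚ ×ₗ (ℚ ×ₗ ℚ) :=
    { toFun := fun m => toLex (ψ m, toLex (θ₁ m, θ₂ m))
      map_zero' := by simp
      map_add' := fun x y => by simp; rfl }
  have hφ : ∀ l, φ (P.root l) ≠ 0 := by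
    intro l h
    have e1 : ψ (P.root l) = 0 := by
      have : (ofLex (φ (P.root l))).1 = 0 := by rw [h]; rfl
      exact this
    have e2 : θ₁ (P.root l) = 0 := by
      have : (ofLex (ofLex (φ (P.root l))).2).1 = 0 := by rw [h]; rfl
      exact this
    have e3 : θ₂ (P.root l) = 0 := by
      have : (ofLex (ofLex (φ (P.root l))).2).2 = 0 := by rw [h]; rfl
      exact this
    obtain ⟨n, x, y, hn, hl, hy, hx⟩ := hdec l ((hψ l).mp e1)
    rw [e2, mul_zero] at hy
    rw [e3, mul_zero] at hx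
    have hx0 : x = 0 := by exact_mod_cast hx.symm
    have hy0 : y = 0 := by exact_mod_cast hy.symm
    rw [hx0, hy0, zero_smul, zero_smul, add_zero] at hl
    have : P.root l = 0 := by
      have h2 : n • P.root l = n • (0 : M) := by rw [hl, smul_zero]
      exact smul_right_injective M hn.ne' h2
    exact P.ne_zero l this
  obtain ⟨Δ, hΔ, hpos⟩ := exists_isSimpleSys_of_order P φ hφ
  have hmem : ∀ l, l ∈ posOf P Δ ↔
      (0 < ψ (P.root l) ∨ (ψ (P.root l) = 0 ∧
        (0 < θ₁ (P.root l) ∨ (θ₁ (P.root l) = 0 ∧ 0 < θ₂ (P.root l))))) := by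
    intro l
    rw [hpos]
    change 0 < φ (P.root l) ↔ _
    rw [Prod.Lex.lt_iff]
    constructor
    · rintro (h | ⟨h1, h2⟩)
      · exact Or.inl h
      · refine Or.inr ⟨h1.symm, ?_⟩
        rcases Prod.Lex.lt_iff.mp h2 with h3 | ⟨h3, h4⟩
        · exact Or.inl h3
        · exact Or.inr ⟨h3.symm, h4⟩
    · rintro (h | ⟨h1, h2⟩)
      · exact Or.inl h
      · refine Or.inr ⟨h1.symm, ?_⟩
        apply Prod.Lex.lt_iff.mpr
        rcases h2 with h3 | ⟨h3, h4⟩
        · exact Or.inl h3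
        · exact Or.inr ⟨h3.symm, h4⟩
  have hψnn : ∀ l ∈ posOf P Δ, 0 ≤ ψ (P.root l) := by
    intro l hl
    rcases (hmem l).mp hl with h | h
    · exact le_of_lt h
    · exact le_of_eq h.1.symm
  have hψΔ : ∀ j ∈ Δ, 0 ≤ ψ (P.root j) := fun j hj => hψnn j (subset_posOf hΔ hj)
  -- (a) `i` is simple
  have hipos : i ∈ posOf P Δ := by
    rw [hmem]
    exact Or.inr ⟨(hψ i).mpr hiR, Or.inr ⟨h1i, by rw [h2i]; exact one_pos⟩⟩
  have hiΔ : i ∈ Δ := by
    rw [mem_iff_not_exists_add hΔ hipos]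
    rintro ⟨a, b, ha, hb, hab⟩
    have hψi : ψ (P.root i) = 0 := (hψ i).mpr hiR
    have hsum : ψ (P.root a) + ψ (P.root b) = 0 := by rw [← map_add, ← hab, hψi]
    have hψa0 : ψ (P.root a) = 0 := by have := hψnn a ha; have := hψnn b hb; linarith
    have hψb0 : ψ (P.root b) = 0 := by have := hψnn a ha; have := hψnn b hb; linarith
    have hθ1nn : ∀ l ∈ posOf P Δ, ψ (P.root l) = 0 → 0 ≤ θ₁ (P.root l) := by
      intro l hl h0
      rcases (hmem l).mp hl with h | h
      · linarith
      · rcases h.2 with h3 | h3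
        · exact le_of_lt h3
        · exact le_of_eq h3.1.symm
    have hsum1 : θ₁ (P.root a) + θ₁ (P.root b) = 0 := by rw [← map_add, ← hab, h1i]
    have h1a0 : θ₁ (P.root a) = 0 := by
      have := hθ1nn a ha hψa0; have := hθ1nn b hb hψb0; linarith
    have h1b0 : θ₁ (P.root b) = 0 := by
      have := hθ1nn a ha hψa0; have := hθ1nn b hb hψb0; linarith
    have hge : ∀ l ∈ posOf P Δ, ψ (P.root l) = 0 → θ₁ (P.root l) = 0 → 1 ≤ θ₂ (P.root l) := by
      intro l hl h0 h10
      have h2pos : 0 < θ₂ (P.root l) := by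
        rcases (hmem l).mp hl with h | h
        · linarith
        · rcases h.2 with h3 | h3
          · linarith
          · exact h3.2
      obtain ⟨n, x, y, hn, hl', hy, hx⟩ := hdec l ((hψ l).mp h0)
      rw [h10, mul_zero] at hy
      have hy0 : y = 0 := by exact_mod_cast hy.symm
      rw [hy0, zero_smul, add_zero] at hl'
      obtain ⟨t, rfl⟩ := dvd_of_smul_root_eq_smul_root P i l hα x n hn.ne' hl'
      have hnq : (0 : ℚ) < n := by exact_mod_cast hn
      have h2t : θ₂ (P.root l) = t := by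
        have : (n : ℚ) * θ₂ (P.root l) = n * t := by rw [hx]; push_cast; ring
        exact mul_left_cancel₀ hnq.ne' this
      rw [h2t] at h2pos ⊢
      have : 0 < t := by exact_mod_cast h2pos
      exact_mod_cast this
    have hsum2 : θ₂ (P.root a) + θ₂ (P.root b) = 1 := by rw [← map_add, ← hab, h2i]
    have := hge a ha hψa0 h1a0
    have := hge b hb hψb0 h1b0
    linarith
  refine ⟨Δ, hΔ, hiΔ, ?_⟩
  -- (b) `k` is positive
  have hkpos : k ∈ posOf P Δ := by
    rw [hmem]
    exact Or.inr ⟨(hψ k).mpr hkR, Or.inl (by rw [h1k]; exact one_pos)⟩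
  have hc0 := (mem_posOf_iff hΔ k).mp hkpos
  have hsupp : ∀ l ∈ (coeff hΔ k).support, l ∈ Δ ∧ l ∈ R' := by
    intro l hl
    refine ⟨coeff_support hΔ k hl, ?_⟩
    rw [← hψ]
    exact functional_eq_zero_of_support P hΔ ψ hψΔ ((hψ k).mpr hkR) hl
  -- C1
  have hC1 : ∀ j ∈ Δ, j ≠ i → ∀ n x y : ℤ, 0 < n →
      n • P.root j = x • P.root i + y • P.root k → y ≠ 0 := by
    intro j hj hji n x y hn h hy
    rw [hy, zero_smul, add_zero] at h
    have h1 : Finsupp.linearCombination ℤ P.root (Finsupp.single j n) =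
        Finsupp.linearCombination ℤ P.root (Finsupp.single i x) := by
      simpa using h
    have h2 := linearCombination_inj P hΔ.linInd (c := Finsupp.single j n)
      (d := Finsupp.single i x)
      (by intro l hl
          have := Finsupp.support_single_subset hl
          rw [Finset.mem_singleton] at this; rw [this]; exact hj)
      (by intro l hl
          have := Finsupp.support_single_subset hl
          rw [Finset.mem_singleton] at this; rw [this]; exact hiΔ) h1
    have h3 := DFunLike.congr_fun h2 j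
    rw [Finsupp.single_eq_same, Finsupp.single_eq_of_ne hji] at h3
    exact hn.ne' h3
  -- C2
  have hC2 : ∀ j₁ ∈ Δ, j₁ ∈ R' → j₁ ≠ i → ∀ j₂ ∈ Δ, j₂ ∈ R' → j₂ ≠ i → j₁ = j₂ := by
    intro j₁ hj₁ hj₁R hj₁i j₂ hj₂ hj₂R hj₂i
    by_contra hne
    obtain ⟨n₁, x₁, y₁, hn₁, h₁, -, -⟩ := hdec j₁ hj₁R
    obtain ⟨n₂, x₂, y₂, hn₂, h₂, -, -⟩ := hdec j₂ hj₂R
    have hy₂ := hC1 j₂ hj₂ hj₂i n₂ x₂ y₂ hn₂ h₂
    have hrel : (y₂ * n₁) • P.root j₁ - (y₁ * n₂) • P.root j₂ -
        (y₂ * x₁ - y₁ * x₂) • P.root i = 0 := by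
      rw [mul_smul, mul_smul, h₁, h₂]
      module
    have h1 : Finsupp.linearCombination ℤ P.root
        (Finsupp.single j₁ (y₂ * n₁) - Finsupp.single j₂ (y₁ * n₂) -
          Finsupp.single i (y₂ * x₁ - y₁ * x₂)) =
        Finsupp.linearCombination ℤ P.root 0 := by
      rw [map_sub, map_sub, Finsupp.linearCombination_single, Finsupp.linearCombination_single,
        Finsupp.linearCombination_single, map_zero]
      exact hrel
    have h2 := linearCombination_inj P hΔ.linInd
      (c := Finsupp.single j₁ (y₂ * n₁) - Finsupp.single j₂ (y₁ * n₂) -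
          Finsupp.single i (y₂ * x₁ - y₁ * x₂)) (d := 0)
      (by intro l hl
          rw [Finset.mem_coe, Finsupp.mem_support_iff] at hl
          by_contra hlΔ
          apply hl
          have e1 : l ≠ j₁ := fun e => hlΔ (e ▸ hj₁)
          have e2 : l ≠ j₂ := fun e => hlΔ (e ▸ hj₂)
          have e3 : l ≠ i := fun e => hlΔ (e ▸ hiΔ)
          simp [e1.symm, e2.symm, e3.symm])
      (by simp) h1
    have h3 := DFunLike.congr_fun h2 j₁
    simp only [Finsupp.coe_sub, Pi.sub_apply, Finsupp.single_eq_same, Finsupp.coe_zero,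
      Pi.zero_apply] at h3
    rw [Finsupp.single_eq_of_ne hne, Finsupp.single_eq_of_ne hj₁i, sub_zero, sub_zero] at h3
    rcases mul_eq_zero.mp h3 with h4 | h4
    · exact hy₂ h4
    · exact hn₁.ne' h4
  by_cases hex : ∃ j₀ ∈ Δ, j₀ ∈ R' ∧ j₀ ≠ i
  · obtain ⟨j₀, hj₀, hj₀R, hj₀i⟩ := hex
    refine ⟨j₀, hj₀, (coeff hΔ k i).toNat, (coeff hΔ k j₀).toNat, ?_⟩
    have hsub : (coeff hΔ k).support ⊆ {i, j₀} := by
      intro l hl
      obtain ⟨hlΔ, hlR⟩ := hsupp l hl
      rw [Finset.mem_insert, Finset.mem_singleton]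
      by_cases hli : l = i
      · exact Or.inl hli
      · exact Or.inr (hC2 l hlΔ hlR hli j₀ hj₀ hj₀R hj₀i)
    have h1 := coeff_spec hΔ k
    rw [Finsupp.linearCombination_apply,
      Finsupp.sum_of_support_subset _ hsub _ (by simp)] at h1
    rw [Finset.sum_pair (Ne.symm hj₀i)] at h1
    rw [← h1, ← natCast_zsmul, ← natCast_zsmul, Int.toNat_of_nonneg (hc0 i),
      Int.toNat_of_nonneg (hc0 j₀)]
  · exfalso
    push Not at hex
    have hsub : (coeff hΔ k).support ⊆ {i} := by
      intro l hl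
      obtain ⟨hlΔ, hlR⟩ := hsupp l hl
      rw [Finset.mem_singleton]
      by_contra hli
      exact hli (hex l hlΔ hlR)
    have h1 := coeff_spec hΔ k
    rw [Finsupp.linearCombination_apply,
      Finsupp.sum_of_support_subset _ hsub _ (by simp)] at h1
    rw [Finset.sum_singleton] at h1
    have h2 := (LinearIndependent.pair_iff.mp hli) (coeff hΔ k i) (-1)
      (by rw [h1]; simp)
    have := h2.2
    norm_num at this

end Groth.Agent.Helper7.RD
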