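import Groth.Agent.Lib.Helper7.RootD.Basic

/-! Root data over `ℤ`: coefficients of roots along a system of simple roots. -/

namespace Groth.Agent.Helper7.RD

open RootPairing _root_.RootD Set Function

variable {ι M N : Type*} [AddCommGroup M] [AddCommGroup N] {P : RootPairing ι ℤ M N}
  {Δ : Set ι}

lemma exists_coeff (hΔ : IsSimpleSys P Δ) (k : ι) :
    ∃ c : ι →₀ ℤ, ↑c.support ⊆ Δ ∧ ((∀ i, 0 ≤ c i) ∨ (∀ i, c i ≤ 0)) ∧
      Finsupp.linearCombination ℤ P.root c = P.root k := by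
  rcases hΔ.mem_or_neg_mem k with h | h
  · obtain ⟨c, hc, hc0, hck⟩ := (mem_natSpan_iff P).mp h
    exact ⟨c, hc, Or.inl hc0, hck⟩
  · obtain ⟨c, hc, hc0, hck⟩ := (neg_mem_natSpan_iff P).mp h
    exact ⟨c, hc, Or.inr hc0, hck⟩

/-- The coefficient vector of the root `k` along the simple system `Δ`. -/
noncomputable def coeff (hΔ : IsSimpleSys P Δ) (k : ι) : ι →₀ ℤ := (exists_coeff hΔ k).choose

lemma coeff_support (hΔ : IsSimpleSys P Δ) (k : ι) : ↑(coeff hΔ k).support ⊆ Δ :=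
  (exists_coeff hΔ k).choose_spec.1

lemma coeff_sign (hΔ : IsSimpleSys P Δ) (k : ι) :
    (∀ i, 0 ≤ coeff hΔ k i) ∨ (∀ i, coeff hΔ k i ≤ 0) :=
  (exists_coeff hΔ k).choose_spec.2.1

lemma coeff_spec (hΔ : IsSimpleSys P Δ) (k : ι) :
    Finsupp.linearCombination ℤ P.root (coeff hΔ k) = P.root k :=
  (exists_coeff hΔ k).choose_spec.2.2

lemma coeff_eq_zero_of_notMem (hΔ : IsSimpleSys P Δ) (k : ι) {i : ι} (hi : i ∉ Δ) :
    coeff hΔ k i = 0 := by
  by_contra h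
  exact hi (coeff_support hΔ k (Finsupp.mem_support_iff.mpr h))

lemma coeff_unique (hΔ : IsSimpleSys P Δ) (k : ι) {c : ι →₀ ℤ} (hc : ↑c.support ⊆ Δ)
    (hck : Finsupp.linearCombination ℤ P.root c = P.root k) : c = coeff hΔ k :=
  linearCombination_inj P hΔ.linInd hc (coeff_support hΔ k) (hck.trans (coeff_spec hΔ k).symm)

lemma coeff_ne_zero (hΔ : IsSimpleSys P Δ) (k : ι) : coeff hΔ k ≠ 0 := by
  intro h
  have := coeff_spec hΔ k
  rw [h, map_zero] at this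
  exact P.ne_zero k this.symm

lemma coeff_of_mem (hΔ : IsSimpleSys P Δ) {i : ι} (hi : i ∈ Δ) :
    coeff hΔ i = Finsupp.single i 1 := by
  classical
  symm
  apply coeff_unique hΔ
  · intro j hj
    have := Finsupp.support_single_subset hj
    simp only [Finset.mem_singleton] at this
    simpa [this] using hi
  · simp

lemma coeff_neg (hΔ : IsSimpleSys P Δ) (k : ι) : coeff hΔ (neg P k) = -coeff hΔ k := by
  symm
  apply coeff_unique hΔ
  · simpa using coeff_support hΔ k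
  · simp [coeff_spec hΔ k]

lemma mem_posOf_iff (hΔ : IsSimpleSys P Δ) (k : ι) :
    k ∈ posOf P Δ ↔ ∀ i, 0 ≤ coeff hΔ k i := by
  constructor
  · intro h
    obtain ⟨c, hc, hc0, hck⟩ := (mem_natSpan_iff P).mp h
    rw [← coeff_unique hΔ k hc hck]
    exact hc0
  · intro h
    exact (mem_natSpan_iff P).mpr ⟨_, coeff_support hΔ k, h, coeff_spec hΔ k⟩

lemma neg_mem_posOf_iff (hΔ : IsSimpleSys P Δ) (k : ι) :
    neg P k ∈ posOf P Δ ↔ ∀ i, coeff hΔ k i ≤ 0 := by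
  rw [mem_posOf_iff hΔ, coeff_neg]
  simp

lemma mem_posOf_or_neg (hΔ : IsSimpleSys P Δ) (k : ι) :
    k ∈ posOf P Δ ∨ neg P k ∈ posOf P Δ := by
  rw [mem_posOf_iff hΔ, neg_mem_posOf_iff hΔ]
  exact coeff_sign hΔ k

lemma exists_coeff_ne_zero (hΔ : IsSimpleSys P Δ) (k : ι) : ∃ i ∈ Δ, coeff hΔ k i ≠ 0 := by
  have h := coeff_ne_zero hΔ k
  obtain ⟨i, hi⟩ : ∃ i, coeff hΔ k i ≠ 0 := by
    by_contra hcon
    push Not at hcon
    exact h (Finsupp.ext hcon)
  exact ⟨i, coeff_support hΔ k (Finsupp.mem_support_iff.mpr hi), hi⟩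

lemma not_mem_posOf_and_neg (hΔ : IsSimpleSys P Δ) (k : ι) :
    ¬ (k ∈ posOf P Δ ∧ neg P k ∈ posOf P Δ) := by
  rw [mem_posOf_iff hΔ, neg_mem_posOf_iff hΔ]
  rintro ⟨h1, h2⟩
  obtain ⟨i, -, hi⟩ := exists_coeff_ne_zero hΔ k
  exact hi (le_antisymm (h2 i) (h1 i))

/-- positivity can be tested on one non-zero coefficient -/
lemma mem_posOf_of_coeff_pos (hΔ : IsSimpleSys P Δ) {k i : ι} (h : 0 < coeff hΔ k i) :
    k ∈ posOf P Δ := by
  rw [mem_posOf_iff hΔ]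
  rcases coeff_sign hΔ k with h1 | h1
  · exact h1
  · exact absurd (h1 i) (not_le.mpr h)

lemma coeff_pos_of_mem_posOf (hΔ : IsSimpleSys P Δ) {k : ι} (hk : k ∈ posOf P Δ) :
    ∃ i ∈ Δ, 0 < coeff hΔ k i := by
  obtain ⟨i, hiΔ, hi⟩ := exists_coeff_ne_zero hΔ k
  exact ⟨i, hiΔ, lt_of_le_of_ne ((mem_posOf_iff hΔ k).mp hk i) (Ne.symm hi)⟩

lemma subset_posOf (hΔ : IsSimpleSys P Δ) : Δ ⊆ posOf P Δ :=
  fun _ hi => root_mem_natSpan P hi

/-- coefficients of a reflected root -/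
lemma coeff_reflectionPerm (hΔ : IsSimpleSys P Δ) (i k : ι) :
    coeff hΔ (P.reflectionPerm i k) = coeff hΔ k - P.pairing k i • coeff hΔ i := by
  classical
  symm
  apply coeff_unique hΔ
  · intro j hj
    have hj' := Finsupp.support_sub hj
    rcases Finset.mem_union.mp hj' with h | h
    · exact coeff_support hΔ k h
    · exact coeff_support hΔ i (Finsupp.support_smul h)
  · rw [map_sub, map_smul, coeff_spec, coeff_spec, root_reflectionPerm, reflection_apply_root]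

lemma coeff_reflectionPerm_of_mem (hΔ : IsSimpleSys P Δ) {i : ι} (hi : i ∈ Δ) (k j : ι)
    (hj : j ≠ i) : coeff hΔ (P.reflectionPerm i k) j = coeff hΔ k j := by
  rw [coeff_reflectionPerm, coeff_of_mem hΔ hi]
  simp [Finsupp.single_apply, hj.symm]

end Groth.Agent.Helper7.RD
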